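import Mathlib
import Cfsg.Prelude.Def_ChevStructure
import Cfsg.Prelude.Def_LieTwisted
import Cfsg.Agent.Lib.Helper5.ChevSymPCore
import Cfsg.Agent.Lib.Helper5.ChevSymH
import Cfsg.Agent.Lib.Helper5.ChevXGL

set_option autoImplicit false

/-!
In characteristic 3 the Chevalley algebra of type `G₂` has the ideal `I` spanned by the short root
vectors and `h_a`; the action of `x_r(t)` on the quotient by `I` is, in the basis relabelled by
the bijection `β` between long and short roots, the action of `x_{π r}(t^{λ r})` on `I`.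
-/

namespace Cfsg.Agent.Lib.Helper5.Ree

open Cfsg Cfsg.Lie Cfsg.Agent.Lib.Helper5.ChevSym Cfsg.Agent.Lib.Helper5.ChevSymP
  Cfsg.Agent.Lib.Helper5.ChevStruct

/-! ### Block relations of matrices -/

section blocks

variable {ι : Type*} {R : Type*} [CommRing R]
  (Q : ι → Prop) (β : Equiv.Perm ι)

/-- the span of the basis vectors outside `Q` is invariant -/
def BInv (g : Matrix ι ι R) : Prop := ∀ i j, Q i → ¬ Q j → g i j = 0

/-- the action of `g` on the quotient is the action of `g'` on the invariant subspace -/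
def BRel (g g' : Matrix ι ι R) : Prop := ∀ i j, Q i → Q j → g i j = g' (β i) (β j)

theorem bInv_one [DecidableEq ι] : BInv Q (1 : Matrix ι ι R) := by
  intro i j hi hj
  rw [Matrix.one_apply_ne]
  rintro rfl
  exact hj hi

theorem BInv.mul [Fintype ι] {g h : Matrix ι ι R} (hg : BInv Q g) (hh : BInv Q h) : BInv Q (g * h) := by
  intro i j hi hj
  rw [Matrix.mul_apply]
  apply Finset.sum_eq_zero
  intro k _
  by_cases hk : Q k
  · rw [hh k j hk hj, mul_zero]
  · rw [hg i k hi hk, zero_mul]

theorem bRel_one [DecidableEq ι] : BRel Q β (1 : Matrix ι ι R) 1 := by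
  intro i j _ _
  by_cases h : i = j
  · subst h; simp
  · rw [Matrix.one_apply_ne h, Matrix.one_apply_ne (fun e => h (β.injective e))]

theorem BRel.mul [Fintype ι] (hβ : ∀ i, Q (β i) ↔ ¬ Q i) {g h g' h' : Matrix ι ι R}
    (hg : BInv Q g) (hh' : BInv Q h') (h1 : BRel Q β g g') (h2 : BRel Q β h h') :
    BRel Q β (g * h) (g' * h') := by
  intro i j hi hj
  rw [Matrix.mul_apply, Matrix.mul_apply, ← Equiv.sum_comp β (fun k => g' (β i) k * h' k (β j))]
  apply Finset.sum_congr rfl
  intro k _
  by_cases hk : Q k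
  · rw [h1 i k hi hk, h2 k j hk hj]
  · rw [hg i k hi hk, zero_mul, hh' (β k) (β j) ((hβ k).2 hk) (fun h => ((hβ j).1 h) hj), mul_zero]

end blocks

/-! ### The data for `G₂` -/

/-- codes of `h_b` and of the long root vectors -/
def qCodes : List ℕ := [1, 8, 12, 13, 7, 3, 2]

/-- codes of `h_a` and of the short root vectors -/
def iCodes : List ℕ := [0, 9, 10, 11, 6, 5, 4]

/-- the bijection between the two, on codes -/
def betaN (n : ℕ) : ℕ := [1, 0, 4, 5, 2, 3, 7, 6, 9, 8, 12, 13, 10, 11].getD n n

/-- the bijection of the roots -/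
def piR (r : ℕ) : ℕ := [2, 3, 0, 1, 5, 4, 7, 6, 10, 11, 8, 9].getD r r

/-- `3` on the short roots, `1` on the long roots -/
def lam (r : ℕ) : ℕ := [1, 1, 3, 3, 3, 1, 1, 3, 3, 3, 1, 1].getD r 1

theorem betaN_facts : ∀ n < 14, betaN n < 14 ∧ betaN (betaN n) = n ∧
    (memNat (betaN n) qCodes = true ↔ ¬ memNat n qCodes = true) ∧
    (memNat n qCodes = false → memNat n iCodes = true) := by decide

theorem piR_facts : ∀ r < 12, piR r < 12 ∧ piR (piR r) = r ∧ lam r * lam (piR r) = 3 ∧
    betaN (2 + r) = 2 + piR r := by decide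

theorem rank_add_nroots : chevG2.rank + chevG2.nroots = 14 := rfl

/-- membership in the quotient part -/
def isQ (i : chevG2.Idx) : Prop := memNat (code chevG2 i) qCodes = true

instance : DecidablePred isQ := fun i => by unfold isQ; infer_instance

theorem code_lt14 (i : chevG2.Idx) : code chevG2 i < 14 := code_lt chevG2 i

theorem betaN_lt (i : chevG2.Idx) : betaN (code chevG2 i) < chevG2.rank + chevG2.nroots :=
  (betaN_facts _ (code_lt14 i)).1

/-- the bijection `β` of the coordinates, as a function -/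
def betaF (i : chevG2.Idx) : chevG2.Idx := decode chevG2 (betaN (code chevG2 i)) (betaN_lt i)

theorem code_betaF (i : chevG2.Idx) : code chevG2 (betaF i) = betaN (code chevG2 i) := by
  unfold betaF
  rw [code_decode]

theorem betaF_betaF (i : chevG2.Idx) : betaF (betaF i) = i := by
  apply code_injective
  rw [code_betaF, code_betaF, (betaN_facts _ (code_lt14 i)).2.1]

/-- the bijection `β` of the coordinates -/
def betaI : Equiv.Perm chevG2.Idx where
  toFun := betaF
  invFun := betaF
  left_inv := betaF_betaF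
  right_inv := betaF_betaF

theorem code_betaI (i : chevG2.Idx) : code chevG2 (betaI i) = betaN (code chevG2 i) :=
  code_betaF i

theorem isQ_betaI (i : chevG2.Idx) : isQ (betaI i) ↔ ¬ isQ i := by
  unfold isQ
  rw [code_betaI]
  exact (betaN_facts _ (code_lt14 i)).2.2.1

/-! ### The check on the generators -/

/-- the one-letter symbolic word `x_r(t^e)` -/
def sw (r e : ℕ) : List (ℕ × PolyP) := [(r, [([e], 1)])]

/-- the entry `n` of a symbolic vector, moved to position `0` -/
def entry0 (v : VecP) (n : ℕ) : VecP :=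
  (v.filter fun τ => Nat.beq τ.idx n).map fun τ => ⟨0, τ.es, τ.c⟩

def chkInvAt (r : ℕ) : Bool :=
  iCodes.all fun j => qCodes.all fun i => isNilP (entry0 (wordColP chevG2 3 (sw r 1) j) i)

def chkRelAt (r : ℕ) : Bool :=
  qCodes.all fun j => qCodes.all fun i =>
    vecEqP 3 (entry0 (wordColP chevG2 3 (sw r 1) j) i)
      (entry0 (wordColP chevG2 3 (sw (piR r) (lam r)) (betaN j)) (betaN i))

set_option maxRecDepth 1000000 in
theorem chk_all : ∀ r < 12, chkInvAt r = true ∧ chkRelAt r = true := by decide +kernel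

section sound

variable {K : Type*} [Field K]

theorem evalVecP_entry0 (vals : List K) (v : VecP) (n : ℕ) :
    evalVecP vals (entry0 v n) 0 = evalVecP vals v n := by
  induction v with
  | nil => rfl
  | cons τ v ih =>
    rw [evalVecP_cons]
    unfold entry0 at ih ⊢
    by_cases h : τ.idx = n
    · have hb : Nat.beq τ.idx n = true := by rw [Nat.beq_eq]; exact h
      rw [List.filter_cons_of_pos (by simpa using hb), List.map_cons, evalVecP_cons, ih]
      simp [h, TermP.val]
    · have hb : ¬ (Nat.beq τ.idx n = true) := by rw [Nat.beq_eq]; exact h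
      rw [List.filter_cons_of_neg (by simpa using hb), ih]
      simp [h]

theorem evalWP_sw (r e : ℕ) (t : K) : evalWP [t] (sw r e) = [(r, t ^ e)] := by
  simp [evalWP, sw, evalPolyP, evalMonoP, monoVal]

theorem x_entry (hp : ((3 : ℕ) : K) = 0) (r e : ℕ) (t : K) (row col : chevG2.Idx) :
    chevG2.x K r (t ^ e) row col
      = evalVecP [t] (entry0 (wordColP chevG2 3 (sw r e) (code chevG2 col)) (code chevG2 row)) 0 := by
  rw [evalVecP_entry0, wordColP_sound chevG2 3 [t] hp, evalWP_sw]
  simp [ChevalleyDatum.wordMat]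

theorem isNilP_eq {v : VecP} (h : isNilP v = true) : v = [] := by
  cases v with
  | nil => rfl
  | cons _ _ => exact Bool.noConfusion h

theorem not_isQ_mem (j : chevG2.Idx) (hj : ¬ isQ j) : code chevG2 j ∈ iCodes := by
  rw [← memNat_iff]
  apply (betaN_facts _ (code_lt14 j)).2.2.2
  unfold isQ at hj
  rw [Bool.not_eq_true] at hj
  exact hj

theorem isQ_mem (j : chevG2.Idx) (hj : isQ j) : code chevG2 j ∈ qCodes := (memNat_iff _ _).1 hj

/-- the root elements leave `I` invariant -/
theorem x_bInv (hp : ((3 : ℕ) : K) = 0) (r : ℕ) (t : K) : BInv isQ (chevG2.x K r t) := by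
  by_cases hr : r < 12
  · intro i j hi hj
    have h := (chk_all r hr).1
    unfold chkInvAt at h
    rw [List.all_eq_true] at h
    have h1 := h _ (not_isQ_mem j hj)
    rw [List.all_eq_true] at h1
    have h2 := isNilP_eq (h1 _ (isQ_mem i hi))
    have := x_entry hp r 1 t i j
    rw [pow_one, h2] at this
    rw [this]
    rfl
  · have : chevG2.x K r t = 1 := by
      unfold ChevalleyDatum.x
      have hr' : ¬ r < chevG2.nroots := hr
      rw [dif_neg hr']
    rw [this]
    exact bInv_one _

/-- the action of `x_r(t)` on the quotient is that of `x_{π r}(t^{λ r})` on `I` -/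
theorem x_bRel (hp : ((3 : ℕ) : K) = 0) (r : ℕ) (hr : r < 12) (t : K) :
    BRel isQ betaI (chevG2.x K r t) (chevG2.x K (piR r) (t ^ lam r)) := by
  intro i j hi hj
  have h := (chk_all r hr).2
  unfold chkRelAt at h
  rw [List.all_eq_true] at h
  have h1 := h _ (isQ_mem j hj)
  rw [List.all_eq_true] at h1
  have h2 := h1 _ (isQ_mem i hi)
  have e1 := x_entry hp r 1 t i j
  rw [pow_one] at e1
  rw [e1, x_entry hp (piR r) (lam r) t (betaI i) (betaI j), code_betaI, code_betaI]
  exact eq_of_vecEqP 3 [t] hp _ _ h2 0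

end sound

end Cfsg.Agent.Lib.Helper5.Ree
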