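import Mathlib
import Cfsg.Prelude.Def_ChevStructure
import Cfsg.Prelude.Def_LieTwisted
import Cfsg.Agent.Lib.Helper5.ChevSymPCore

set_option autoImplicit false

/-!
Identities between words in root elements of `G₂` in characteristic 3, checked symbolically.
-/

namespace Cfsg.Agent.Lib.Helper5.Ree

open Cfsg Cfsg.Lie Cfsg.Agent.Lib.Helper5.ChevSym Cfsg.Agent.Lib.Helper5.ChevSymP

/-- a word with constant parameters -/
def constW (l : List (ℕ × ℤ)) : List (ℕ × PolyP) := l.map fun p => (p.1, [([], p.2)])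

theorem evalWP_constW {K : Type*} [Field K] (vals : List K) (l : List (ℕ × ℤ)) :
    evalWP vals (constW l) = l.map fun p => (p.1, ((p.2 : ℤ) : K)) := by
  unfold evalWP constW
  rw [List.map_map]
  apply List.map_congr_left
  intro p _
  simp [evalPolyP, evalMonoP, monoVal_nil_right]

/-- all the columns -/
def allCols : List ℕ := List.range 14

theorem supp_le : ∀ r < 12, ∀ c ∈ supp chevG2 r, c ∈ allCols := by decide

/-- equality of the matrices of two symbolic words from the check -/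
theorem wordMat_eq_of_check {K : Type*} [Field K] (hp : ((3 : ℕ) : K) = 0) (vals : List K)
    (w1 w2 : List (ℕ × PolyP)) (hr : ∀ rp ∈ w1 ++ w2, rp.1 < 12)
    (h : ∀ col ∈ allCols, vecEqP 3 (wordColP chevG2 3 w1 col) (wordColP chevG2 3 w2 col) = true) :
    chevG2.wordMat K (evalWP vals w1) = chevG2.wordMat K (evalWP vals w2) :=
  wordMat_eq_of_colsP chevG2 3 vals hp w1 w2 allCols (fun rp hrp => supp_le rp.1 (hr rp hrp)) h

/-! ### The reordering identity -/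

-- variables: t = 0, T = 1, u = 2, U = 3, v = 4, V = 5
def pw1 : List (ℕ × PolyP) :=
  [(6, [([1,0,0,0,0,0], 1)]), (7, [([0,1,0,0,0,0], 1)]),
   (10, [([1,3,0,0,0,0], 1), ([0,0,1,0,0,0], 1)]), (11, [([2,3,0,0,0,0], 1), ([0,0,0,0,1,0], 1)]),
   (8, [([0,0,0,1,0,0], 1)]), (9, [([0,0,0,0,0,1], 1)])]

def pw2 : List (ℕ × PolyP) :=
  [(7, [([0,1,0,0,0,0], 1)]), (6, [([1,0,0,0,0,0], 1)]),
   (8, [([1,1,0,0,0,0], 1), ([0,0,0,1,0,0], 1)]), (9, [([1,2,0,0,0,0], 1), ([0,0,0,0,0,1], 1)]),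
   (10, [([0,0,1,0,0,0], 1)]), (11, [([0,0,0,0,1,0], 1)])]

def nw1 : List (ℕ × PolyP) :=
  [(5, [([1,0,0,0,0,0], -1)]), (4, [([0,1,0,0,0,0], -1)]),
   (1, [([1,3,0,0,0,0], -1), ([0,0,1,0,0,0], -1)]), (0, [([2,3,0,0,0,0], -1), ([0,0,0,0,1,0], -1)]),
   (3, [([0,0,0,1,0,0], -1)]), (2, [([0,0,0,0,0,1], -1)])]

def nw2 : List (ℕ × PolyP) :=
  [(4, [([0,1,0,0,0,0], -1)]), (5, [([1,0,0,0,0,0], -1)]),
   (3, [([1,1,0,0,0,0], -1), ([0,0,0,1,0,0], -1)]), (2, [([1,2,0,0,0,0], -1), ([0,0,0,0,0,1], -1)]),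
   (1, [([0,0,1,0,0,0], -1)]), (0, [([0,0,0,0,1,0], -1)])]

set_option maxRecDepth 1000000 in
theorem chk_pos : ∀ col ∈ allCols,
    vecEqP 3 (wordColP chevG2 3 pw1 col) (wordColP chevG2 3 pw2 col) = true := by decide +kernel

set_option maxRecDepth 1000000 in
theorem chk_neg : ∀ col ∈ allCols,
    vecEqP 3 (wordColP chevG2 3 nw1 col) (wordColP chevG2 3 nw2 col) = true := by decide +kernel

section

variable {K : Type*} [Field K]

/-- reordering a product of positive root elements -/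
theorem reorder_pos (hp : ((3 : ℕ) : K) = 0) (t T u U v V : K) :
    chevG2.wordMat K [(6, t), (7, T), (10, t * T ^ 3 + u), (11, t ^ 2 * T ^ 3 + v), (8, U), (9, V)]
      = chevG2.wordMat K [(7, T), (6, t), (8, t * T + U), (9, t * T ^ 2 + V), (10, u), (11, v)] := by
  have h := wordMat_eq_of_check hp [t, T, u, U, v, V] pw1 pw2 (by decide) chk_pos
  have e1 : evalWP [t, T, u, U, v, V] pw1
      = [(6, t), (7, T), (10, t * T ^ 3 + u), (11, t ^ 2 * T ^ 3 + v), (8, U), (9, V)] := by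
    simp [evalWP, pw1, evalPolyP, evalMonoP, monoVal]
  have e2 : evalWP [t, T, u, U, v, V] pw2
      = [(7, T), (6, t), (8, t * T + U), (9, t * T ^ 2 + V), (10, u), (11, v)] := by
    simp [evalWP, pw2, evalPolyP, evalMonoP, monoVal]
  rw [e1, e2] at h
  exact h

/-- reordering a product of negative root elements -/
theorem reorder_neg (hp : ((3 : ℕ) : K) = 0) (t T u U v V : K) :
    chevG2.wordMat K [(5, -t), (4, -T), (1, -(t * T ^ 3 + u)), (0, -(t ^ 2 * T ^ 3 + v)), (3, -U),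
        (2, -V)]
      = chevG2.wordMat K [(4, -T), (5, -t), (3, -(t * T + U)), (2, -(t * T ^ 2 + V)), (1, -u),
        (0, -v)] := by
  have h := wordMat_eq_of_check hp [t, T, u, U, v, V] nw1 nw2 (by decide) chk_neg
  have e1 : evalWP [t, T, u, U, v, V] nw1
      = [(5, -t), (4, -T), (1, -(t * T ^ 3 + u)), (0, -(t ^ 2 * T ^ 3 + v)), (3, -U), (2, -V)] := by
    simp [evalWP, nw1, evalPolyP, evalMonoP, monoVal]
    constructor <;> ring
  have e2 : evalWP [t, T, u, U, v, V] nw2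
      = [(4, -T), (5, -t), (3, -(t * T + U)), (2, -(t * T ^ 2 + V)), (1, -u), (0, -v)] := by
    simp [evalWP, nw2, evalPolyP, evalMonoP, monoVal]
    constructor <;> ring
  rw [e1, e2] at h
  exact h

end

/-! ### Constant words -/

/-- `α(0,1,0) β(0,1,0) α(0,1,0)` -/
def n0W : List (ℕ × ℤ) :=
  [(7,0),(6,0),(8,1),(9,0),(10,1),(11,0), (4,0),(5,0),(3,-1),(2,0),(1,-1),(0,0),
   (7,0),(6,0),(8,1),(9,0),(10,1),(11,0)]

/-- `(n_a n_b)³` -/
def w0W : List (ℕ × ℤ) :=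
  [(7,1),(4,-1),(7,1),(6,1),(5,-1),(6,1), (7,1),(4,-1),(7,1),(6,1),(5,-1),(6,1),
   (7,1),(4,-1),(7,1),(6,1),(5,-1),(6,1)]

/-- `α(0,0,1) β(0,0,1) α(1,1,1) β(-1,1,-1)` -/
def jW : List (ℕ × ℤ) :=
  [(7,0),(6,0),(8,0),(9,1),(10,0),(11,1), (4,0),(5,0),(3,0),(2,-1),(1,0),(0,-1),
   (7,1),(6,1),(8,2),(9,2),(10,1),(11,1), (4,1),(5,1),(3,-2),(2,2),(1,-1),(0,1)]

/-- `h_a(-1) h_b(-1)` -/
def hjW : List (ℕ × ℤ) :=
  [(7,-1),(4,1),(7,-1),(7,-1),(4,1),(7,-1), (6,-1),(5,1),(6,-1),(6,-1),(5,1),(6,-1)]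

set_option maxRecDepth 1000000 in
theorem chk_n0 : ∀ col ∈ allCols, vecEqP 3 (wordColP chevG2 3 (constW n0W) col)
    (wordColP chevG2 3 (constW w0W) col) = true := by decide +kernel

set_option maxRecDepth 1000000 in
theorem chk_j : ∀ col ∈ allCols, vecEqP 3 (wordColP chevG2 3 (constW jW) col)
    (wordColP chevG2 3 (constW hjW) col) = true := by decide +kernel

section

variable {K : Type*} [Field K]

theorem n0_eq (hp : ((3 : ℕ) : K) = 0) :
    chevG2.wordMat K (n0W.map fun p => (p.1, ((p.2 : ℤ) : K)))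
      = chevG2.wordMat K (w0W.map fun p => (p.1, ((p.2 : ℤ) : K))) := by
  have h := wordMat_eq_of_check hp ([] : List K) _ _ (by decide) chk_n0
  rw [evalWP_constW, evalWP_constW] at h
  exact h

theorem j_eq (hp : ((3 : ℕ) : K) = 0) :
    chevG2.wordMat K (jW.map fun p => (p.1, ((p.2 : ℤ) : K)))
      = chevG2.wordMat K (hjW.map fun p => (p.1, ((p.2 : ℤ) : K))) := by
  have h := wordMat_eq_of_check hp ([] : List K) _ _ (by decide) chk_j
  rw [evalWP_constW, evalWP_constW] at h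
  exact h

end

end Cfsg.Agent.Lib.Helper5.Ree
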