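import Mathlib
import Cfsg.Prelude.Def_ChevStructure
import Cfsg.Prelude.Def_LieTwisted
import Cfsg.Agent.Lib.Helper5.Ree.Block
import Cfsg.Agent.Lib.Helper5.ChevSimple
import Cfsg.Agent.Lib.Helper5.ChevFieldMap

set_option autoImplicit false

/-!
The exceptional endomorphism `τ` of the Chevalley group of type `G₂` in characteristic 3, with
`τ(x_r(t)) = x_{π r}(t^{λ r})`.
-/

namespace Cfsg.Agent.Lib.Helper5.Ree

open Cfsg Cfsg.Lie Cfsg.Agent.Lib.Helper5.ChevSym Cfsg.Agent.Lib.Helper5.ChevSymP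
  Cfsg.Agent.Lib.Helper5.ChevStruct

theorem hG2 : chevG2 ∈ Seven := List.mem_cons_self ..

variable {K : Type*} [Field K]

/-- the root elements -/
def gens (K : Type*) [Field K] : Set (GL chevG2.Idx K) :=
  {g | ∃ (r : ℕ) (t : K), g = xGL chevG2 hG2 r t}

theorem xGL_inv' (r : ℕ) (t : K) : (xGL chevG2 hG2 r t)⁻¹ = xGL chevG2 hG2 r (-t) := by
  apply Units.ext
  rfl

theorem xGL_of_not_lt (r : ℕ) (hr : ¬ r < 12) (t : K) : xGL chevG2 hG2 r t = 1 := by
  apply Units.ext
  rw [xGL_val, Units.val_one]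
  unfold ChevalleyDatum.x
  have hr' : ¬ r < chevG2.nroots := hr
  rw [dif_neg hr']

theorem gens_inv : (gens K)⁻¹ = gens K := by
  ext g
  constructor
  · rintro ⟨r, t, h⟩
    refine ⟨r, -t, ?_⟩
    rw [← xGL_inv', ← h, inv_inv]
  · rintro ⟨r, t, rfl⟩
    refine ⟨r, -t, ?_⟩
    rw [xGL_inv']

theorem group_eq_closure : chevG2.group K = Subgroup.closure (gens K) := by
  apply le_antisymm
  · unfold ChevalleyDatum.group
    rw [Subgroup.closure_le]
    rintro g ⟨r, t, hg⟩
    apply Subgroup.subset_closure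
    refine ⟨r.1, t, ?_⟩
    apply Units.ext
    rw [hg, xGL_val]
    unfold ChevalleyDatum.x
    rw [dif_pos r.2]
  · rw [Subgroup.closure_le]
    rintro g ⟨r, t, rfl⟩
    exact xGL_mem_group chevG2 hG2 r t

theorem mem_group_iff (g : GL chevG2.Idx K) :
    g ∈ chevG2.group K ↔ g ∈ Submonoid.closure (gens K) := by
  rw [group_eq_closure, ← Subgroup.mem_toSubmonoid, Subgroup.closure_toSubmonoid, gens_inv,
    Set.union_self]

/-- induction on the Chevalley group -/
theorem group_induction {p : GL chevG2.Idx K → Prop} (h1 : p 1)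
    (hx : ∀ (r : ℕ) (t : K), p (xGL chevG2 hG2 r t))
    (hmul : ∀ a b, a ∈ chevG2.group K → b ∈ chevG2.group K → p a → p b → p (a * b))
    (g : GL chevG2.Idx K) (hg : g ∈ chevG2.group K) : p g := by
  rw [mem_group_iff] at hg
  induction hg using Submonoid.closure_induction with
  | mem x hx' =>
    obtain ⟨r, t, rfl⟩ := hx'
    exact hx r t
  | one => exact h1
  | mul a b ha hb iha ihb =>
    exact hmul a b ((mem_group_iff a).2 ha) ((mem_group_iff b).2 hb) iha ihb

section char3

variable [CharP K 3]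

theorem three_eq_zero : ((3 : ℕ) : K) = 0 := CharP.cast_eq_zero K 3

/-- the elements of the Chevalley group leave `I` invariant -/
theorem group_bInv (g : GL chevG2.Idx K) (hg : g ∈ chevG2.group K) :
    BInv isQ (g : Matrix chevG2.Idx chevG2.Idx K) := by
  refine group_induction (p := fun g => BInv isQ (g : Matrix chevG2.Idx chevG2.Idx K))
    ?_ ?_ ?_ g hg
  · rw [Units.val_one]; exact bInv_one _
  · intro r t
    rw [xGL_val]
    exact x_bInv three_eq_zero r t
  · intro a b _ _ ha hb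
    rw [Units.val_mul]
    exact ha.mul _ hb

theorem piR_of_not_lt (r : ℕ) (hr : ¬ r < 12) : piR r = r := by
  unfold piR
  rw [List.getD_eq_default]
  simp only [List.length_cons, List.length_nil]
  omega

/-- every element has a partner -/
theorem exists_partner (g : GL chevG2.Idx K) (hg : g ∈ chevG2.group K) :
    ∃ g' ∈ chevG2.group K, BRel isQ betaI (g : Matrix chevG2.Idx chevG2.Idx K)
      (g' : Matrix chevG2.Idx chevG2.Idx K) := by
  refine group_induction (p := fun g => ∃ g' ∈ chevG2.group K,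
    BRel isQ betaI (g : Matrix chevG2.Idx chevG2.Idx K) (g' : Matrix chevG2.Idx chevG2.Idx K))
    ?_ ?_ ?_ g hg
  · exact ⟨1, one_mem _, by rw [Units.val_one]; exact bRel_one _ _⟩
  · intro r t
    by_cases hr : r < 12
    · refine ⟨xGL chevG2 hG2 (piR r) (t ^ lam r), xGL_mem_group _ _ _ _, ?_⟩
      rw [xGL_val, xGL_val]
      exact x_bRel three_eq_zero r hr t
    · refine ⟨1, one_mem _, ?_⟩
      rw [xGL_of_not_lt r hr, Units.val_one]
      exact bRel_one _ _
  · rintro a b ha hb ⟨a', ha', h1⟩ ⟨b', hb', h2⟩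
    refine ⟨a' * b', mul_mem ha' hb', ?_⟩
    rw [Units.val_mul, Units.val_mul]
    exact BRel.mul _ _ isQ_betaI (group_bInv a ha) (group_bInv b' hb') h1 h2

/-! ### The action on `I` is faithful -/

/-- the action on `I` -/
def iRep : ↥(chevG2.group K) →* Matrix {i : chevG2.Idx // ¬ isQ i} {i : chevG2.Idx // ¬ isQ i} K where
  toFun g := (g.1 : Matrix chevG2.Idx chevG2.Idx K).submatrix Subtype.val Subtype.val
  map_one' := by
    show ((1 : GL chevG2.Idx K) : Matrix chevG2.Idx chevG2.Idx K).submatrix Subtype.val Subtype.val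
      = 1
    rw [Units.val_one]
    exact Matrix.submatrix_one _ Subtype.val_injective
  map_mul' a b := by
    show ((a.1 * b.1 : GL chevG2.Idx K) : Matrix chevG2.Idx chevG2.Idx K).submatrix
      Subtype.val Subtype.val = _
    ext i j
    rw [Units.val_mul, Matrix.submatrix_apply, Matrix.mul_apply, Matrix.mul_apply]
    simp only [Matrix.submatrix_apply]
    rw [← Finset.sum_subtype (Finset.univ.filter fun k => ¬ isQ k) (by simp)
      (fun k => (a.1 : Matrix chevG2.Idx chevG2.Idx K) i.1 k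
        * (b.1 : Matrix chevG2.Idx chevG2.Idx K) k j.1), Finset.sum_filter]
    apply Finset.sum_congr rfl
    intro k _
    split_ifs with hk
    · rw [group_bInv b.1 b.2 k j.1 hk j.2, mul_zero]
    · rfl

omit [CharP K 3] in
theorem iRep_apply [CharP K 3] (g : ↥(chevG2.group K)) (i j : {i : chevG2.Idx // ¬ isQ i}) :
    iRep g i j = (g.1 : Matrix chevG2.Idx chevG2.Idx K) i.1 j.1 := rfl

theorem neg_two_ne_zero : (-2 : K) ≠ 0 := by
  have h3 : (3 : K) = 0 := by
    have := three_eq_zero (K := K)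
    exact_mod_cast this
  intro h
  have : (1 : K) = 0 := by linear_combination h3 + h
  exact one_ne_zero this

theorem exists_ne_zero_one : ∃ a : K, a ≠ 0 ∧ a ≠ 1 := by
  refine ⟨-1, neg_ne_zero.2 one_ne_zero, fun h => ?_⟩
  apply neg_two_ne_zero (K := K)
  linear_combination h

omit [CharP K 3] in
theorem x7_entry (t : K) :
    chevG2.x K 7 t (Sum.inr ⟨7, by decide⟩) (Sum.inl ⟨0, by decide⟩) = -2 * t := by
  rw [← xData_sound]
  have : xData chevG2 7 (code chevG2 (Sum.inl ⟨0, by decide⟩)) = [(0, 1, 0), (9, -2, 1)] := by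
    decide
  rw [this]
  simp [dataVal, code, show chevG2.rank = 2 from rfl]

theorem iRep_ker_ne_top : (iRep (K := K)).ker ≠ ⊤ := by
  intro h
  have hmem : (⟨xGL chevG2 hG2 7 1, xGL_mem_group _ _ _ _⟩ : ↥(chevG2.group K)) ∈ (iRep (K := K)).ker := by
    rw [h]; trivial
  rw [MonoidHom.mem_ker] at hmem
  have hi : ¬ isQ (Sum.inr ⟨7, by decide⟩ : chevG2.Idx) := by decide
  have hj : ¬ isQ (Sum.inl ⟨0, by decide⟩ : chevG2.Idx) := by decide
  have := congrFun (congrFun hmem ⟨_, hi⟩) ⟨_, hj⟩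
  rw [iRep_apply] at this
  simp only [xGL_val] at this
  rw [x7_entry, Matrix.one_apply_ne (by simp)] at this
  rw [mul_one] at this
  exact neg_two_ne_zero this

theorem iRep_injective : Function.Injective (iRep (K := K)) := by
  have hs := (group_simple (F := K) chevG2 hG2 (fun _ => exists_ne_zero_one)).1
  have hker : (iRep (K := K)).ker = ⊥ :=
    ((iRep (K := K)).normal_ker.eq_bot_or_eq_top).resolve_right iRep_ker_ne_top
  intro a b hab
  have : a * b⁻¹ ∈ (iRep (K := K)).ker := by
    rw [MonoidHom.mem_ker, map_mul, hab, ← map_mul, mul_inv_cancel, map_one]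
  rw [hker, Subgroup.mem_bot] at this
  exact mul_inv_eq_one.1 this

/-- a partner is unique -/
theorem partner_unique (g g' g'' : GL chevG2.Idx K) (hg' : g' ∈ chevG2.group K)
    (hg'' : g'' ∈ chevG2.group K)
    (h1 : BRel isQ betaI (g : Matrix chevG2.Idx chevG2.Idx K) (g' : Matrix chevG2.Idx chevG2.Idx K))
    (h2 : BRel isQ betaI (g : Matrix chevG2.Idx chevG2.Idx K) (g'' : Matrix chevG2.Idx chevG2.Idx K)) :
    g' = g'' := by
  have : (⟨g', hg'⟩ : ↥(chevG2.group K)) = ⟨g'', hg''⟩ := by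
    apply iRep_injective
    ext i j
    rw [iRep_apply, iRep_apply]
    have hi : isQ (betaI i.1) := (isQ_betaI i.1).2 i.2
    have hj : isQ (betaI j.1) := (isQ_betaI j.1).2 j.2
    have e1 := h1 _ _ hi hj
    have e2 := h2 _ _ hi hj
    have bb : ∀ k : chevG2.Idx, betaI (betaI k) = k := betaF_betaF
    rw [bb, bb] at e1 e2
    rw [← e1, ← e2]
  exact congrArg Subtype.val this

/-! ### The endomorphism -/

/-- `τ` as a function -/
noncomputable def tauFun (g : ↥(chevG2.group K)) : ↥(chevG2.group K) :=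
  ⟨Classical.choose (exists_partner g.1 g.2), (Classical.choose_spec (exists_partner g.1 g.2)).1⟩

theorem tauFun_spec (g : ↥(chevG2.group K)) :
    BRel isQ betaI (g.1 : Matrix chevG2.Idx chevG2.Idx K)
      ((tauFun g).1 : Matrix chevG2.Idx chevG2.Idx K) :=
  (Classical.choose_spec (exists_partner g.1 g.2)).2

theorem tauFun_eq (g g' : ↥(chevG2.group K))
    (h : BRel isQ betaI (g.1 : Matrix chevG2.Idx chevG2.Idx K)
      (g'.1 : Matrix chevG2.Idx chevG2.Idx K)) : tauFun g = g' :=
  Subtype.ext (partner_unique g.1 _ _ (tauFun g).2 g'.2 (tauFun_spec g) h)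

/-- the exceptional endomorphism `τ` of `G₂(K)`, `char K = 3` -/
noncomputable def tau : ↥(chevG2.group K) →* ↥(chevG2.group K) where
  toFun := tauFun
  map_one' := tauFun_eq 1 1 (by
    show BRel isQ betaI ((1 : GL chevG2.Idx K) : Matrix chevG2.Idx chevG2.Idx K)
      ((1 : GL chevG2.Idx K) : Matrix chevG2.Idx chevG2.Idx K)
    rw [Units.val_one]; exact bRel_one _ _)
  map_mul' a b := tauFun_eq (a * b) (tauFun a * tauFun b) (by
    show BRel isQ betaI ((a.1 * b.1 : GL chevG2.Idx K) : Matrix chevG2.Idx chevG2.Idx K)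
      (((tauFun a).1 * (tauFun b).1 : GL chevG2.Idx K) : Matrix chevG2.Idx chevG2.Idx K)
    rw [Units.val_mul, Units.val_mul]
    exact BRel.mul _ _ isQ_betaI (group_bInv a.1 a.2) (group_bInv _ (tauFun b).2)
      (tauFun_spec a) (tauFun_spec b))

/-- the root element as an element of the Chevalley group -/
def xG (r : ℕ) (t : K) : ↥(chevG2.group K) := ⟨xGL chevG2 hG2 r t, xGL_mem_group _ _ _ _⟩

theorem tau_xG (r : ℕ) (t : K) : tau (xG r t) = xG (piR r) (t ^ lam r) := by
  apply tauFun_eq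
  by_cases hr : r < 12
  · show BRel isQ betaI ((xGL chevG2 hG2 r t : GL chevG2.Idx K) : Matrix chevG2.Idx chevG2.Idx K)
      ((xGL chevG2 hG2 (piR r) (t ^ lam r) : GL chevG2.Idx K) : Matrix chevG2.Idx chevG2.Idx K)
    rw [xGL_val, xGL_val]
    exact x_bRel three_eq_zero r hr t
  · show BRel isQ betaI ((xGL chevG2 hG2 r t : GL chevG2.Idx K) : Matrix chevG2.Idx chevG2.Idx K)
      ((xGL chevG2 hG2 (piR r) (t ^ lam r) : GL chevG2.Idx K) : Matrix chevG2.Idx chevG2.Idx K)
    rw [piR_of_not_lt r hr, xGL_of_not_lt r hr, xGL_of_not_lt r hr, Units.val_one]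
    exact bRel_one _ _

end char3

end Cfsg.Agent.Lib.Helper5.Ree
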