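import Mathlib
import Cfsg.Prelude.Def_ChevStructure
import Cfsg.Prelude.Def_LieTwisted
import Cfsg.Agent.Lib.Helper5.Ree.TauSq
import Cfsg.Agent.Lib.Helper5.ChevTwistN
import Cfsg.Agent.Lib.Helper5.ChevBruhat
import Cfsg.Agent.Lib.Helper5.ChevGen

set_option autoImplicit false

/-!
The automorphism `σ = τ ∘ θ` of `G₂(K)`, `θ(t) = t^(3^m)`, and what it does to the subgroups
`U`, `V`, `H`, `N`, `B`.
-/

namespace Cfsg.Agent.Lib.Helper5.Ree

open Cfsg Cfsg.Lie Cfsg.Agent.Lib.Helper5.ChevSym Cfsg.Agent.Lib.Helper5.ChevSymP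
  Cfsg.Agent.Lib.Helper5.ChevStruct

variable {K : Type*} [Field K] [CharP K 3] (m : ℕ)

/-- `σ = τ ∘ θ`, `θ(t) = t^(3^m)` -/
noncomputable def sig : ↥(chevG2.group K) →* ↥(chevG2.group K) :=
  tau.comp (fieldHom (iterateFrobenius K 3 m))

/-- the exponent of `σ` on the root `r` -/
def expo (r : ℕ) : ℕ := 3 ^ m * lam r

theorem sig_xG (r : ℕ) (t : K) : sig m (xG r t) = xG (piR r) (t ^ expo m r) := by
  show tau (fieldHom (iterateFrobenius K 3 m) (xG r t)) = _
  rw [fieldHom_xG, tau_xG, iterateFrobenius_def, ← pow_mul]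
  rfl

open Classical in
/-- `σ` on `GL` (the identity outside `G₂(K)`) -/
noncomputable def sigGL (g : GL chevG2.Idx K) : GL chevG2.Idx K :=
  if h : g ∈ chevG2.group K then ((sig m ⟨g, h⟩ : ↥(chevG2.group K)) : GL chevG2.Idx K) else 1

theorem sigGL_of_mem {g : GL chevG2.Idx K} (hg : g ∈ chevG2.group K) :
    sigGL m g = ((sig m ⟨g, hg⟩ : ↥(chevG2.group K)) : GL chevG2.Idx K) := dif_pos hg

theorem sigGL_mem (g : GL chevG2.Idx K) : sigGL m g ∈ chevG2.group K := by
  unfold sigGL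
  split_ifs
  · exact (sig m _).2
  · exact one_mem _

theorem sigGL_one : sigGL m (1 : GL chevG2.Idx K) = 1 := by
  rw [sigGL_of_mem m (one_mem _)]
  have : (⟨1, one_mem _⟩ : ↥(chevG2.group K)) = 1 := rfl
  rw [this, map_one]
  rfl

theorem sigGL_mul {a b : GL chevG2.Idx K} (ha : a ∈ chevG2.group K) (hb : b ∈ chevG2.group K) :
    sigGL m (a * b) = sigGL m a * sigGL m b := by
  rw [sigGL_of_mem m (mul_mem ha hb), sigGL_of_mem m ha, sigGL_of_mem m hb]
  have : (⟨a * b, mul_mem ha hb⟩ : ↥(chevG2.group K)) = ⟨a, ha⟩ * ⟨b, hb⟩ := rfl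
  rw [this, map_mul]
  rfl

theorem sigGL_inv {a : GL chevG2.Idx K} (ha : a ∈ chevG2.group K) :
    sigGL m a⁻¹ = (sigGL m a)⁻¹ := by
  rw [sigGL_of_mem m (inv_mem ha), sigGL_of_mem m ha]
  have : (⟨a⁻¹, inv_mem ha⟩ : ↥(chevG2.group K)) = ⟨a, ha⟩⁻¹ := rfl
  rw [this, map_inv]
  rfl

theorem sigGL_xGL (r : ℕ) (t : K) :
    sigGL m (xGL chevG2 hG2 r t) = xGL chevG2 hG2 (piR r) (t ^ expo m r) := by
  rw [sigGL_of_mem m (xGL_mem_group _ _ _ _)]
  exact congrArg Subtype.val (sig_xG m r t)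

/-- the image of a word -/
def mapW (w : List (ℕ × K)) : List (ℕ × K) := w.map fun p => (piR p.1, p.2 ^ expo m p.1)

omit [CharP K 3] in
theorem mapW_append (w1 w2 : List (ℕ × K)) : mapW m (w1 ++ w2) = mapW m w1 ++ mapW m w2 := by
  unfold mapW
  rw [List.map_append]

theorem sigGL_wordGL (w : List (ℕ × K)) :
    sigGL m (wordGL chevG2 hG2 w) = wordGL chevG2 hG2 (mapW m w) := by
  induction w with
  | nil =>
    have : wordGL chevG2 hG2 ([] : List (ℕ × K)) = 1 := by simp [wordGL]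
    rw [this, sigGL_one]
    simp [mapW, wordGL]
  | cons p w ih =>
    rw [wordGL_cons', sigGL_mul m (xGL_mem_group _ _ _ _) (wordGL_mem_group _ _ _), sigGL_xGL, ih]
    show _ = wordGL chevG2 hG2 ((piR p.1, p.2 ^ expo m p.1) :: mapW m w)
    rw [wordGL_cons']

theorem expo_mul (r : ℕ) (hr : r < 12) : expo m r * expo m (piR r) = 3 ^ (2 * m + 1) := by
  unfold expo
  have h := (piR_facts r hr).2.2.1
  calc 3 ^ m * lam r * (3 ^ m * lam (piR r)) = 3 ^ m * 3 ^ m * (lam r * lam (piR r)) := by ring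
    _ = 3 ^ (2 * m + 1) := by rw [h]; ring

theorem sig_sig (hq : ∀ x : K, x ^ 3 ^ (2 * m + 1) = x) :
    (sig (K := K) m).comp (sig m) = MonoidHom.id _ := by
  apply hom_ext_xG
  intro r t
  rw [MonoidHom.comp_apply, sig_xG, sig_xG, MonoidHom.id_apply]
  by_cases hr : r < 12
  · rw [(piR_facts r hr).2.1, ← pow_mul, expo_mul m r hr, hq]
  · rw [xG_of_not_lt r hr, piR_of_not_lt r hr, piR_of_not_lt r hr, xG_of_not_lt r hr]

theorem sigGL_sigGL (hq : ∀ x : K, x ^ 3 ^ (2 * m + 1) = x) {g : GL chevG2.Idx K}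
    (hg : g ∈ chevG2.group K) : sigGL m (sigGL m g) = g := by
  rw [sigGL_of_mem m hg, sigGL_of_mem m (sig m ⟨g, hg⟩).2]
  have := DFunLike.congr_fun (sig_sig m hq) ⟨g, hg⟩
  exact congrArg Subtype.val this

/-- `σ` maps the subgroup generated by `S` into `T` if it does so for the elements of `S` -/
theorem sigGL_mem_of_closure (S : Set (GL chevG2.Idx K)) (hS : ∀ s ∈ S, s ∈ chevG2.group K)
    (T : Subgroup (GL chevG2.Idx K)) (h : ∀ s ∈ S, sigGL m s ∈ T) (a : GL chevG2.Idx K)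
    (ha : a ∈ Subgroup.closure S) : sigGL m a ∈ T := by
  have hle : Subgroup.closure S ≤ chevG2.group K := (Subgroup.closure_le _).2 hS
  induction ha using Subgroup.closure_induction with
  | mem x hx => exact h x hx
  | one => rw [sigGL_one]; exact one_mem _
  | mul x y hx hy ihx ihy =>
    rw [sigGL_mul m (hle hx) (hle hy)]
    exact mul_mem ihx ihy
  | inv x hx ih =>
    rw [sigGL_inv m (hle hx)]
    exact inv_mem ih

/-! ### Roots -/

theorem isPos_iff' : ∀ r < 12, (chevG2.IsPosRoot r ↔ 6 ≤ r) ∧ (chevG2.IsNegRoot r ↔ r < 6) := by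
  decide

theorem isPos_iff (r : ℕ) : chevG2.IsPosRoot r ↔ 6 ≤ r ∧ r < 12 := by
  constructor
  · intro h
    have hr : r < 12 := h.1
    exact ⟨(isPos_iff' r hr).1.1 h, hr⟩
  · rintro ⟨h1, h2⟩
    exact (isPos_iff' r h2).1.2 h1

theorem isNeg_iff (r : ℕ) : chevG2.IsNegRoot r ↔ r < 6 := by
  constructor
  · intro h
    have hr : r < 12 := h.1
    exact (isPos_iff' r hr).2.1 h
  · intro h
    exact (isPos_iff' r (by omega)).2.2 h

theorem piR_pos : ∀ r < 12, (6 ≤ piR r ↔ 6 ≤ r) := by decide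

theorem piR_lt (r : ℕ) (hr : r < 12) : piR r < 12 := (piR_facts r hr).1

theorem isPos_piR (r : ℕ) (hr : r < 12) : chevG2.IsPosRoot (piR r) ↔ chevG2.IsPosRoot r := by
  rw [isPos_iff, isPos_iff, piR_pos r hr]
  constructor
  · rintro ⟨h, -⟩; exact ⟨h, hr⟩
  · rintro ⟨h, -⟩; exact ⟨h, piR_lt r hr⟩

theorem isNeg_piR (r : ℕ) (hr : r < 12) : chevG2.IsNegRoot (piR r) ↔ chevG2.IsNegRoot r := by
  rw [isNeg_iff, isNeg_iff]
  have := piR_pos r hr
  omega

theorem neg_piR : ∀ r < 12, chevG2.neg (piR r) = piR (chevG2.neg r) ∧ lam (chevG2.neg r) = lam r ∧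
    chevG2.neg r < 12 := by decide

theorem lam_cases (r : ℕ) : lam r = 1 ∨ lam r = 3 := by
  by_cases hr : r < 12
  · revert r
    decide
  · left
    unfold lam
    rw [List.getD_eq_default]
    simp only [List.length_cons, List.length_nil]
    omega

theorem expo_odd (r : ℕ) : Odd (expo m r) := by
  unfold expo
  apply Odd.mul (Odd.pow (by decide))
  rcases lam_cases r with h | h <;> rw [h] <;> decide

theorem expo_ne_zero (r : ℕ) : expo m r ≠ 0 := by
  have := expo_odd m r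
  rcases this with ⟨k, hk⟩
  omega

/-! ### `σ` on the words `n_r(t)` and `h_r(t)` -/

omit [CharP K 3] in
theorem mapW_nWord (r : ℕ) (hr : r < 12) (t : K) :
    mapW m (chevG2.nWord r t) = chevG2.nWord (piR r) (t ^ expo m r) := by
  obtain ⟨h1, h2, -⟩ := neg_piR r hr
  unfold ChevalleyDatum.nWord mapW
  simp only [List.map_cons, List.map_nil]
  have e : expo m (chevG2.neg r) = expo m r := by unfold expo; rw [h2]
  rw [e, h1, (expo_odd m r).neg_pow, inv_pow]

omit [CharP K 3] in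
theorem mapW_hWord (r : ℕ) (hr : r < 12) (t : K) :
    mapW m (chevG2.hWord r t) = chevG2.hWord (piR r) (t ^ expo m r) := by
  unfold ChevalleyDatum.hWord
  rw [mapW_append, mapW_nWord m r hr, mapW_nWord m r hr, (expo_odd m r).neg_one_pow]

/-! ### The subgroups -/

omit [CharP K 3] in
theorem mem_of_val_eq_x {g : GL chevG2.Idx K} {r : ℕ} {t : K}
    (h : (g : Matrix chevG2.Idx chevG2.Idx K) = chevG2.x K r t) : g = xGL chevG2 hG2 r t :=
  Units.ext h

omit [CharP K 3] in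
theorem mem_of_val_eq_wordMat {g : GL chevG2.Idx K} {w : List (ℕ × K)}
    (h : (g : Matrix chevG2.Idx chevG2.Idx K) = chevG2.wordMat K w) : g = wordGL chevG2 hG2 w := by
  apply Units.ext
  rw [h, wordGL_val]

theorem sigGL_mem_pos (u : GL chevG2.Idx K) (hu : u ∈ chevG2.posUnipotent K) :
    sigGL m u ∈ chevG2.posUnipotent K := by
  refine sigGL_mem_of_closure m _ ?_ _ ?_ u hu
  · rintro s ⟨r, t, -, hs⟩
    rw [mem_of_val_eq_x hs]
    exact xGL_mem_group _ _ _ _
  · rintro s ⟨r, t, hr, hs⟩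
    rw [mem_of_val_eq_x hs, sigGL_xGL]
    exact xGL_mem_pos chevG2 hG2 _ ((isPos_piR r hr.1).2 hr) _

theorem sigGL_mem_neg (u : GL chevG2.Idx K) (hu : u ∈ chevG2.negUnipotent K) :
    sigGL m u ∈ chevG2.negUnipotent K := by
  refine sigGL_mem_of_closure m _ ?_ _ ?_ u hu
  · rintro s ⟨r, t, -, hs⟩
    rw [mem_of_val_eq_x hs]
    exact xGL_mem_group _ _ _ _
  · rintro s ⟨r, t, hr, hs⟩
    rw [mem_of_val_eq_x hs, sigGL_xGL]
    exact xGL_mem_neg chevG2 hG2 _ ((isNeg_piR r hr.1).2 hr) _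

theorem sigGL_mem_diag (h : GL chevG2.Idx K) (hh : h ∈ chevG2.diagonalSubgroup K) :
    sigGL m h ∈ chevG2.diagonalSubgroup K := by
  refine sigGL_mem_of_closure m _ ?_ _ ?_ h hh
  · rintro s ⟨r, t, -, -, hs⟩
    rw [mem_of_val_eq_wordMat hs]
    exact wordGL_mem_group _ _ _
  · rintro s ⟨r, t, hr, ht, hs⟩
    rw [mem_of_val_eq_wordMat hs, sigGL_wordGL, mapW_hWord m r hr]
    apply Subgroup.subset_closure
    exact ⟨piR r, t ^ expo m r, piR_lt r hr, pow_ne_zero _ ht, wordGL_val _ _ _⟩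

theorem sigGL_mem_mono (n : GL chevG2.Idx K) (hn : n ∈ chevG2.monomialSubgroup K) :
    sigGL m n ∈ chevG2.monomialSubgroup K := by
  have hn' := hn
  unfold ChevalleyDatum.monomialSubgroup at hn'
  rw [Subgroup.sup_eq_closure] at hn'
  refine sigGL_mem_of_closure m _ ?_ _ ?_ n hn'
  · rintro s (hs | hs)
    · exact diagonal_le_group chevG2 hG2 hs
    · apply monomial_le_group chevG2 hG2
      unfold ChevalleyDatum.monomialSubgroup
      exact Subgroup.mem_sup_right hs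
  · rintro s (hs | hs)
    · unfold ChevalleyDatum.monomialSubgroup
      exact Subgroup.mem_sup_left (sigGL_mem_diag m s hs)
    · refine sigGL_mem_of_closure m _ ?_ _ ?_ s hs
      · rintro s ⟨r, -, hs⟩
        rw [mem_of_val_eq_wordMat hs]
        exact wordGL_mem_group _ _ _
      · rintro s ⟨r, hr, hs⟩
        rw [mem_of_val_eq_wordMat hs, sigGL_wordGL, mapW_nWord m r hr, one_pow]
        unfold ChevalleyDatum.monomialSubgroup
        apply Subgroup.mem_sup_right
        apply Subgroup.subset_closure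
        exact ⟨piR r, piR_lt r hr, wordGL_val _ _ _⟩

theorem sigGL_mem_borel (b : GL chevG2.Idx K) (hb : b ∈ chevG2.borelSubgroup K) :
    sigGL m b ∈ chevG2.borelSubgroup K := by
  have hb' := hb
  unfold ChevalleyDatum.borelSubgroup at hb'
  rw [Subgroup.sup_eq_closure] at hb'
  refine sigGL_mem_of_closure m _ ?_ _ ?_ b hb'
  · rintro s (hs | hs)
    · exact pos_le_group chevG2 hG2 hs
    · exact diagonal_le_group chevG2 hG2 hs
  · rintro s (hs | hs)
    · unfold ChevalleyDatum.borelSubgroup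
      exact Subgroup.mem_sup_left (sigGL_mem_pos m s hs)
    · unfold ChevalleyDatum.borelSubgroup
      exact Subgroup.mem_sup_right (sigGL_mem_diag m s hs)

end Cfsg.Agent.Lib.Helper5.Ree
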