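import Mathlib
import Cfsg.Prelude.Def_ChevStructure
import Cfsg.Prelude.Def_LieTwisted
import Cfsg.Agent.Lib.Helper5.Ree.Sigma
import Cfsg.Agent.Lib.Helper5.Ree.Ident

set_option autoImplicit false

/-!
The group of fixed points of `σ`; the generators of the Ree group are fixed.
-/

namespace Cfsg.Agent.Lib.Helper5.Ree

open Cfsg Cfsg.Lie Cfsg.Agent.Lib.Helper5.ChevSym Cfsg.Agent.Lib.Helper5.ChevSymP
  Cfsg.Agent.Lib.Helper5.ChevStruct

variable {K : Type*} [Field K] [CharP K 3] (m : ℕ)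

/-- `θ : t ↦ t^(3^m)` -/
noncomputable def ph : K →+* K := iterateFrobenius K 3 m

/-- `3θ : t ↦ t^(3^(m+1))` -/
noncomputable def ps : K →+* K := iterateFrobenius K 3 (m + 1)

theorem ph_apply (x : K) : ph m x = x ^ 3 ^ m := by
  unfold ph
  rw [iterateFrobenius_def]

theorem ps_apply (x : K) : ps m x = x ^ 3 ^ (m + 1) := by
  unfold ps
  rw [iterateFrobenius_def]

theorem ps_eq (x : K) : ps m x = (ph m x) ^ 3 := by
  rw [ps_apply, ph_apply, ← pow_mul, pow_succ]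

theorem ps_ph (hq : ∀ x : K, x ^ 3 ^ (2 * m + 1) = x) (x : K) : ps m (ph m x) = x := by
  rw [ps_apply, ph_apply, ← pow_mul, ← pow_add]
  have : m + (m + 1) = 2 * m + 1 := by ring
  rw [this, hq]

theorem ph_ps (hq : ∀ x : K, x ^ 3 ^ (2 * m + 1) = x) (x : K) : ph m (ps m x) = x := by
  rw [ps_apply, ph_apply, ← pow_mul, ← pow_add]
  have : m + 1 + m = 2 * m + 1 := by ring
  rw [this, hq]

theorem pow_expo_long (r : ℕ) (h : lam r = 1) (t : K) : t ^ expo m r = ph m t := by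
  rw [ph_apply]
  unfold expo
  rw [h, mul_one]

theorem pow_expo_short (r : ℕ) (h : lam r = 3) (t : K) : t ^ expo m r = ps m t := by
  rw [ps_apply]
  unfold expo
  rw [h, pow_succ]

/-- `σ` on a product over the positive roots -/
theorem mapW_pos (a b c d e f : K) :
    mapW m [(7, a), (6, b), (8, c), (9, d), (10, e), (11, f)]
      = [(6, ps m a), (7, ph m b), (10, ps m c), (11, ps m d), (8, ph m e), (9, ph m f)] := by
  unfold mapW
  simp only [List.map_cons, List.map_nil]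
  rw [pow_expo_short m 7 rfl, pow_expo_long m 6 rfl, pow_expo_short m 8 rfl,
    pow_expo_short m 9 rfl, pow_expo_long m 10 rfl, pow_expo_long m 11 rfl]
  rfl

/-- `σ` on a product over the negative roots -/
theorem mapW_neg (a b c d e f : K) :
    mapW m [(4, a), (5, b), (3, c), (2, d), (1, e), (0, f)]
      = [(5, ps m a), (4, ph m b), (1, ps m c), (0, ps m d), (3, ph m e), (2, ph m f)] := by
  unfold mapW
  simp only [List.map_cons, List.map_nil]
  rw [pow_expo_short m 4 rfl, pow_expo_long m 5 rfl, pow_expo_short m 3 rfl,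
    pow_expo_short m 2 rfl, pow_expo_long m 1 rfl, pow_expo_long m 0 rfl]
  rfl

theorem sigGL_word6 (a b c d e f : K) :
    sigGL m (wordGL chevG2 hG2 [(7, a), (6, b), (8, c), (9, d), (10, e), (11, f)])
      = wordGL chevG2 hG2 [(7, ph m b), (6, ps m a), (8, ps m a * ph m b + ph m e),
          (9, ps m a * (ph m b) ^ 2 + ph m f), (10, ps m c - ps m a * (ph m b) ^ 3),
          (11, ps m d - (ps m a) ^ 2 * (ph m b) ^ 3)] := by
  rw [sigGL_wordGL, mapW_pos]
  apply Units.ext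
  rw [wordGL_val, wordGL_val]
  have h := reorder_pos (K := K) three_eq_zero (ps m a) (ph m b)
    (ps m c - ps m a * (ph m b) ^ 3) (ph m e) (ps m d - (ps m a) ^ 2 * (ph m b) ^ 3) (ph m f)
  have e1 : ps m a * ph m b ^ 3 + (ps m c - ps m a * ph m b ^ 3) = ps m c := by ring
  have e2 : ps m a ^ 2 * ph m b ^ 3 + (ps m d - ps m a ^ 2 * ph m b ^ 3) = ps m d := by ring
  rw [e1, e2] at h
  exact h

theorem sigGL_word6n (a b c d e f : K) :
    sigGL m (wordGL chevG2 hG2 [(4, -a), (5, -b), (3, -c), (2, -d), (1, -e), (0, -f)])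
      = wordGL chevG2 hG2 [(4, -(ph m b)), (5, -(ps m a)), (3, -(ps m a * ph m b + ph m e)),
          (2, -(ps m a * (ph m b) ^ 2 + ph m f)), (1, -(ps m c - ps m a * (ph m b) ^ 3)),
          (0, -(ps m d - (ps m a) ^ 2 * (ph m b) ^ 3))] := by
  rw [sigGL_wordGL, mapW_neg]
  apply Units.ext
  rw [wordGL_val, wordGL_val]
  have h := reorder_neg (K := K) three_eq_zero (ps m a) (ph m b)
    (ps m c - ps m a * (ph m b) ^ 3) (ph m e) (ps m d - (ps m a) ^ 2 * (ph m b) ^ 3) (ph m f)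
  have e1 : ps m a * ph m b ^ 3 + (ps m c - ps m a * ph m b ^ 3) = ps m c := by ring
  have e2 : ps m a ^ 2 * ph m b ^ 3 + (ps m d - ps m a ^ 2 * ph m b ^ 3) = ps m d := by ring
  rw [e1, e2] at h
  simp only [map_neg]
  exact h

/-! ### The Ree words -/

theorem reeWordU_eq (t u v : K) :
    reeWordU (3 ^ m) t u v
      = [(7, ph m t), (6, t), (8, t * ph m t + ph m u), (9, t * (ph m t) ^ 2 + ph m v),
          (10, u), (11, v)] := by
  unfold reeWordU
  rw [ph_apply, ph_apply, ph_apply]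
  have e1 : t ^ (3 ^ m + 1) = t * t ^ 3 ^ m := by rw [pow_succ, mul_comm]
  have e2 : t ^ (2 * 3 ^ m + 1) = t * (t ^ 3 ^ m) ^ 2 := by
    rw [pow_succ, mul_comm, ← pow_mul, mul_comm 2]
  rw [e1, e2]
  rfl

theorem reeWordV_eq (t u v : K) :
    reeWordV (3 ^ m) t u v
      = [(4, -(ph m t)), (5, -t), (3, -(t * ph m t + ph m u)), (2, -(t * (ph m t) ^ 2 + ph m v)),
          (1, -u), (0, -v)] := by
  unfold reeWordV
  rw [reeWordU_eq]
  rfl

/-- the Ree tuples are fixed -/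
theorem ree_tuple (hq : ∀ x : K, x ^ 3 ^ (2 * m + 1) = x) (t u v : K) :
    ph m t = ph m t ∧ ps m (ph m t) = t ∧
    ps m (ph m t) * ph m t + ph m u = t * ph m t + ph m u ∧
    ps m (ph m t) * (ph m t) ^ 2 + ph m v = t * (ph m t) ^ 2 + ph m v ∧
    ps m (t * ph m t + ph m u) - ps m (ph m t) * (ph m t) ^ 3 = u ∧
    ps m (t * (ph m t) ^ 2 + ph m v) - (ps m (ph m t)) ^ 2 * (ph m t) ^ 3 = v := by
  have h1 := ps_ph m hq t
  have h2 := ps_ph m hq u
  have h3 := ps_ph m hq v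
  refine ⟨rfl, h1, by rw [h1], by rw [h1], ?_, ?_⟩
  · rw [map_add, map_mul, h1, h2, ps_eq m t]
    ring
  · rw [map_add, map_mul, map_pow, h1, h3, ps_eq m t]
    ring

/-- the fixed points of `σ` in `G₂(K)` -/
def fixG : Subgroup (GL chevG2.Idx K) where
  carrier := {g | g ∈ chevG2.group K ∧ sigGL m g = g}
  one_mem' := ⟨one_mem _, sigGL_one m⟩
  mul_mem' := by
    rintro a b ⟨ha, ha'⟩ ⟨hb, hb'⟩
    exact ⟨mul_mem ha hb, by rw [sigGL_mul m ha hb, ha', hb']⟩
  inv_mem' := by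
    rintro a ⟨ha, ha'⟩
    exact ⟨inv_mem ha, by rw [sigGL_inv m ha, ha']⟩

theorem mem_fixG (g : GL chevG2.Idx K) :
    g ∈ fixG m ↔ g ∈ chevG2.group K ∧ sigGL m g = g := Iff.rfl

theorem reeU_mem_fixG (hq : ∀ x : K, x ^ 3 ^ (2 * m + 1) = x) (t u v : K) :
    wordGL chevG2 hG2 (reeWordU (3 ^ m) t u v) ∈ fixG m := by
  refine ⟨wordGL_mem_group _ _ _, ?_⟩
  rw [reeWordU_eq, sigGL_word6]
  obtain ⟨-, h2, -, -, h5, h6⟩ := ree_tuple m hq t u v
  rw [h2] at h5 h6 ⊢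
  rw [h5, h6]

theorem reeV_mem_fixG (hq : ∀ x : K, x ^ 3 ^ (2 * m + 1) = x) (t u v : K) :
    wordGL chevG2 hG2 (reeWordV (3 ^ m) t u v) ∈ fixG m := by
  refine ⟨wordGL_mem_group _ _ _, ?_⟩
  rw [reeWordV_eq, sigGL_word6n]
  obtain ⟨-, h2, -, -, h5, h6⟩ := ree_tuple m hq t u v
  rw [h2] at h5 h6 ⊢
  rw [h5, h6]

/-- the Ree group consists of fixed points -/
theorem twisted_le_fixG (hq : ∀ x : K, x ^ 3 ^ (2 * m + 1) = x) :
    twistedG2 K (3 ^ m) ≤ fixG m := by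
  unfold twistedG2 ChevalleyDatum.genSubgroup
  rw [Subgroup.closure_le]
  rintro g ⟨w, ⟨t, u, v, hw | hw⟩, hg⟩
  · rw [mem_of_val_eq_wordMat hg, hw]
    exact reeU_mem_fixG m hq t u v
  · rw [mem_of_val_eq_wordMat hg, hw]
    exact reeV_mem_fixG m hq t u v

omit [CharP K 3] in
theorem reeU_mem_twisted (t u v : K) :
    wordGL chevG2 hG2 (reeWordU (3 ^ m) t u v) ∈ twistedG2 K (3 ^ m) := by
  apply Subgroup.subset_closure
  exact ⟨_, ⟨t, u, v, Or.inl rfl⟩, wordGL_val _ _ _⟩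

omit [CharP K 3] in
theorem reeV_mem_twisted (t u v : K) :
    wordGL chevG2 hG2 (reeWordV (3 ^ m) t u v) ∈ twistedG2 K (3 ^ m) := by
  apply Subgroup.subset_closure
  exact ⟨_, ⟨t, u, v, Or.inr rfl⟩, wordGL_val _ _ _⟩

end Cfsg.Agent.Lib.Helper5.Ree
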