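import Mathlib
import Cfsg.Prelude.Def_ChevStructure
import Cfsg.Prelude.Def_LieTwisted
import Cfsg.Agent.Lib.Helper5.Ree.Fix
import Cfsg.Agent.Lib.Helper5.ChevTwistW
import Cfsg.Agent.Lib.Helper5.ChevGroupCard
import Cfsg.Agent.Lib.Helper5.ChevBruhatNF

set_option autoImplicit false

/-!
The Bruhat decomposition of the fixed points of `σ`: they lie in `B` or in `B n₀ U`.
-/

namespace Cfsg.Agent.Lib.Helper5.Ree

open Cfsg Cfsg.Lie Cfsg.Agent.Lib.Helper5.ChevSym Cfsg.Agent.Lib.Helper5.ChevSymP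
  Cfsg.Agent.Lib.Helper5.ChevStruct

/-! ### Words in the Weyl group -/

/-- the symmetry of the diagram on the indices of the fundamental roots -/
def swI (i : ℕ) : ℕ := 1 - i

/-- the longest word -/
def w0 : List ℕ := [0, 1, 0, 1, 0, 1]

theorem reflect_pi : ∀ i < 2, ∀ r < 12,
    chevG2.reflectRoot (swI i) (piR r) = piR (chevG2.reflectRoot i r) := by decide

theorem simple_pi : ∀ i < 2, piR (chevG2.simple i) = chevG2.simple (swI i) ∧ swI i < 2 := by decide

theorem w0_act : ∀ r < 12, wAct chevG2 w0 r = chevG2.neg r := by decide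

theorem neg_facts : ∀ r < 12, chevG2.neg r < 12 ∧ chevG2.neg (chevG2.neg r) = r ∧
    (6 ≤ chevG2.neg r ↔ r < 6) := by decide

theorem w0_wd : Wd chevG2 w0 := by
  intro i hi
  have : i = 0 ∨ i = 1 := by
    unfold w0 at hi
    simp at hi
    omega
  rcases this with rfl | rfl <;> decide

theorem wd_lt {w : List ℕ} (hw : Wd chevG2 w) (i : ℕ) (hi : i ∈ w) : i < 2 := hw i hi

theorem wd_map {w : List ℕ} (hw : Wd chevG2 w) : Wd chevG2 (w.map swI) := by
  intro i hi
  rw [List.mem_map] at hi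
  obtain ⟨j, hj, rfl⟩ := hi
  exact (simple_pi j (wd_lt hw j hj)).2

theorem wAct_map_sw (w : List ℕ) (hw : Wd chevG2 w) (r : ℕ) (hr : r < 12) :
    wAct chevG2 (w.map swI) (piR r) = piR (wAct chevG2 w r) := by
  induction w with
  | nil => rfl
  | cons i w ih =>
    have hi : i < 2 := hw i (List.mem_cons_self ..)
    have hw' : Wd chevG2 w := fun j hj => hw j (List.mem_cons_of_mem _ hj)
    have e1 : ∀ (j : ℕ) (l : List ℕ) (x : ℕ),
        wAct chevG2 (j :: l) x = chevG2.reflectRoot j (wAct chevG2 l x) := fun _ _ _ => rfl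
    rw [List.map_cons, e1, e1, ih hw', reflect_pi i hi _ (wAct_lt chevG2 hG2 w hw' r hr)]

/-- a word commuting with the symmetry acts as the identity or as `-1` -/
theorem stable_word (w : List ℕ) (hw : Wd chevG2 w)
    (hst : ∀ r < 12, wAct chevG2 (w.map swI) r = wAct chevG2 w r) :
    (∀ r < 12, wAct chevG2 w r = r) ∨ (∀ r < 12, wAct chevG2 w r = chevG2.neg r) := by
  by_cases h0 : (negSet chevG2 w).card = 0
  · left
    exact (wrel_nil_of_card_eq_zero chevG2 hG2 w hw h0).act hG2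
  · right
    obtain ⟨j, hj, hneg⟩ := exists_simple_neg chevG2 hG2 w hw (Nat.pos_of_ne_zero h0)
    have hj2 : j < 2 := hj
    -- both fundamental roots become negative
    have hboth : ∀ i < 2, ¬ chevG2.IsPosRoot (wAct chevG2 w (chevG2.simple i)) := by
      intro i hi
      by_cases hij : i = j
      · rw [hij]; exact hneg
      · have hi' : i = swI j := by unfold swI; omega
        have hsj : chevG2.simple j < 12 := simple_lt chevG2 hG2 j hj
        rw [hi', ← (simple_pi j hj2).1, ← hst _ (piR_lt _ hsj), wAct_map_sw w hw _ hsj,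
          isPos_piR _ (wAct_lt chevG2 hG2 w hw _ hsj)]
        exact hneg
    -- `w w₀` makes no positive root negative
    have hw2 : Wd chevG2 (w ++ w0) := by
      intro i hi
      rcases List.mem_append.1 hi with h | h
      · exact hw i h
      · exact w0_wd i h
    have hact2 : ∀ r < 12, wAct chevG2 (w ++ w0) r = chevG2.neg (wAct chevG2 w r) := by
      intro r hr
      rw [wAct_append, w0_act r hr, wAct_neg chevG2 hG2 w hw r hr]
    have hcard : (negSet chevG2 (w ++ w0)).card = 0 := by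
      by_contra hne
      obtain ⟨i, hi, hin⟩ := exists_simple_neg chevG2 hG2 (w ++ w0) hw2 (Nat.pos_of_ne_zero hne)
      have hi2 : i < 2 := hi
      apply hin
      have hsi : chevG2.simple i < 12 := simple_lt chevG2 hG2 i hi
      rw [hact2 _ hsi, isPos_iff]
      have hlt := wAct_lt chevG2 hG2 w hw _ hsi
      have hnp := hboth i hi2
      rw [isPos_iff] at hnp
      have hlt' : wAct chevG2 w (chevG2.simple i) < 12 := hlt
      obtain ⟨h1, -, h3⟩ := neg_facts _ hlt'
      exact ⟨h3.2 (by omega), h1⟩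
    have hid := (wrel_nil_of_card_eq_zero chevG2 hG2 (w ++ w0) hw2 hcard).act hG2
    intro r hr
    have h1 := hid r hr
    rw [hact2 r hr] at h1
    have h1' : chevG2.neg (wAct chevG2 w r) = r := h1
    have hlt : wAct chevG2 w r < 12 := wAct_lt chevG2 hG2 w hw r hr
    have h2 : chevG2.neg (chevG2.neg (wAct chevG2 w r)) = chevG2.neg r := by rw [h1']
    rw [(neg_facts _ hlt).2.1] at h2
    exact h2

variable {K : Type*} [Field K] [CharP K 3] (m : ℕ)

/-! ### `σ` on `N` -/

theorem sigGL_nGL (i : ℕ) (hi : i < 2) :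
    sigGL m (nGL chevG2 hG2 i : GL chevG2.Idx K) = nGL chevG2 hG2 (swI i) := by
  unfold nGL
  rw [sigGL_wordGL, mapW_nWord m _ (simple_lt chevG2 hG2 i hi), one_pow, (simple_pi i hi).1]

theorem sigGL_wGL (w : List ℕ) (hw : Wd chevG2 w) :
    sigGL m (wGL chevG2 hG2 w : GL chevG2.Idx K) = wGL chevG2 hG2 (w.map swI) := by
  induction w with
  | nil => rw [wGL_nil, sigGL_one]; rfl
  | cons i w ih =>
    have hi : i < 2 := hw i (List.mem_cons_self ..)
    have hw' : Wd chevG2 w := fun j hj => hw j (List.mem_cons_of_mem _ hj)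
    rw [wGL_cons, sigGL_mul m (monomial_le_group chevG2 hG2 (nGL_mem chevG2 hG2 i hi))
      (monomial_le_group chevG2 hG2 (wGL_mem chevG2 hG2 w hw')), sigGL_nGL m i hi, ih hw',
      List.map_cons, wGL_cons]

omit [CharP K 3] in
theorem unegSub_le_pos (w : List ℕ) (hw : Wd chevG2 w) :
    unegSub chevG2 K w ≤ chevG2.posUnipotent K :=
  (unegSub_le_unegOf chevG2 hG2 w hw).trans (unegOf_le_pos chevG2 _)

theorem sigGL_mem_unegSub (w : List ℕ) (hw : Wd chevG2 w) (v : GL chevG2.Idx K)
    (hv : v ∈ unegSub chevG2 K w) : sigGL m v ∈ unegSub chevG2 K (w.map swI) := by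
  unfold unegSub rootSetSub at hv
  refine sigGL_mem_of_closure m _ ?_ _ ?_ v hv
  · rintro s ⟨r, t, -, hs⟩
    rw [mem_of_val_eq_x hs]
    exact xGL_mem_group _ _ _ _
  · rintro s ⟨r, t, ⟨hr1, hr2⟩, hs⟩
    rw [mem_of_val_eq_x hs, sigGL_xGL]
    apply xGL_mem_rootSetSub
    have hr : r < 12 := hr1.1
    refine ⟨(isPos_piR r hr).2 hr1, ?_⟩
    rw [wAct_map_sw w hw r hr, isPos_piR _ (wAct_lt chevG2 hG2 w hw r hr)]
    exact hr2

/-- the element `n₀` of `N` representing the longest element of the Weyl group -/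
def n0 (K : Type*) [Field K] : GL chevG2.Idx K := wGL chevG2 hG2 w0

omit [CharP K 3] in
theorem n0_mem_mono : n0 K ∈ chevG2.monomialSubgroup K := wGL_mem chevG2 hG2 w0 w0_wd

/-! ### The fixed points in `B` -/

theorem borel_fix (b : GL chevG2.Idx K) (hb : b ∈ chevG2.borelSubgroup K) (hfix : b ∈ fixG m) :
    ∃ u ∈ chevG2.posUnipotent K ⊓ fixG m, ∃ h ∈ chevG2.diagonalSubgroup K ⊓ fixG m,
      b = u * h := by
  have hb' : b ∈ ((chevG2.posUnipotent K ⊔ chevG2.diagonalSubgroup K :
      Subgroup (GL chevG2.Idx K)) : Set (GL chevG2.Idx K)) := hb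
  rw [Subgroup.coe_mul_of_right_le_normalizer_left _ _ (diagonal_le_normalizer_pos chevG2 hG2)] at hb'
  obtain ⟨u, hu, h, hh, e⟩ := Set.mem_mul.1 hb'
  have huG := pos_le_group chevG2 hG2 hu
  have hhG := diagonal_le_group chevG2 hG2 hh
  have hfix' := hfix.2
  rw [← e, sigGL_mul m huG hhG] at hfix'
  have hu' := sigGL_mem_pos m u hu
  have hh' := sigGL_mem_diag m h hh
  have e1 : u⁻¹ * sigGL m u = h * (sigGL m h)⁻¹ := by
    have : sigGL m u = u * h * (sigGL m h)⁻¹ := by
      rw [← hfix']; group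
    rw [this]; group
  have h4 : u⁻¹ * sigGL m u ∈ chevG2.posUnipotent K ⊓ chevG2.diagonalSubgroup K :=
    Subgroup.mem_inf.2 ⟨mul_mem (inv_mem hu) hu', by
      rw [e1]
      exact mul_mem hh (inv_mem hh')⟩
  rw [pos_inf_diagonal chevG2 hG2, Subgroup.mem_bot] at h4
  have hu2 : sigGL m u = u := by
    have := congrArg (fun y => u * y) h4
    simpa using this
  have hh2 : sigGL m h = h := by
    rw [hu2] at hfix'
    exact mul_left_cancel hfix'
  exact ⟨u, Subgroup.mem_inf.2 ⟨hu, huG, hu2⟩, h, Subgroup.mem_inf.2 ⟨hh, hhG, hh2⟩, e.symm⟩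

/-! ### The cells -/

/-- a fixed point lies in `B` or in `B n₀ U`, with fixed components -/
theorem cell_fix (hn0 : sigGL m (n0 K) = n0 K) (g : GL chevG2.Idx K) (hg : g ∈ fixG m) :
    g ∈ chevG2.borelSubgroup K ∨
      ∃ b ∈ chevG2.borelSubgroup K ⊓ fixG m, ∃ v ∈ chevG2.posUnipotent K ⊓ fixG m,
        g = b * n0 K * v := by
  obtain ⟨hgG, hfix⟩ := hg
  obtain ⟨w, hw, b, hb, v, hv, e⟩ := bruhat_exists_word chevG2 hG2 g hgG
  have hw' : Wd chevG2 (w.map swI) := wd_map hw
  have hbG := borel_le_group chevG2 hG2 hb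
  have hvU := unegSub_le_pos w hw hv
  have hvG := pos_le_group chevG2 hG2 hvU
  have hN := wGL_mem (F := K) chevG2 hG2 w hw
  have hN' := wGL_mem (F := K) chevG2 hG2 _ hw'
  have hNG := monomial_le_group chevG2 hG2 hN
  have e2 : g = sigGL m b * wGL chevG2 hG2 (w.map swI) * sigGL m v := by
    rw [← sigGL_wGL m w hw, ← sigGL_mul m hbG hNG, ← sigGL_mul m (mul_mem hbG hNG) hvG, ← e, hfix]
  have huniq := bruhat_unique chevG2 hG2 _ _ _ _ _ _ hb (sigGL_mem_borel m b hb) hN hN'
    (unegSub_le_unegOf chevG2 hG2 _ hw hv)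
    (unegSub_le_unegOf chevG2 hG2 _ hw' (sigGL_mem_unegSub m w hw v hv)) (e.symm.trans e2)
  have hH : (wGL chevG2 hG2 (w.map swI) * (wGL chevG2 hG2 w)⁻¹ : GL chevG2.Idx K)
      ∈ chevG2.diagonalSubgroup K := by
    have h1 := (conj_monomial_diag_mem chevG2 hG2 _ hN _ huniq.1).1
    have e1 : (wGL chevG2 hG2 (w.map swI) * (wGL chevG2 hG2 w)⁻¹ : GL chevG2.Idx K)
        = wGL chevG2 hG2 w * ((wGL chevG2 hG2 w)⁻¹ * wGL chevG2 hG2 (w.map swI))
          * (wGL chevG2 hG2 w)⁻¹ := by group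
    rw [e1]
    exact h1
  have hact := (hrel_iff_act_eq chevG2 hG2 _ _ hw' hw).1 hH
  rcases stable_word w hw hact with hid | hneg
  · left
    rw [e]
    exact mul_mem (mul_mem hb (diagonal_le_borel chevG2
      (wGL_mem_diagonal_of_act chevG2 hG2 w hw hid))) (pos_le_borel chevG2 hvU)
  · right
    have hact0 : ∀ r < chevG2.nroots, wAct chevG2 w r = wAct chevG2 w0 r := by
      intro r hr
      rw [hneg r hr, w0_act r hr]
    have hH0 := hrel_of_act_eq (F := K) chevG2 hG2 w w0 hw w0_wd hact0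
    have hv0 : v ∈ unegSub chevG2 K w0 := by
      rw [← unegSub_congr chevG2 w w0 hact0]
      exact hv
    have hv0U := unegSub_le_pos w0 w0_wd hv0
    set b' := b * (wGL chevG2 hG2 w * (n0 K)⁻¹) with hb'def
    have hb' : b' ∈ chevG2.borelSubgroup K := mul_mem hb (diagonal_le_borel chevG2 hH0)
    have hb'G := borel_le_group chevG2 hG2 hb'
    have e3 : g = b' * n0 K * v := by
      rw [e, hb'def]; group
    have hn0G := monomial_le_group chevG2 hG2 (n0_mem_mono (K := K))
    have e4 : g = sigGL m b' * n0 K * sigGL m v := by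
      have := hfix
      rw [e3, sigGL_mul m (mul_mem hb'G hn0G) hvG, sigGL_mul m hb'G hn0G, hn0] at this
      rw [← e3] at this
      exact this.symm
    have hu2 := bruhat_unique chevG2 hG2 _ _ _ _ _ _ hb' (sigGL_mem_borel m b' hb')
      (n0_mem_mono (K := K)) (n0_mem_mono (K := K))
      (unegSub_le_unegOf chevG2 hG2 w0 w0_wd hv0)
      (unegSub_le_unegOf chevG2 hG2 w0 w0_wd (by
        have := sigGL_mem_unegSub m w0 w0_wd v hv0
        have e5 : unegSub chevG2 K (w0.map swI) = unegSub chevG2 K w0 := by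
          apply unegSub_congr
          intro r hr
          have hr' : r < 12 := hr
          have h1 := wAct_map_sw w0 w0_wd (piR r) (piR_lt r hr')
          rw [(piR_facts r hr').2.1] at h1
          rw [h1, w0_act _ (piR_lt r hr'), w0_act r hr', ← (neg_piR (piR r) (piR_lt r hr')).1,
            (piR_facts r hr').2.1]
        rw [e5] at this
        exact this)) (e3.symm.trans e4)
    obtain ⟨hbb, hvv⟩ := hu2.2 rfl
    exact ⟨b', Subgroup.mem_inf.2 ⟨hb', hb'G, hbb.symm⟩, v,
      Subgroup.mem_inf.2 ⟨hv0U, hvG, hvv.symm⟩, e3⟩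

end Cfsg.Agent.Lib.Helper5.Ree
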