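import Mathlib
import Cfsg.Prelude.Def_ChevStructure
import Cfsg.Prelude.Def_LieTwisted
import Cfsg.Agent.Lib.Helper5.Ree.Cell
import Cfsg.Agent.Lib.Helper5.ChevTorusCard

set_option autoImplicit false

/-!
The fixed points of `σ` in `H` are the elements `h(z) = h_a(z^θ) h_b(z)`.
-/

namespace Cfsg.Agent.Lib.Helper5.Ree

open Cfsg Cfsg.Lie Cfsg.Agent.Lib.Helper5.ChevSym Cfsg.Agent.Lib.Helper5.ChevSymP
  Cfsg.Agent.Lib.Helper5.ChevStruct

variable {K : Type*} [Field K]

theorem torusMat_congr (c c' : ℕ → K) (h : ∀ i < 2, c i = c' i) :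
    torusMat chevG2 c = torusMat chevG2 c' := by
  unfold torusMat
  congr 1
  funext j
  rcases j with j | s
  · rfl
  · simp only [Sum.elim_inr]
    exact chi_congr chevG2 c c' h s.val

theorem cartan_vals : chevG2.cartan 0 9 = 1 ∧ chevG2.cartan 1 9 = 0 ∧ chevG2.cartan 0 11 = 0 ∧
    chevG2.cartan 1 11 = 1 := by decide

theorem chi_nine (c : ℕ → K) : chi chevG2 c 9 = c 0 := by
  unfold chi
  have : List.range chevG2.rank = [0, 1] := rfl
  rw [this]
  simp only [List.map_cons, List.map_nil, List.prod_cons, List.prod_nil]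
  rw [cartan_vals.1, cartan_vals.2.1, zpow_one, zpow_zero, mul_one, mul_one]

theorem chi_eleven (c : ℕ → K) : chi chevG2 c 11 = c 1 := by
  unfold chi
  have : List.range chevG2.rank = [0, 1] := rfl
  rw [this]
  simp only [List.map_cons, List.map_nil, List.prod_cons, List.prod_nil]
  rw [cartan_vals.2.2.1, cartan_vals.2.2.2, zpow_one, zpow_zero, one_mul, mul_one]

/-- the parameters of a torus element are determined by its matrix -/
theorem torusMat_inj (c c' : ℕ → K) (h : torusMat chevG2 c = torusMat chevG2 c') :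
    c 0 = c' 0 ∧ c 1 = c' 1 := by
  have h9 := congrFun (congrFun h (Sum.inr ⟨9, by decide⟩)) (Sum.inr ⟨9, by decide⟩)
  have h11 := congrFun (congrFun h (Sum.inr ⟨11, by decide⟩)) (Sum.inr ⟨11, by decide⟩)
  unfold torusMat at h9 h11
  rw [Matrix.diagonal_apply_eq, Matrix.diagonal_apply_eq] at h9 h11
  simp only [Sum.elim_inr] at h9 h11
  rw [chi_nine, chi_nine] at h9
  rw [chi_eleven, chi_eleven] at h11
  exact ⟨h9, h11⟩

/-- a torus element as a word -/
theorem torus_eq_word (c : ℕ → K) (hc : ∀ i, c i ≠ 0) (g : GL chevG2.Idx K)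
    (hg : (g : Matrix chevG2.Idx chevG2.Idx K) = torusMat chevG2 c) :
    g = wordGL chevG2 hG2 (chevG2.hWord 7 (c 0) ++ chevG2.hWord 6 (c 1)) := by
  apply Units.ext
  rw [hg, wordGL_val, ← wordMat_simple_hWords chevG2 hG2 c (fun i _ => hc i)]
  have : List.range chevG2.rank = [0, 1] := rfl
  rw [this]
  simp only [List.flatMap_cons, List.flatMap_nil, List.append_nil]
  rfl

theorem word_val_torus (a b : K) (ha : a ≠ 0) (hb : b ≠ 0) :
    ((wordGL chevG2 hG2 (chevG2.hWord 7 a ++ chevG2.hWord 6 b) : GL chevG2.Idx K) :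
      Matrix chevG2.Idx chevG2.Idx K)
      = torusMat chevG2 (fun i => if i = 0 then a else if i = 1 then b else 1) := by
  rw [wordGL_val, wordMat_append]
  have e1 : chevG2.wordMat K (chevG2.hWord 7 a) = chevG2.hMat K (chevG2.simple 0) a := rfl
  have e2 : chevG2.wordMat K (chevG2.hWord 6 b) = chevG2.hMat K (chevG2.simple 1) b := rfl
  rw [e1, e2, hMat_simple_eq_torusMat chevG2 hG2 0 (by decide) a ha,
    hMat_simple_eq_torusMat chevG2 hG2 1 (by decide) b hb, torusMat_mul]
  apply torusMat_congr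
  intro i hi
  have : i = 0 ∨ i = 1 := by omega
  rcases this with rfl | rfl <;> simp

variable [CharP K 3] (m : ℕ)

/-- `σ` on a torus element -/
theorem sigGL_torus (c : ℕ → K) (hc : ∀ i, c i ≠ 0) (g : GL chevG2.Idx K)
    (hg : (g : Matrix chevG2.Idx chevG2.Idx K) = torusMat chevG2 c) :
    ((sigGL m g : GL chevG2.Idx K) : Matrix chevG2.Idx chevG2.Idx K)
      = torusMat chevG2 (fun i => if i = 0 then ph m (c 1) else if i = 1 then ps m (c 0) else 1) := by
  rw [torus_eq_word c hc g hg, sigGL_wordGL, mapW_append, mapW_hWord m 7 (by decide),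
    mapW_hWord m 6 (by decide), pow_expo_short m 7 rfl, pow_expo_long m 6 rfl]
  have e7 : piR 7 = 6 := rfl
  have e6 : piR 6 = 7 := rfl
  rw [e7, e6]
  have hb : ps m (c 0) ≠ 0 := by rw [ps_apply]; exact pow_ne_zero _ (hc 0)
  have ha : ph m (c 1) ≠ 0 := by rw [ph_apply]; exact pow_ne_zero _ (hc 1)
  -- the two factors commute
  rw [wordGL_val, wordMat_append]
  have e1 : chevG2.wordMat K (chevG2.hWord 6 (ps m (c 0)))
      = chevG2.hMat K (chevG2.simple 1) (ps m (c 0)) := rfl
  have e2 : chevG2.wordMat K (chevG2.hWord 7 (ph m (c 1)))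
      = chevG2.hMat K (chevG2.simple 0) (ph m (c 1)) := rfl
  rw [e1, e2, hMat_simple_eq_torusMat chevG2 hG2 1 (by decide) _ hb,
    hMat_simple_eq_torusMat chevG2 hG2 0 (by decide) _ ha, torusMat_mul]
  apply torusMat_congr
  intro i hi
  have : i = 0 ∨ i = 1 := by omega
  rcases this with rfl | rfl <;> simp

/-- the parameters of `h(z)` -/
noncomputable def hzPar : Kˣ →* (Fin chevG2.rank → Kˣ) :=
  MonoidHom.pi fun i => if i.val = 0 then Units.map ((ph (K := K) m).toMonoidHom) else MonoidHom.id Kˣ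

/-- `h(z) = h_a(z^θ) h_b(z)` -/
noncomputable def hz : Kˣ →* GL chevG2.Idx K := (torHom chevG2 K).comp (hzPar m)

theorem extU_hzPar (z : Kˣ) :
    ∀ i < 2, extU chevG2 (hzPar m z) i
      = (fun i => if i = 0 then ph m (z : K) else if i = 1 then (z : K) else 1) i := by
  intro i hi
  have hi' : i < chevG2.rank := hi
  rw [extU_of_lt chevG2 _ i hi']
  have : i = 0 ∨ i = 1 := by omega
  rcases this with rfl | rfl
  · simp [hzPar]
  · simp [hzPar]

theorem hz_val (z : Kˣ) :
    ((hz m z : GL chevG2.Idx K) : Matrix chevG2.Idx chevG2.Idx K)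
      = torusMat chevG2 (fun i => if i = 0 then ph m (z : K) else if i = 1 then (z : K) else 1) := by
  show ((torHom chevG2 K (hzPar m z) : GL chevG2.Idx K) : Matrix chevG2.Idx chevG2.Idx K) = _
  rw [torHom_val]
  exact torusMat_congr _ _ (extU_hzPar m z)

theorem hz_mem_diag (z : Kˣ) : hz m z ∈ chevG2.diagonalSubgroup K := by
  rw [← torHom_range chevG2 hG2]
  exact ⟨hzPar m z, rfl⟩

theorem hzFun_ne_zero (z : Kˣ) (i : ℕ) :
    (fun i => if i = 0 then ph m (z : K) else if i = 1 then (z : K) else 1) i ≠ 0 := by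
  simp only
  split_ifs
  · rw [ph_apply]; exact pow_ne_zero _ z.ne_zero
  · exact z.ne_zero
  · exact one_ne_zero

theorem hz_mem_fixG (hq : ∀ x : K, x ^ 3 ^ (2 * m + 1) = x) (z : Kˣ) : hz m z ∈ fixG m := by
  refine ⟨diagonal_le_group chevG2 hG2 (hz_mem_diag m z), ?_⟩
  apply Units.ext
  rw [sigGL_torus m _ (hzFun_ne_zero m z) _ (hz_val m z), hz_val]
  apply torusMat_congr
  intro i hi
  have : i = 0 ∨ i = 1 := by omega
  rcases this with rfl | rfl
  · simp
  · simp [ps_ph m hq]

theorem hz_injective : Function.Injective (hz (K := K) m) := by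
  intro z z' h
  have h' := congrArg (fun g : GL chevG2.Idx K => (g : Matrix chevG2.Idx chevG2.Idx K)) h
  simp only [hz_val] at h'
  have := (torusMat_inj _ _ h').2
  simp only [one_ne_zero, if_false, if_true] at this
  exact Units.ext this

/-- the fixed points of `σ` in `H` -/
theorem diag_fix_iff (hq : ∀ x : K, x ^ 3 ^ (2 * m + 1) = x) (g : GL chevG2.Idx K) :
    g ∈ chevG2.diagonalSubgroup K ⊓ fixG m ↔ ∃ z : Kˣ, g = hz m z := by
  constructor
  · rintro ⟨hH, -, hfix⟩
    obtain ⟨c, hc, hval⟩ := exists_torusMat_of_mem chevG2 hG2 g hH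
    have h1 := sigGL_torus m c hc g hval
    rw [hfix, hval] at h1
    obtain ⟨h0, h1'⟩ := torusMat_inj _ _ h1
    simp only [one_ne_zero, if_false, if_true] at h0 h1'
    refine ⟨Units.mk0 (c 1) (hc 1), ?_⟩
    apply Units.ext
    rw [hval, hz_val]
    apply torusMat_congr
    intro i hi
    have : i = 0 ∨ i = 1 := by omega
    rcases this with rfl | rfl
    · simp [h0]
    · simp
  · rintro ⟨z, rfl⟩
    exact Subgroup.mem_inf.2 ⟨hz_mem_diag m z, hz_mem_fixG m hq z⟩

end Cfsg.Agent.Lib.Helper5.Ree
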