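import Mathlib
import Cfsg.Prelude.Def_ChevStructure
import Cfsg.Prelude.Def_LieTwisted
import Cfsg.Agent.Lib.Helper5.Ree.HFix

set_option autoImplicit false

/-!
The elements `h(z)` lie in the Ree group.
-/

namespace Cfsg.Agent.Lib.Helper5.Ree

open Cfsg Cfsg.Lie Cfsg.Agent.Lib.Helper5.ChevSym Cfsg.Agent.Lib.Helper5.ChevSymP
  Cfsg.Agent.Lib.Helper5.ChevStruct

variable {K : Type*} [Field K]

theorem wordGL_append' (w1 w2 : List (ℕ × K)) :
    wordGL chevG2 hG2 (w1 ++ w2) = wordGL chevG2 hG2 w1 * wordGL chevG2 hG2 w2 := by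
  simp [wordGL]

theorem xGL_zero' (r : ℕ) : xGL chevG2 hG2 r (0 : K) = 1 := by
  apply Units.ext
  rw [xGL_val, x_at_zero]
  rfl

/-- `n_r(t)` in `GL` -/
def nEl (r : ℕ) (t : K) : GL chevG2.Idx K := wordGL chevG2 hG2 (chevG2.nWord r t)

/-- `h_r(t)` in `GL` -/
def hEl (r : ℕ) (t : K) : GL chevG2.Idx K := wordGL chevG2 hG2 (chevG2.hWord r t)

theorem nEl_eq (r : ℕ) (t : K) :
    nEl r t = xGL chevG2 hG2 r t * xGL chevG2 hG2 (chevG2.neg r) (-t⁻¹) * xGL chevG2 hG2 r t := by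
  unfold nEl ChevalleyDatum.nWord
  simp [wordGL, mul_assoc]

theorem hEl_eq (r : ℕ) (t : K) : hEl r t = nEl r t * nEl r (-1) := by
  unfold hEl nEl ChevalleyDatum.hWord
  rw [wordGL_append']

theorem nEl_mul_neg (r : ℕ) (t : K) : nEl r t * nEl r (-t) = 1 := by
  apply Units.ext
  unfold nEl
  rw [Units.val_mul, wordGL_val, wordGL_val, Units.val_one]
  exact nMat_mul_neg chevG2 hG2 r t

theorem nEl_one_inv (r : ℕ) : (nEl r (1 : K))⁻¹ = nEl r (-1) :=
  inv_eq_of_mul_eq_one_right (nEl_mul_neg r 1)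

theorem commOK_facts : commOK chevG2 10 3 = true ∧ commOK chevG2 10 8 = true ∧
    commOK chevG2 1 8 = true ∧ commOK chevG2 1 3 = true := by decide

theorem comm6 {G : Type*} [Group G] (a1 b1 a2 b2 a3 b3 : G) (h12 : Commute b1 a2)
    (h13 : Commute b1 a3) (h23 : Commute b2 a3) :
    a1 * b1 * (a2 * b2) * (a3 * b3) = (a1 * a2 * a3) * (b1 * b2 * b3) := by
  calc a1 * b1 * (a2 * b2) * (a3 * b3) = a1 * (b1 * a2) * (b2 * a3) * b3 := by group
    _ = a1 * (a2 * b1) * (a3 * b2) * b3 := by rw [h12.eq, h23.eq]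
    _ = a1 * a2 * (b1 * a3) * b2 * b3 := by group
    _ = a1 * a2 * (a3 * b1) * b2 * b3 := by rw [h13.eq]
    _ = (a1 * a2 * a3) * (b1 * b2 * b3) := by group

/-- words in `x_{3a+b}`, `x_{-3a-b}` commute with words in `x_{a+b}`, `x_{-a-b}` -/
theorem commute_long_short (w1 w2 : List (ℕ × K)) (h1 : ∀ p ∈ w1, p.1 = 10 ∨ p.1 = 1)
    (h2 : ∀ p ∈ w2, p.1 = 8 ∨ p.1 = 3) :
    Commute (wordGL chevG2 hG2 w1) (wordGL chevG2 hG2 w2) := by
  apply commute_wordGL
  intro q hq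
  apply Commute.symm
  apply commute_wordGL
  intro p hp
  apply Commute.symm
  obtain ⟨c1, c2, c3, c4⟩ := commOK_facts
  rcases h1 p hp with e | e <;> rcases h2 q hq with e' | e' <;> rw [e, e']
  · exact xGL_commute chevG2 hG2 _ _ c2 _ _
  · exact xGL_commute chevG2 hG2 _ _ c1 _ _
  · exact xGL_commute chevG2 hG2 _ _ c3 _ _
  · exact xGL_commute chevG2 hG2 _ _ c4 _ _

variable [CharP K 3] (m : ℕ)

theorem reeU_0y0 (y : K) :
    wordGL chevG2 hG2 (reeWordU (3 ^ m) 0 y 0) = xGL chevG2 hG2 8 (ph m y) * xGL chevG2 hG2 10 y := by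
  rw [reeWordU_eq]
  simp [wordGL, xGL_zero']

theorem reeV_0y0 (y : K) :
    wordGL chevG2 hG2 (reeWordV (3 ^ m) 0 y 0)
      = xGL chevG2 hG2 3 (-(ph m y)) * xGL chevG2 hG2 1 (-y) := by
  rw [reeWordV_eq]
  simp [wordGL, xGL_zero']

/-- the element `m(y) = n_{a+b}(y^θ) n_{3a+b}(y)` of the Ree group -/
theorem mEl_eq (y : K) :
    wordGL chevG2 hG2 (reeWordU (3 ^ m) 0 y 0) * wordGL chevG2 hG2 (reeWordV (3 ^ m) 0 y⁻¹ 0)
        * wordGL chevG2 hG2 (reeWordU (3 ^ m) 0 y 0)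
      = nEl 8 (ph m y) * nEl 10 y := by
  rw [reeU_0y0, reeV_0y0, nEl_eq, nEl_eq, map_inv₀]
  have e8 : chevG2.neg 8 = 3 := rfl
  have e10 : chevG2.neg 10 = 1 := rfl
  rw [e8, e10]
  obtain ⟨c1, c2, c3, -⟩ := commOK_facts
  exact comm6 _ _ _ _ _ _ (xGL_commute chevG2 hG2 _ _ c1 _ _) (xGL_commute chevG2 hG2 _ _ c2 _ _)
    (xGL_commute chevG2 hG2 _ _ c3 _ _)

theorem mEl_mem (y : K) : nEl 8 (ph m y) * nEl 10 y ∈ twistedG2 K (3 ^ m) := by
  rw [← mEl_eq]
  exact mul_mem (mul_mem (reeU_mem_twisted m _ _ _) (reeV_mem_twisted m _ _ _))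
    (reeU_mem_twisted m _ _ _)

theorem hh_mem (y : K) : hEl 8 (ph m y) * hEl 10 y ∈ twistedG2 K (3 ^ m) := by
  have h1 := mEl_mem m y
  have h2 := mEl_mem m (1 : K)
  rw [map_one] at h2
  have e : hEl 8 (ph m y) * hEl 10 y
      = nEl 8 (ph m y) * nEl 10 y * (nEl 8 (1 : K) * nEl 10 1)⁻¹ := by
    rw [mul_inv_rev, nEl_one_inv, nEl_one_inv, hEl_eq, hEl_eq]
    have hc : Commute (nEl 10 y * nEl 10 (-1)) (nEl 8 (-1 : K)) := by
      have := commute_long_short (chevG2.nWord 10 y ++ chevG2.nWord 10 (-1))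
        (chevG2.nWord 8 (-1 : K)) (by
          intro p hp
          simp only [ChevalleyDatum.nWord, List.cons_append, List.nil_append, List.mem_cons,
            List.not_mem_nil, or_false] at hp
          have e10 : chevG2.neg 10 = 1 := rfl
          rw [e10] at hp
          rcases hp with rfl | rfl | rfl | rfl | rfl | rfl <;> simp) (by
          intro p hp
          simp only [ChevalleyDatum.nWord, List.mem_cons, List.not_mem_nil, or_false] at hp
          have e8 : chevG2.neg 8 = 3 := rfl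
          rw [e8] at hp
          rcases hp with rfl | rfl | rfl <;> simp)
      rw [wordGL_append'] at this
      exact this
    calc nEl 8 (ph m y) * nEl 8 (-1) * (nEl 10 y * nEl 10 (-1))
        = nEl 8 (ph m y) * (nEl 8 (-1) * (nEl 10 y * nEl 10 (-1))) := by group
      _ = nEl 8 (ph m y) * ((nEl 10 y * nEl 10 (-1)) * nEl 8 (-1)) := by rw [hc.eq]
      _ = nEl 8 (ph m y) * nEl 10 y * (nEl 10 (-1) * nEl 8 (-1)) := by group
  rw [e]
  exact mul_mem h1 (inv_mem h2)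

theorem coroot_vals : (chevG2.coroot.getD 8 #[]).getD 0 0 = 1 ∧ (chevG2.coroot.getD 8 #[]).getD 1 0 = 3 ∧
    (chevG2.coroot.getD 10 #[]).getD 0 0 = 1 ∧ (chevG2.coroot.getD 10 #[]).getD 1 0 = 1 := by decide

/-- `h_{a+b}(y^θ) h_{3a+b}(y) = h(y^{3θ+1})` -/
theorem hh_eq_hz (hq : ∀ x : K, x ^ 3 ^ (2 * m + 1) = x) (y : Kˣ) :
    hEl 8 (ph m (y : K)) * hEl 10 (y : K)
      = hz m (Units.mk0 ((y : K) * ps m (y : K)) (mul_ne_zero y.ne_zero (by
          rw [ps_apply]; exact pow_ne_zero _ y.ne_zero))) := by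
  apply Units.ext
  have hs : ph m (y : K) ≠ 0 := by rw [ph_apply]; exact pow_ne_zero _ y.ne_zero
  rw [Units.val_mul, hz_val]
  unfold hEl
  rw [wordGL_val, wordGL_val]
  have e1 : chevG2.wordMat K (chevG2.hWord 8 (ph m (y : K))) = chevG2.hMat K 8 (ph m (y : K)) := rfl
  have e2 : chevG2.wordMat K (chevG2.hWord 10 (y : K)) = chevG2.hMat K 10 (y : K) := rfl
  rw [e1, e2, hMat_eq_torusMat chevG2 hG2 8 (by decide) _ hs,
    hMat_eq_torusMat chevG2 hG2 10 (by decide) _ y.ne_zero, torusMat_mul]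
  apply torusMat_congr
  intro i hi
  obtain ⟨c1, c2, c3, c4⟩ := coroot_vals
  have : i = 0 ∨ i = 1 := by omega
  rcases this with rfl | rfl
  · simp only [Units.val_mk0, if_true]
    rw [c1, c3, zpow_one, zpow_one, map_mul, ph_ps m hq, mul_comm]
  · simp only [Units.val_mk0, one_ne_zero, if_false, if_true]
    rw [c2, c4, zpow_one, ps_eq]
    have : (3 : ℤ) = ((3 : ℕ) : ℤ) := rfl
    rw [this, zpow_natCast, mul_comm]

end Cfsg.Agent.Lib.Helper5.Ree
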