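import Mathlib
import Cfsg.Prelude.Def_ChevStructure
import Cfsg.Prelude.Def_LieTwisted
import Cfsg.Agent.Lib.Helper5.Ree.HGen

set_option autoImplicit false

/-!
All the elements `h(z)` lie in the Ree group.
-/

namespace Cfsg.Agent.Lib.Helper5.Ree

open Cfsg Cfsg.Lie Cfsg.Agent.Lib.Helper5.ChevSym Cfsg.Agent.Lib.Helper5.ChevSymP
  Cfsg.Agent.Lib.Helper5.ChevStruct

variable {K : Type*} [Field K] [CharP K 3] (m : ℕ)

omit [CharP K 3] in
theorem hjW_eq : chevG2.hWord 7 (-1 : K) ++ chevG2.hWord 6 (-1)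
    = hjW.map fun p => (p.1, ((p.2 : ℤ) : K)) := by
  have e7 : chevG2.neg 7 = 4 := rfl
  have e6 : chevG2.neg 6 = 5 := rfl
  simp [ChevalleyDatum.hWord, ChevalleyDatum.nWord, hjW, e7, e6, inv_neg]

theorem jW_eq : (jW.map fun p => (p.1, ((p.2 : ℤ) : K)))
    = reeWordU (3 ^ m) 0 0 1 ++ reeWordV (3 ^ m) 0 0 1 ++ reeWordU (3 ^ m) 1 1 1
        ++ reeWordV (3 ^ m) (-1) 1 (-1) := by
  rw [reeWordU_eq, reeWordU_eq, reeWordV_eq, reeWordV_eq]
  simp [jW]
  norm_num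

/-- the involution `h(-1)` lies in the Ree group -/
theorem hz_neg_one_mem : hz m (-1 : Kˣ) ∈ twistedG2 K (3 ^ m) := by
  have e1 : hz m (-1 : Kˣ) = wordGL chevG2 hG2 (chevG2.hWord 7 (-1 : K) ++ chevG2.hWord 6 (-1)) := by
    apply Units.ext
    rw [hz_val, word_val_torus _ _ (neg_ne_zero.2 one_ne_zero) (neg_ne_zero.2 one_ne_zero)]
    apply torusMat_congr
    intro i hi
    have : i = 0 ∨ i = 1 := by omega
    rcases this with rfl | rfl <;> simp
  have e2 : wordGL chevG2 hG2 (chevG2.hWord 7 (-1 : K) ++ chevG2.hWord 6 (-1))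
      = wordGL chevG2 hG2 (jW.map fun p => (p.1, ((p.2 : ℤ) : K))) := by
    apply Units.ext
    rw [wordGL_val, wordGL_val, hjW_eq, j_eq three_eq_zero]
  rw [e1, e2, jW_eq, wordGL_append', wordGL_append', wordGL_append']
  exact mul_mem (mul_mem (mul_mem (reeU_mem_twisted m _ _ _) (reeV_mem_twisted m _ _ _))
    (reeU_mem_twisted m _ _ _)) (reeV_mem_twisted m _ _ _)

theorem arith (m : ℕ) : ∃ k d : ℕ, 3 ^ (m + 1) = 2 * k + 1 ∧ 3 ^ (2 * m + 1) = 2 * d + 1 ∧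
    k * (2 * k + 2) = 3 * d + 1 := by
  obtain ⟨k, hk⟩ : Odd (3 ^ (m + 1)) := Odd.pow (by decide)
  obtain ⟨d, hd⟩ : Odd (3 ^ (2 * m + 1)) := Odd.pow (by decide)
  refine ⟨k, d, hk, hd, ?_⟩
  have h : (3 ^ (m + 1)) ^ 2 = 3 * 3 ^ (2 * m + 1) := by ring
  rw [hk, hd] at h
  nlinarith [h]

/-- every `h(z)` lies in the Ree group -/
theorem hz_mem_twisted (hq : ∀ x : K, x ^ 3 ^ (2 * m + 1) = x) (z : Kˣ) :
    hz m z ∈ twistedG2 K (3 ^ m) := by
  obtain ⟨k, d, hk, hd, hkd⟩ := arith m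
  -- `z^(2d) = 1`
  have hz2d : z ^ (2 * d) = 1 := by
    have h1 : z ^ (2 * d + 1) = z := by
      apply Units.ext
      rw [Units.val_pow_eq_pow_val, ← hd, hq]
    rw [pow_succ] at h1
    exact mul_eq_right.1 h1
  set y : Kˣ := z ^ k with hy
  set ε : Kˣ := z ^ (3 * d) with hε
  have hε2 : ε ^ 2 = 1 := by
    rw [hε, ← pow_mul]
    have : 3 * d * 2 = 2 * d * 3 := by ring
    rw [this, pow_mul, hz2d, one_pow]
  have hw : (Units.mk0 ((y : K) * ps m (y : K)) (mul_ne_zero y.ne_zero (by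
      rw [ps_apply]; exact pow_ne_zero _ y.ne_zero)) : Kˣ) = z * ε := by
    apply Units.ext
    rw [Units.val_mk0, ps_apply, hk, ← pow_succ', hy, Units.val_mul, hε, Units.val_pow_eq_pow_val,
      Units.val_pow_eq_pow_val, ← pow_mul]
    have : k * (2 * k + 1 + 1) = 3 * d + 1 := by rw [← hkd]
    rw [this, pow_succ', mul_comm]
  have hzz : z = (Units.mk0 ((y : K) * ps m (y : K)) (mul_ne_zero y.ne_zero (by
      rw [ps_apply]; exact pow_ne_zero _ y.ne_zero)) : Kˣ) * ε := by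
    rw [hw, mul_assoc, ← sq, hε2, mul_one]
  rw [hzz, map_mul, ← hh_eq_hz m hq y]
  apply mul_mem (hh_mem m _)
  have hcases : ε = 1 ∨ ε = -1 := by
    have h1 : ((ε : K)) ^ 2 = 1 := by
      rw [← Units.val_pow_eq_pow_val, hε2, Units.val_one]
    rcases sq_eq_one_iff.1 h1 with h | h
    · exact Or.inl (Units.ext h)
    · exact Or.inr (Units.ext (by rw [h, Units.val_neg, Units.val_one]))
  rcases hcases with h | h
  · rw [h, map_one]; exact one_mem _
  · rw [h]; exact hz_neg_one_mem m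

/-- the fixed points of `σ` in `H` lie in the Ree group -/
theorem diag_fix_le (hq : ∀ x : K, x ^ 3 ^ (2 * m + 1) = x) :
    chevG2.diagonalSubgroup K ⊓ fixG m ≤ twistedG2 K (3 ^ m) := by
  intro g hg
  obtain ⟨z, rfl⟩ := (diag_fix_iff m hq g).1 hg
  exact hz_mem_twisted m hq z

end Cfsg.Agent.Lib.Helper5.Ree
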