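import Mathlib
import Cfsg.Prelude.Def_ChevStructure
import Cfsg.Prelude.Def_LieTwisted
import Cfsg.Agent.Lib.Helper5.Ree.Cell
import Cfsg.Agent.Lib.Helper5.ChevOrdProd

set_option autoImplicit false

/-!
The fixed points of `σ` in `U` are the Ree words.
-/

namespace Cfsg.Agent.Lib.Helper5.Ree

open Cfsg Cfsg.Lie Cfsg.Agent.Lib.Helper5.ChevSym Cfsg.Agent.Lib.Helper5.ChevSymP
  Cfsg.Agent.Lib.Helper5.ChevStruct

/-- the positive roots, in the order `a, b, a+b, 2a+b, 3a+b, 3a+2b` -/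
def Lpos : List ℕ := [7, 6, 8, 9, 10, 11]

theorem Lpos_good : checkGoodList chevG2 Lpos = true := by decide

theorem Lpos_nodup : Lpos.Nodup := by decide

theorem Lpos_pos (r : ℕ) : r ∈ Lpos ↔ chevG2.IsPosRoot r := by
  rw [isPos_iff]
  simp only [Lpos, List.mem_cons, List.not_mem_nil, or_false]
  omega

theorem Lpos_len : Lpos.length = chevG2.nroots / 2 := rfl

variable {K : Type*} [Field K]

/-- a 6-tuple as a function on the roots -/
def tup (a b c d e f : K) : ℕ → K := fun r =>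
  if r = 7 then a else if r = 6 then b else if r = 8 then c else if r = 9 then d
  else if r = 10 then e else f

theorem prodL_tup (a b c d e f : K) :
    prodL chevG2 hG2 Lpos (tup a b c d e f)
      = wordGL chevG2 hG2 [(7, a), (6, b), (8, c), (9, d), (10, e), (11, f)] := rfl

theorem exists_word6 (u : GL chevG2.Idx K) (hu : u ∈ chevG2.posUnipotent K) :
    ∃ a b c d e f : K,
      u = wordGL chevG2 hG2 [(7, a), (6, b), (8, c), (9, d), (10, e), (11, f)] := by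
  obtain ⟨p, hp⟩ := exists_prodL chevG2 hG2 Lpos Lpos_good Lpos_nodup u (by
    rw [rootSetSub_list_eq_pos chevG2 Lpos Lpos_pos]; exact hu)
  exact ⟨p 7, p 6, p 8, p 9, p 10, p 11, hp⟩

theorem word6_mem_pos (a b c d e f : K) :
    wordGL chevG2 hG2 [(7, a), (6, b), (8, c), (9, d), (10, e), (11, f)]
      ∈ chevG2.posUnipotent K := by
  rw [← prodL_tup]
  exact prodL_mem_pos chevG2 hG2 Lpos Lpos_pos _

theorem word6_inj [Fintype K] (a b c d e f a' b' c' d' e' f' : K)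
    (h : wordGL chevG2 hG2 [(7, a), (6, b), (8, c), (9, d), (10, e), (11, f)]
      = wordGL chevG2 hG2 [(7, a'), (6, b'), (8, c'), (9, d'), (10, e'), (11, f')]) :
    a = a' ∧ b = b' ∧ c = c' ∧ d = d' ∧ e = e' ∧ f = f' := by
  rw [← prodL_tup, ← prodL_tup] at h
  have key := prodL_unique chevG2 hG2 Lpos Lpos_good Lpos_nodup Lpos_pos Lpos_len _ _ h
  have h7 := key 7 (by decide)
  have h6 := key 6 (by decide)
  have h8 := key 8 (by decide)
  have h9 := key 9 (by decide)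
  have h10 := key 10 (by decide)
  have h11 := key 11 (by decide)
  simp only [tup] at h7 h6 h8 h9 h10 h11
  norm_num at h7 h6 h8 h9 h10 h11
  exact ⟨h7, h6, h8, h9, h10, h11⟩

variable [CharP K 3] (m : ℕ)

/-- the fixed points of `σ` in `U` -/
theorem pos_fix_iff [Fintype K] (hq : ∀ x : K, x ^ 3 ^ (2 * m + 1) = x) (g : GL chevG2.Idx K) :
    g ∈ chevG2.posUnipotent K ⊓ fixG m ↔
      ∃ t u v : K, g = wordGL chevG2 hG2 (reeWordU (3 ^ m) t u v) := by
  constructor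
  · rintro ⟨hU, -, hfix⟩
    obtain ⟨a, b, c, d, e, f, rfl⟩ := exists_word6 g hU
    rw [sigGL_word6] at hfix
    obtain ⟨h1, h2, h3, h4, -, -⟩ := word6_inj _ _ _ _ _ _ _ _ _ _ _ _ hfix
    refine ⟨b, e, f, ?_⟩
    rw [reeWordU_eq, ← h1, ← h3, ← h4]
    rw [h2]
  · rintro ⟨t, u, v, rfl⟩
    refine Subgroup.mem_inf.2 ⟨?_, reeU_mem_fixG m hq t u v⟩
    rw [reeWordU_eq]
    exact word6_mem_pos _ _ _ _ _ _

theorem reeU_injective [Fintype K] (t u v t' u' v' : K)
    (h : wordGL chevG2 hG2 (reeWordU (3 ^ m) t u v)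
      = wordGL chevG2 hG2 (reeWordU (3 ^ m) t' u' v')) : t = t' ∧ u = u' ∧ v = v' := by
  rw [reeWordU_eq, reeWordU_eq] at h
  obtain ⟨-, h2, -, -, h5, h6⟩ := word6_inj _ _ _ _ _ _ _ _ _ _ _ _ h
  exact ⟨h2, h5, h6⟩

/-- `U ∩ G¹` is the set of the fixed points in `U` -/
theorem pos_inf_twisted [Fintype K] (hq : ∀ x : K, x ^ 3 ^ (2 * m + 1) = x) :
    chevG2.posUnipotent K ⊓ twistedG2 K (3 ^ m) = chevG2.posUnipotent K ⊓ fixG m := by
  apply le_antisymm
  · exact inf_le_inf_left _ (twisted_le_fixG m hq)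
  · intro g hg
    obtain ⟨t, u, v, rfl⟩ := (pos_fix_iff m hq g).1 hg
    exact Subgroup.mem_inf.2 ⟨(Subgroup.mem_inf.1 hg).1, reeU_mem_twisted m t u v⟩

theorem card_pos_fix [Fintype K] (hq : ∀ x : K, x ^ 3 ^ (2 * m + 1) = x) :
    Nat.card ↥(chevG2.posUnipotent K ⊓ fixG m) = Fintype.card K ^ 3 := by
  let f : K × K × K → ↥(chevG2.posUnipotent K ⊓ fixG m) := fun p =>
    ⟨wordGL chevG2 hG2 (reeWordU (3 ^ m) p.1 p.2.1 p.2.2),
      (pos_fix_iff m hq _).2 ⟨p.1, p.2.1, p.2.2, rfl⟩⟩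
  have hbij : Function.Bijective f := by
    constructor
    · rintro ⟨t, u, v⟩ ⟨t', u', v'⟩ h
      have h' := congrArg Subtype.val h
      obtain ⟨h1, h2, h3⟩ := reeU_injective m t u v t' u' v' h'
      rw [h1, h2, h3]
    · rintro ⟨g, hg⟩
      obtain ⟨t, u, v, rfl⟩ := (pos_fix_iff m hq g).1 hg
      exact ⟨(t, u, v), rfl⟩
  rw [← Nat.card_congr (Equiv.ofBijective f hbij), Nat.card_prod, Nat.card_prod,
    Nat.card_eq_fintype_card]
  ring

end Cfsg.Agent.Lib.Helper5.Ree
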