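import Mathlib
import Cfsg.Prelude.Def_ChevStructure
import Cfsg.Prelude.Def_LieTwisted
import Cfsg.Agent.Lib.Helper5.Ree.HGen2
import Cfsg.Agent.Lib.Helper5.Ree.UFix
import Cfsg.Agent.Lib.Helper5.ChevMonoN

set_option autoImplicit false

/-!
The Ree group is the group of fixed points of `σ`; its order.
-/

namespace Cfsg.Agent.Lib.Helper5.Ree

open Cfsg Cfsg.Lie Cfsg.Agent.Lib.Helper5.ChevSym Cfsg.Agent.Lib.Helper5.ChevSymP
  Cfsg.Agent.Lib.Helper5.ChevStruct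

variable {K : Type*} [Field K]

/-! ### The element `n₀` -/

theorem n0_eq_word : n0 K = wordGL chevG2 hG2 (w0W.map fun p => (p.1, ((p.2 : ℤ) : K))) := by
  have e7 : chevG2.neg 7 = 4 := rfl
  have e6 : chevG2.neg 6 = 5 := rfl
  have s0 : chevG2.simple 0 = 7 := rfl
  have s1 : chevG2.simple 1 = 6 := rfl
  simp [n0, w0, wGL, nGL, wordGL, ChevalleyDatum.nWord, w0W, e7, e6, s0, s1, mul_assoc]

variable [CharP K 3] (m : ℕ)

theorem n0W_eq : (n0W.map fun p => (p.1, ((p.2 : ℤ) : K)))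
    = reeWordU (3 ^ m) 0 1 0 ++ reeWordV (3 ^ m) 0 1 0 ++ reeWordU (3 ^ m) 0 1 0 := by
  rw [reeWordU_eq, reeWordV_eq]
  simp [n0W]

theorem n0_mem_twisted : n0 K ∈ twistedG2 K (3 ^ m) := by
  have e : n0 K = wordGL chevG2 hG2 (n0W.map fun p => (p.1, ((p.2 : ℤ) : K))) := by
    rw [n0_eq_word]
    apply Units.ext
    rw [wordGL_val, wordGL_val, n0_eq three_eq_zero]
  rw [e, n0W_eq, wordGL_append', wordGL_append']
  exact mul_mem (mul_mem (reeU_mem_twisted m _ _ _) (reeV_mem_twisted m _ _ _))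
    (reeU_mem_twisted m _ _ _)

theorem n0_mem_fixG (hq : ∀ x : K, x ^ 3 ^ (2 * m + 1) = x) : n0 K ∈ fixG m :=
  twisted_le_fixG m hq (n0_mem_twisted m)

omit [CharP K 3] in
theorem n0_not_mem_borel : n0 K ∉ chevG2.borelSubgroup K := by
  intro h
  have hH : n0 K ∈ chevG2.diagonalSubgroup K := by
    rw [← borel_inf_monomial chevG2 hG2]
    exact Subgroup.mem_inf.2 ⟨h, n0_mem_mono⟩
  have h1 : (wGL chevG2 hG2 w0 * (wGL chevG2 hG2 [])⁻¹ : GL chevG2.Idx K)
      ∈ chevG2.diagonalSubgroup K := by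
    rw [wGL_nil, inv_one, mul_one]
    exact hH
  have := (hrel_iff_act_eq chevG2 hG2 w0 [] w0_wd (Wd.nil _)).1 h1 7 (by decide)
  revert this
  decide

/-! ### The Ree group is the group of fixed points -/

theorem fixG_le_twisted [Fintype K] (hq : ∀ x : K, x ^ 3 ^ (2 * m + 1) = x) :
    fixG m ≤ twistedG2 K (3 ^ m) := by
  have hB : ∀ b ∈ chevG2.borelSubgroup K ⊓ fixG m, b ∈ twistedG2 K (3 ^ m) := by
    intro b hb
    obtain ⟨u, hu, h, hh, rfl⟩ := borel_fix m b (Subgroup.mem_inf.1 hb).1 (Subgroup.mem_inf.1 hb).2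
    rw [← pos_inf_twisted m hq] at hu
    exact mul_mem (Subgroup.mem_inf.1 hu).2 (diag_fix_le m hq hh)
  intro g hg
  rcases cell_fix m (n0_mem_fixG m hq).2 g hg with h | ⟨b, hb, v, hv, rfl⟩
  · exact hB g (Subgroup.mem_inf.2 ⟨h, hg⟩)
  · rw [← pos_inf_twisted m hq] at hv
    exact mul_mem (mul_mem (hB b hb) (n0_mem_twisted m)) (Subgroup.mem_inf.1 hv).2

theorem twisted_eq_fixG [Fintype K] (hq : ∀ x : K, x ^ 3 ^ (2 * m + 1) = x) :
    twistedG2 K (3 ^ m) = fixG m :=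
  le_antisymm (twisted_le_fixG m hq) (fixG_le_twisted m hq)

/-! ### Orders -/

theorem card_diag_fix [Fintype K] (hq : ∀ x : K, x ^ 3 ^ (2 * m + 1) = x) :
    Nat.card ↥(chevG2.diagonalSubgroup K ⊓ fixG m) = Fintype.card K - 1 := by
  let f : Kˣ → ↥(chevG2.diagonalSubgroup K ⊓ fixG m) := fun z =>
    ⟨hz m z, (diag_fix_iff m hq _).2 ⟨z, rfl⟩⟩
  have hbij : Function.Bijective f := by
    constructor
    · intro z z' h
      exact hz_injective m (congrArg Subtype.val h)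
    · rintro ⟨g, hg⟩
      obtain ⟨z, rfl⟩ := (diag_fix_iff m hq g).1 hg
      exact ⟨z, rfl⟩
  rw [← Nat.card_congr (Equiv.ofBijective f hbij), Nat.card_units, Nat.card_eq_fintype_card]

theorem isCyclic_diag_fix [Fintype K] (hq : ∀ x : K, x ^ 3 ^ (2 * m + 1) = x) :
    IsCyclic ↥(chevG2.diagonalSubgroup K ⊓ fixG m) := by
  let f : Kˣ →* ↥(chevG2.diagonalSubgroup K ⊓ fixG m) :=
    (hz m).codRestrict _ (fun z => (diag_fix_iff m hq _).2 ⟨z, rfl⟩)
  have hsurj : Function.Surjective f := by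
    rintro ⟨g, hg⟩
    obtain ⟨z, rfl⟩ := (diag_fix_iff m hq g).1 hg
    exact ⟨z, rfl⟩
  exact isCyclic_of_surjective f hsurj

theorem card_borel_fix [Fintype K] (hq : ∀ x : K, x ^ 3 ^ (2 * m + 1) = x) :
    Nat.card ↥(chevG2.borelSubgroup K ⊓ fixG m)
      = Fintype.card K ^ 3 * (Fintype.card K - 1) := by
  let f : ↥(chevG2.posUnipotent K ⊓ fixG m) × ↥(chevG2.diagonalSubgroup K ⊓ fixG m) →
      ↥(chevG2.borelSubgroup K ⊓ fixG m) := fun p =>
    ⟨p.1.1 * p.2.1, Subgroup.mem_inf.2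
      ⟨mul_mem (pos_le_borel chevG2 (Subgroup.mem_inf.1 p.1.2).1)
        (diagonal_le_borel chevG2 (Subgroup.mem_inf.1 p.2.2).1),
       mul_mem (Subgroup.mem_inf.1 p.1.2).2 (Subgroup.mem_inf.1 p.2.2).2⟩⟩
  have hbij : Function.Bijective f := by
    constructor
    · rintro ⟨⟨u, hu⟩, ⟨h, hh⟩⟩ ⟨⟨u', hu'⟩, ⟨h', hh'⟩⟩ e
      have e' : u * h = u' * h' := congrArg Subtype.val e
      have h1 : u'⁻¹ * u = h' * h⁻¹ := by
        have : u = u' * h' * h⁻¹ := by rw [← e']; group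
        rw [this]; group
      have h2 : u'⁻¹ * u ∈ chevG2.posUnipotent K ⊓ chevG2.diagonalSubgroup K :=
        Subgroup.mem_inf.2 ⟨mul_mem (inv_mem (Subgroup.mem_inf.1 hu').1) (Subgroup.mem_inf.1 hu).1,
          by rw [h1]; exact mul_mem (Subgroup.mem_inf.1 hh').1 (inv_mem (Subgroup.mem_inf.1 hh).1)⟩
      rw [pos_inf_diagonal chevG2 hG2, Subgroup.mem_bot] at h2
      have hu_eq : u = u' := by
        have := congrArg (fun y => u' * y) h2
        simpa using this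
      have hh_eq : h = h' := by
        rw [hu_eq] at e'
        exact mul_left_cancel e'
      subst hu_eq hh_eq
      rfl
    · rintro ⟨b, hb⟩
      obtain ⟨u, hu, h, hh, rfl⟩ := borel_fix m b (Subgroup.mem_inf.1 hb).1 (Subgroup.mem_inf.1 hb).2
      exact ⟨(⟨u, hu⟩, ⟨h, hh⟩), rfl⟩
  rw [← Nat.card_congr (Equiv.ofBijective f hbij), Nat.card_prod, card_pos_fix m hq,
    card_diag_fix m hq]

omit [CharP K 3] in
theorem pos_le_unegSub_w0 : chevG2.posUnipotent K ≤ unegSub chevG2 K w0 := by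
  unfold ChevalleyDatum.posUnipotent unegSub rootSetSub
  apply Subgroup.closure_mono
  rintro g ⟨r, t, hr, hg⟩
  refine ⟨r, t, ⟨hr, ?_⟩, hg⟩
  have hr' : r < 12 := hr.1
  rw [w0_act r hr', isPos_iff]
  rw [isPos_iff] at hr
  have := (neg_facts r hr').2.2
  omega

/-- the order of the group of fixed points -/
theorem card_fixG [Fintype K] (hq : ∀ x : K, x ^ 3 ^ (2 * m + 1) = x) :
    Nat.card ↥(fixG (K := K) m)
      = Fintype.card K ^ 3 * (Fintype.card K - 1) * (Fintype.card K ^ 3 + 1) := by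
  have hn0 := n0_mem_fixG m hq
  let f : ↥(chevG2.borelSubgroup K ⊓ fixG m) ⊕
      (↥(chevG2.borelSubgroup K ⊓ fixG m) × ↥(chevG2.posUnipotent K ⊓ fixG m)) → ↥(fixG (K := K) m) :=
    fun p => match p with
    | Sum.inl b => ⟨b.1, (Subgroup.mem_inf.1 b.2).2⟩
    | Sum.inr (b, v) => ⟨b.1 * n0 K * v.1,
        mul_mem (mul_mem (Subgroup.mem_inf.1 b.2).2 hn0) (Subgroup.mem_inf.1 v.2).2⟩
  have huneg : ∀ v ∈ chevG2.posUnipotent K ⊓ fixG m, v ∈ unegOf chevG2 K (n0 K) := fun v hv =>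
    unegSub_le_unegOf chevG2 hG2 w0 w0_wd (pos_le_unegSub_w0 (Subgroup.mem_inf.1 hv).1)
  have hbij : Function.Bijective f := by
    constructor
    · rintro (b | ⟨b, v⟩) (b' | ⟨b', v'⟩) e
      · have e' : b.1 = b'.1 :=
          congrArg (fun x : ↥(fixG (K := K) m) => (x : GL chevG2.Idx K)) e
        rw [Subtype.ext e']
      · exfalso
        have e' : b.1 = b'.1 * n0 K * v'.1 :=
          congrArg (fun x : ↥(fixG (K := K) m) => (x : GL chevG2.Idx K)) e
        apply n0_not_mem_borel (K := K)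
        have : n0 K = b'.1⁻¹ * b.1 * v'.1⁻¹ := by rw [e']; group
        rw [this]
        exact mul_mem (mul_mem (inv_mem (Subgroup.mem_inf.1 b'.2).1) (Subgroup.mem_inf.1 b.2).1)
          (inv_mem (pos_le_borel chevG2 (Subgroup.mem_inf.1 v'.2).1))
      · exfalso
        have e' : b.1 * n0 K * v.1 = b'.1 :=
          congrArg (fun x : ↥(fixG (K := K) m) => (x : GL chevG2.Idx K)) e
        apply n0_not_mem_borel (K := K)
        have : n0 K = b.1⁻¹ * b'.1 * v.1⁻¹ := by rw [← e']; group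
        rw [this]
        exact mul_mem (mul_mem (inv_mem (Subgroup.mem_inf.1 b.2).1) (Subgroup.mem_inf.1 b'.2).1)
          (inv_mem (pos_le_borel chevG2 (Subgroup.mem_inf.1 v.2).1))
      · have e' : b.1 * n0 K * v.1 = b'.1 * n0 K * v'.1 :=
          congrArg (fun x : ↥(fixG (K := K) m) => (x : GL chevG2.Idx K)) e
        have hu := bruhat_unique chevG2 hG2 _ _ _ _ _ _ (Subgroup.mem_inf.1 b.2).1
          (Subgroup.mem_inf.1 b'.2).1 (n0_mem_mono (K := K)) (n0_mem_mono (K := K))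
          (huneg v.1 v.2) (huneg v'.1 v'.2) e'
        obtain ⟨h1, h2⟩ := hu.2 rfl
        rw [Subtype.ext h1, Subtype.ext h2]
    · rintro ⟨g, hg⟩
      rcases cell_fix m hn0.2 g hg with h | ⟨b, hb, v, hv, rfl⟩
      · exact ⟨Sum.inl ⟨g, Subgroup.mem_inf.2 ⟨h, hg⟩⟩, rfl⟩
      · exact ⟨Sum.inr (⟨b, hb⟩, ⟨v, hv⟩), rfl⟩
  rw [← Nat.card_congr (Equiv.ofBijective f hbij), Nat.card_sum, Nat.card_prod,
    card_borel_fix m hq, card_pos_fix m hq]
  ring

end Cfsg.Agent.Lib.Helper5.Ree
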