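import Mathlib
import Cfsg.Prelude.Def_ChevStructure
import Cfsg.Prelude.Def_LieTwisted
import Cfsg.Prelude.Def_LieExceptional
import Cfsg.Agent.Lib.Helper5.Ree.Main

set_option autoImplicit false

/-!
The `(B, N)`-pair of rank one of the Ree group.
-/

namespace Cfsg.Agent.Lib.Helper5.Ree

open Cfsg Cfsg.Lie Cfsg.Agent.Lib.Helper5.ChevSym Cfsg.Agent.Lib.Helper5.ChevSymP
  Cfsg.Agent.Lib.Helper5.ChevStruct

variable {K : Type*} [Field K]

theorem w0w0_act : ∀ r < 12, wAct chevG2 (w0 ++ w0) r = r := by decide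

theorem n0_sq_mem : n0 K * n0 K ∈ chevG2.diagonalSubgroup K := by
  unfold n0
  rw [← wGL_append]
  apply wGL_mem_diagonal_of_act chevG2 hG2 _ _ w0w0_act
  intro i hi
  rcases List.mem_append.1 hi with h | h <;> exact w0_wd i h

variable [CharP K 3] (m : ℕ)

/-- the fixed points in `N` lie in `H` or in `n₀ H` -/
theorem mono_fix (hq : ∀ x : K, x ^ 3 ^ (2 * m + 1) = x) (n : GL chevG2.Idx K)
    (hn : n ∈ chevG2.monomialSubgroup K) (hfix : n ∈ fixG m) :
    n ∈ chevG2.diagonalSubgroup K ∨ (n0 K)⁻¹ * n ∈ chevG2.diagonalSubgroup K := by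
  rcases cell_fix m (n0_mem_fixG m hq).2 n hfix with h | ⟨b, hb, v, hv, e⟩
  · left
    rw [← borel_inf_monomial chevG2 hG2]
    exact Subgroup.mem_inf.2 ⟨h, hn⟩
  · right
    have hv' : v ∈ unegOf chevG2 K (n0 K) :=
      unegSub_le_unegOf chevG2 hG2 w0 w0_wd (pos_le_unegSub_w0 (Subgroup.mem_inf.1 hv).1)
    have e' : (1 : GL chevG2.Idx K) * n * 1 = b * n0 K * v := by rw [one_mul, mul_one, e]
    have hu := bruhat_unique chevG2 hG2 _ _ _ _ _ _ (one_mem _) (Subgroup.mem_inf.1 hb).1 hn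
      (n0_mem_mono (K := K)) (one_mem _) hv' e'
    have := inv_mem hu.1
    rw [mul_inv_rev, inv_inv] at this
    exact this

/-- the two double cosets -/
theorem fix_cases (hq : ∀ x : K, x ^ 3 ^ (2 * m + 1) = x) (g : GL chevG2.Idx K)
    (hg : g ∈ fixG m) :
    g ∈ chevG2.borelSubgroup K ⊓ fixG m ∨
      ∃ b1 ∈ chevG2.borelSubgroup K ⊓ fixG m, ∃ b2 ∈ chevG2.borelSubgroup K ⊓ fixG m,
        g = b1 * n0 K * b2 := by
  rcases cell_fix m (n0_mem_fixG m hq).2 g hg with h | ⟨b, hb, v, hv, e⟩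
  · exact Or.inl (Subgroup.mem_inf.2 ⟨h, hg⟩)
  · exact Or.inr ⟨b, hb, v, Subgroup.mem_inf.2
      ⟨pos_le_borel chevG2 (Subgroup.mem_inf.1 hv).1, (Subgroup.mem_inf.1 hv).2⟩, e⟩

theorem two_cosets (hq : ∀ x : K, x ^ 3 ^ (2 * m + 1) = x) (n : GL chevG2.Idx K)
    (hn : n ∈ chevG2.monomialSubgroup K) (hnf : n ∈ fixG m) (g : GL chevG2.Idx K)
    (hg : g ∈ fixG m) :
    (∃ c1 ∈ chevG2.borelSubgroup K ⊓ fixG m, ∃ c2 ∈ chevG2.borelSubgroup K ⊓ fixG m,
      g = c1 * (n0 K * n) * c2) ∨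
    (∃ c1 ∈ chevG2.borelSubgroup K ⊓ fixG m, ∃ c2 ∈ chevG2.borelSubgroup K ⊓ fixG m,
      g = c1 * n * c2) := by
  have hn0 := n0_mem_fixG m hq
  have hB1 : (1 : GL chevG2.Idx K) ∈ chevG2.borelSubgroup K ⊓ fixG m := one_mem _
  rcases mono_fix m hq n hn hnf with hH | hH
  · have hnB : n ∈ chevG2.borelSubgroup K ⊓ fixG m :=
      Subgroup.mem_inf.2 ⟨diagonal_le_borel chevG2 hH, hnf⟩
    rcases fix_cases m hq g hg with h | ⟨b1, hb1, b2, hb2, e⟩
    · right
      exact ⟨g * n⁻¹, mul_mem h (inv_mem hnB), 1, hB1, by group⟩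
    · left
      exact ⟨b1, hb1, n⁻¹ * b2, mul_mem (inv_mem hnB) hb2, by rw [e]; group⟩
  · have hhB : (n0 K)⁻¹ * n ∈ chevG2.borelSubgroup K ⊓ fixG m :=
      Subgroup.mem_inf.2 ⟨diagonal_le_borel chevG2 hH, mul_mem (inv_mem hn0) hnf⟩
    rcases fix_cases m hq g hg with h | ⟨b1, hb1, b2, hb2, e⟩
    · left
      have h2 : n0 K * n ∈ chevG2.borelSubgroup K ⊓ fixG m := by
        have e2 : n0 K * n = n0 K * n0 K * ((n0 K)⁻¹ * n) := by group
        rw [e2]
        exact mul_mem (Subgroup.mem_inf.2 ⟨diagonal_le_borel chevG2 n0_sq_mem, mul_mem hn0 hn0⟩) hhB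
      exact ⟨g * (n0 K * n)⁻¹, mul_mem h (inv_mem h2), 1, hB1, by group⟩
    · right
      exact ⟨b1, hb1, ((n0 K)⁻¹ * n)⁻¹ * b2, mul_mem (inv_mem hhB) hb2, by rw [e]; group⟩

omit [CharP K 3] in
theorem reeU_zero : wordGL chevG2 hG2 (reeWordU (3 ^ m) (0 : K) 0 0) = 1 := by
  unfold reeWordU
  have h3 : (3 : ℕ) ^ m ≠ 0 := pow_ne_zero _ (by norm_num)
  simp [wordGL, xGL_zero', h3]

/-- `n₀ B n₀ ≠ B` -/
theorem conj_ne_aux [Fintype K] (u : GL chevG2.Idx K) (hu : u ∈ chevG2.posUnipotent K)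
    (hne : u ≠ 1) : n0 K * u * n0 K ∉ chevG2.borelSubgroup K := by
  intro h
  have hv : n0 K * u * (n0 K)⁻¹ ∈ chevG2.negUnipotent K :=
    conj_unegOf_le_neg chevG2 _ _ (unegSub_le_unegOf chevG2 hG2 w0 w0_wd (pos_le_unegSub_w0 hu))
  have hb : n0 K * u * (n0 K)⁻¹ ∈ chevG2.borelSubgroup K := by
    have e : n0 K * u * (n0 K)⁻¹ = n0 K * u * n0 K * (n0 K * n0 K)⁻¹ := by group
    rw [e]
    exact mul_mem h (inv_mem (diagonal_le_borel chevG2 n0_sq_mem))
  have h1 : n0 K * u * (n0 K)⁻¹ ∈ chevG2.borelSubgroup K ⊓ chevG2.negUnipotent K :=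
    Subgroup.mem_inf.2 ⟨hb, hv⟩
  rw [borel_inf_neg chevG2 hG2, Subgroup.mem_bot] at h1
  apply hne
  have : u = (n0 K)⁻¹ * (n0 K * u * (n0 K)⁻¹) * n0 K := by group
  rw [this, h1]
  group

/-- the `(B, N)`-pair of the group of fixed points -/
def reeBN [Fintype K] (hq : ∀ x : K, x ^ 3 ^ (2 * m + 1) = x) : Cfsg.BNPair ↥(fixG (K := K) m) where
  B := (chevG2.borelSubgroup K ⊓ fixG m).subgroupOf (fixG m)
  N := (chevG2.monomialSubgroup K ⊓ fixG m).subgroupOf (fixG m)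
  S := {⟨n0 K, n0_mem_fixG m hq⟩}
  sup_eq_top := by
    rw [eq_top_iff]
    intro x _
    have hn0 := n0_mem_fixG m hq
    rcases fix_cases m hq x.1 x.2 with h | ⟨b1, hb1, b2, hb2, e⟩
    · apply Subgroup.mem_sup_left
      rw [Subgroup.mem_subgroupOf]
      exact h
    · have ex : x = ⟨b1, (Subgroup.mem_inf.1 hb1).2⟩ * ⟨n0 K, hn0⟩
          * ⟨b2, (Subgroup.mem_inf.1 hb2).2⟩ := Subtype.ext e
      rw [ex]
      apply mul_mem (mul_mem _ _) _
      · apply Subgroup.mem_sup_left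
        rw [Subgroup.mem_subgroupOf]
        exact hb1
      · apply Subgroup.mem_sup_right
        rw [Subgroup.mem_subgroupOf]
        exact Subgroup.mem_inf.2 ⟨n0_mem_mono, hn0⟩
      · apply Subgroup.mem_sup_left
        rw [Subgroup.mem_subgroupOf]
        exact hb2
  conj_mem := by
    intro n hn t ht
    rw [Subgroup.mem_subgroupOf] at hn ⊢
    obtain ⟨ht1, ht2⟩ := Subgroup.mem_inf.1 ht
    rw [Subgroup.mem_subgroupOf] at ht1 ht2
    have hn' : (n : GL chevG2.Idx K) ∈ chevG2.monomialSubgroup K := (Subgroup.mem_inf.1 hn).1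
    have ht' : (t : GL chevG2.Idx K) ∈ chevG2.diagonalSubgroup K := by
      rw [← borel_inf_monomial chevG2 hG2]
      exact Subgroup.mem_inf.2 ⟨(Subgroup.mem_inf.1 ht1).1, (Subgroup.mem_inf.1 ht2).1⟩
    refine Subgroup.mem_inf.2 ⟨?_, (n * t * n⁻¹).2⟩
    exact diagonal_le_borel chevG2 (conj_monomial_diag_mem chevG2 hG2 _ hn' _ ht').1
  subset := by
    rintro s hs
    rw [Set.mem_singleton_iff] at hs
    rw [hs]
    show _ ∈ (chevG2.monomialSubgroup K ⊓ fixG m).subgroupOf (fixG m)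
    rw [Subgroup.mem_subgroupOf]
    exact Subgroup.mem_inf.2 ⟨n0_mem_mono, n0_mem_fixG m hq⟩
  sq_mem := by
    rintro s hs
    rw [Set.mem_singleton_iff] at hs
    rw [hs, Subgroup.mem_subgroupOf]
    refine Subgroup.mem_inf.2 ⟨?_, mul_mem (n0_mem_fixG m hq) (n0_mem_fixG m hq)⟩
    exact diagonal_le_borel chevG2 n0_sq_mem
  inj := by
    rintro s hs s' hs' _
    rw [Set.mem_singleton_iff] at hs hs'
    rw [hs, hs']
  closure_sup := by
    have hn0 := n0_mem_fixG m hq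
    apply le_antisymm
    · apply sup_le
      · rw [Subgroup.closure_le]
        rintro s hs
        rw [Set.mem_singleton_iff] at hs
        rw [hs]
        show _ ∈ (chevG2.monomialSubgroup K ⊓ fixG m).subgroupOf (fixG m)
        rw [Subgroup.mem_subgroupOf]
        exact Subgroup.mem_inf.2 ⟨n0_mem_mono, hn0⟩
      · exact inf_le_right
    · intro x hx
      rw [Subgroup.mem_subgroupOf] at hx
      have hmem : ∀ h : GL chevG2.Idx K, ∀ hh : h ∈ chevG2.diagonalSubgroup K, ∀ hf : h ∈ fixG m,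
          (⟨h, hf⟩ : ↥(fixG (K := K) m)) ∈ (chevG2.borelSubgroup K ⊓ fixG m).subgroupOf (fixG m) ⊓
            (chevG2.monomialSubgroup K ⊓ fixG m).subgroupOf (fixG m) := by
        intro h hh hf
        refine Subgroup.mem_inf.2 ⟨?_, ?_⟩
        · rw [Subgroup.mem_subgroupOf]
          exact Subgroup.mem_inf.2 ⟨diagonal_le_borel chevG2 hh, hf⟩
        · rw [Subgroup.mem_subgroupOf]
          exact Subgroup.mem_inf.2 ⟨diagonal_le_monomial chevG2 hh, hf⟩
      rcases mono_fix m hq x.1 (Subgroup.mem_inf.1 hx).1 x.2 with hH | hH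
      · apply Subgroup.mem_sup_right
        exact hmem x.1 hH x.2
      · have ex : x = ⟨n0 K, hn0⟩ * ⟨(n0 K)⁻¹ * x.1, mul_mem (inv_mem hn0) x.2⟩ :=
          Subtype.ext (by show x.1 = n0 K * ((n0 K)⁻¹ * x.1); group)
        rw [ex]
        apply mul_mem
        · apply Subgroup.mem_sup_left
          exact Subgroup.subset_closure rfl
        · apply Subgroup.mem_sup_right
          exact hmem _ hH _
  mul_mem_union := by
    rintro s hs n hn b hb
    rw [Set.mem_singleton_iff] at hs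
    rw [Subgroup.mem_subgroupOf] at hn
    have key := two_cosets m hq n.1 (Subgroup.mem_inf.1 hn).1 n.2 (s * b * n).1 (s * b * n).2
    rcases key with ⟨c₁, hc₁, c₂, hc₂, e⟩ | ⟨c₁, hc₁, c₂, hc₂, e⟩
    · left
      rw [DoubleCoset.mem_doubleCoset]
      refine ⟨⟨c₁, (Subgroup.mem_inf.1 hc₁).2⟩, ?_, ⟨c₂, (Subgroup.mem_inf.1 hc₂).2⟩, ?_,
        Subtype.ext ?_⟩
      · show _ ∈ (chevG2.borelSubgroup K ⊓ fixG m).subgroupOf (fixG m)
        rw [Subgroup.mem_subgroupOf]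
        exact hc₁
      · show _ ∈ (chevG2.borelSubgroup K ⊓ fixG m).subgroupOf (fixG m)
        rw [Subgroup.mem_subgroupOf]
        exact hc₂
      · rw [e, hs]
        rfl
    · right
      rw [DoubleCoset.mem_doubleCoset]
      refine ⟨⟨c₁, (Subgroup.mem_inf.1 hc₁).2⟩, ?_, ⟨c₂, (Subgroup.mem_inf.1 hc₂).2⟩, ?_,
        Subtype.ext ?_⟩
      · show _ ∈ (chevG2.borelSubgroup K ⊓ fixG m).subgroupOf (fixG m)
        rw [Subgroup.mem_subgroupOf]
        exact hc₁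
      · show _ ∈ (chevG2.borelSubgroup K ⊓ fixG m).subgroupOf (fixG m)
        rw [Subgroup.mem_subgroupOf]
        exact hc₂
      · rw [e]
        rfl
  conj_ne := by
    rintro s hs heq
    rw [Set.mem_singleton_iff] at hs
    set u : GL chevG2.Idx K := wordGL chevG2 hG2 (reeWordU (3 ^ m) 0 0 1) with hu
    have huf : u ∈ chevG2.posUnipotent K ⊓ fixG m := (pos_fix_iff m hq u).2 ⟨0, 0, 1, rfl⟩
    have hu1 : u ≠ 1 := by
      intro h1
      rw [← reeU_zero m] at h1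
      exact one_ne_zero (reeU_injective m _ _ _ _ _ _ h1).2.2
    have hmem : s * ⟨u, (Subgroup.mem_inf.1 huf).2⟩ * s ∈ (fun b : ↥(fixG (K := K) m) => s * b * s) ''
        (((chevG2.borelSubgroup K ⊓ fixG m).subgroupOf (fixG m) :
          Subgroup ↥(fixG (K := K) m)) : Set ↥(fixG (K := K) m)) := by
      refine ⟨⟨u, (Subgroup.mem_inf.1 huf).2⟩, ?_, rfl⟩
      rw [SetLike.mem_coe, Subgroup.mem_subgroupOf]
      exact Subgroup.mem_inf.2 ⟨pos_le_borel chevG2 (Subgroup.mem_inf.1 huf).1,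
        (Subgroup.mem_inf.1 huf).2⟩
    rw [heq, SetLike.mem_coe, Subgroup.mem_subgroupOf] at hmem
    have h' : (s : GL chevG2.Idx K) * u * (s : GL chevG2.Idx K) ∈ chevG2.borelSubgroup K :=
      (Subgroup.mem_inf.1 hmem).1
    rw [hs] at h'
    exact conj_ne_aux u (Subgroup.mem_inf.1 huf).1 hu1 h'

end Cfsg.Agent.Lib.Helper5.Ree
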