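import Mathlib
import Cfsg.Prelude.Def_ChevStructure
import Cfsg.Prelude.Def_LieTwisted
import Cfsg.Prelude.Def_LieExceptional
import Cfsg.Agent.Lib.Helper5.Ree.BN
import Cfsg.Agent.Lib.Helper5.ChevTwistCore

set_option autoImplicit false

/-!
The core of `B¹` in the Ree group is trivial; the Weyl group of the Ree group has order 2.
-/

namespace Cfsg.Agent.Lib.Helper5.Ree

open Cfsg Cfsg.Lie Cfsg.Agent.Lib.Helper5.ChevSym Cfsg.Agent.Lib.Helper5.ChevSymP
  Cfsg.Agent.Lib.Helper5.ChevStruct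

variable {K : Type*} [Field K] [CharP K 3] (m : ℕ)

theorem checkW0_w0 : checkW0 chevG2 w0 = true := by decide

/-- an element all of whose conjugates lie in `B` lies in `H` -/
theorem core_le_diagonal (hq : ∀ x : K, x ^ 3 ^ (2 * m + 1) = x) (c : GL chevG2.Idx K)
    (hc : ∀ g ∈ fixG (K := K) m, g * c * g⁻¹ ∈ chevG2.borelSubgroup K) :
    c ∈ chevG2.diagonalSubgroup K := by
  obtain ⟨hwd, hmap⟩ := conj_pos_eq_neg' (K := K) chevG2 hG2 w0 checkW0_w0
  set n : GL chevG2.Idx K := wGL chevG2 hG2 w0 with hn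
  have hnN : n ∈ chevG2.monomialSubgroup K := wGL_mem chevG2 hG2 _ hwd
  have hnG : n ∈ fixG (K := K) m := n0_mem_fixG m hq
  have h1 : n⁻¹ * c * n ∈ chevG2.borelSubgroup K := by
    have := hc n⁻¹ (inv_mem hnG)
    rwa [inv_inv] at this
  have h2 : c ∈ (chevG2.borelSubgroup K).map (MulAut.conj n).toMonoidHom := by
    refine ⟨n⁻¹ * c * n, h1, ?_⟩
    show n * (n⁻¹ * c * n) * n⁻¹ = c
    group
  have h3 : (chevG2.borelSubgroup K).map (MulAut.conj n).toMonoidHom
      = chevG2.negUnipotent K ⊔ chevG2.diagonalSubgroup K := by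
    unfold ChevalleyDatum.borelSubgroup
    rw [Subgroup.map_sup, hmap, diagonal_map_conj chevG2 hG2 n hnN]
  rw [h3] at h2
  have h4 : c ∈ chevG2.borelSubgroup K := by
    have := hc 1 (one_mem _)
    simpa using this
  have : c ∈ chevG2.borelSubgroup K ⊓ (chevG2.negUnipotent K ⊔ chevG2.diagonalSubgroup K) :=
    Subgroup.mem_inf.2 ⟨h4, h2⟩
  rwa [borel_inf_negBorel chevG2 hG2] at this

/-- an element all of whose conjugates lie in `B` is trivial -/
theorem core_eq_one [Fintype K] (hq : ∀ x : K, x ^ 3 ^ (2 * m + 1) = x) (c : GL chevG2.Idx K)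
    (hc : ∀ g ∈ fixG (K := K) m, g * c * g⁻¹ ∈ chevG2.borelSubgroup K) : c = 1 := by
  have hcH : c ∈ chevG2.diagonalSubgroup K := core_le_diagonal m hq c hc
  have hconj : ∀ x ∈ fixG (K := K) m, x * c * x⁻¹ ∈ chevG2.diagonalSubgroup K := by
    intro x hx
    apply core_le_diagonal m hq
    intro g hg
    have := hc (g * x) (mul_mem hg hx)
    have e : g * (x * c * x⁻¹) * g⁻¹ = g * x * c * (g * x)⁻¹ := by group
    rw [e]
    exact this
  obtain ⟨k, hk, hck⟩ := exists_torusMat_of_mem chevG2 hG2 c hcH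
  -- the element `u = α(0,1,1)`
  set u : GL chevG2.Idx K := wordGL chevG2 hG2 (reeWordU (3 ^ m) 0 1 1) with hu
  have huf : u ∈ chevG2.posUnipotent K ⊓ fixG m := (pos_fix_iff m hq u).2 ⟨0, 1, 1, rfl⟩
  have huU := (Subgroup.mem_inf.1 huf).1
  -- `c u c⁻¹ = u`
  have h1 : c * u * c⁻¹ * u⁻¹ ∈ chevG2.posUnipotent K ⊓ chevG2.diagonalSubgroup K := by
    refine Subgroup.mem_inf.2 ⟨?_, ?_⟩
    · apply mul_mem _ (inv_mem huU)
      have := diagonal_le_normalizer_pos chevG2 hG2 hcH
      rw [Subgroup.mem_normalizer_iff] at this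
      exact (this u).1 huU
    · have e : c * u * c⁻¹ * u⁻¹ = c * (u * c * u⁻¹)⁻¹ := by group
      rw [e]
      exact mul_mem hcH (inv_mem (hconj u (Subgroup.mem_inf.1 huf).2))
  rw [pos_inf_diagonal chevG2 hG2, Subgroup.mem_bot] at h1
  have h2 : c * u * c⁻¹ = u := by
    have := congrArg (fun y => y * u) h1
    simpa using this
  -- the conjugate as a word
  have h3 : c * u * c⁻¹ = wordGL chevG2 hG2
      ((reeWordU (3 ^ m) (0 : K) 1 1).map fun p => (p.1, chi chevG2 k p.1 * p.2)) := by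
    have : c * u = wordGL chevG2 hG2
        ((reeWordU (3 ^ m) (0 : K) 1 1).map fun p => (p.1, chi chevG2 k p.1 * p.2)) * c := by
      apply Units.ext
      rw [Units.val_mul, Units.val_mul, hck, hu, wordGL_val, wordGL_val]
      exact torus_conj_word chevG2 hG2 k hk _
    rw [this]
    group
  rw [h3, hu, reeWordU_eq] at h2
  simp only [List.map_cons, List.map_nil] at h2
  obtain ⟨-, -, -, h9, -, h11⟩ := word6_inj _ _ _ _ _ _ _ _ _ _ _ _ h2
  rw [chi_nine] at h9
  rw [chi_eleven, mul_one] at h11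
  have hne : (0 : K) * ph m 0 ^ 2 + ph m 1 ≠ 0 := by
    rw [map_one, zero_mul, zero_add]
    exact one_ne_zero
  have h9' : k 0 = 1 := by
    have := mul_right_cancel₀ hne (h9.trans (one_mul _).symm)
    exact this
  apply Units.ext
  rw [hck, Units.val_one, ← torusMat_one chevG2]
  apply torusMat_congr
  intro i hi
  have : i = 0 ∨ i = 1 := by omega
  rcases this with rfl | rfl
  · exact h9'
  · exact h11

/-- the normal core of `B¹` is trivial -/
theorem normalCore_eq_bot [Fintype K] (hq : ∀ x : K, x ^ 3 ^ (2 * m + 1) = x) :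
    ((chevG2.borelSubgroup K ⊓ fixG m).subgroupOf (fixG m)).normalCore = ⊥ := by
  rw [eq_bot_iff]
  intro c hc
  rw [Subgroup.mem_bot]
  have h1 : ∀ g ∈ fixG (K := K) m, g * (c : GL chevG2.Idx K) * g⁻¹ ∈ chevG2.borelSubgroup K := by
    intro g hg
    have := hc ⟨g, hg⟩
    rw [Subgroup.mem_subgroupOf] at this
    exact (Subgroup.mem_inf.1 this).1
  exact Subtype.ext (core_eq_one m hq (c : GL chevG2.Idx K) h1)

/-! ### The Weyl group -/

omit [CharP K 3] in
theorem n0_not_mem_diag : n0 K ∉ chevG2.diagonalSubgroup K := fun h =>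
  n0_not_mem_borel (diagonal_le_borel chevG2 h)

open Classical in
/-- the homomorphism from `N¹` onto the group of order 2 -/
noncomputable def weylHom [Fintype K] (hq : ∀ x : K, x ^ 3 ^ (2 * m + 1) = x) :
    ↥(chevG2.monomialSubgroup K ⊓ fixG m) →* Multiplicative (ZMod 2) where
  toFun n := if (n : GL chevG2.Idx K) ∈ chevG2.diagonalSubgroup K then 1
    else Multiplicative.ofAdd 1
  map_one' := by
    rw [if_pos]
    exact one_mem _
  map_mul' a b := by
    have hH := chevG2.diagonalSubgroup K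
    have ha := mono_fix m hq a.1 (Subgroup.mem_inf.1 a.2).1 (Subgroup.mem_inf.1 a.2).2
    have hb := mono_fix m hq b.1 (Subgroup.mem_inf.1 b.2).1 (Subgroup.mem_inf.1 b.2).2
    by_cases h1 : (a : GL chevG2.Idx K) ∈ chevG2.diagonalSubgroup K
    · by_cases h2 : (b : GL chevG2.Idx K) ∈ chevG2.diagonalSubgroup K
      · rw [if_pos h1, if_pos h2, if_pos (show ((a * b : ↥(chevG2.monomialSubgroup K ⊓ fixG m)) :
          GL chevG2.Idx K) ∈ chevG2.diagonalSubgroup K from mul_mem h1 h2), one_mul]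
      · have h3 : ¬ ((a * b : ↥(chevG2.monomialSubgroup K ⊓ fixG m)) : GL chevG2.Idx K)
            ∈ chevG2.diagonalSubgroup K := by
          intro h
          apply h2
          have e : (b : GL chevG2.Idx K) = (a : GL chevG2.Idx K)⁻¹ * (a.1 * b.1) := by group
          rw [e]
          exact mul_mem (inv_mem h1) h
        rw [if_pos h1, if_neg h2, if_neg h3, one_mul]
    · by_cases h2 : (b : GL chevG2.Idx K) ∈ chevG2.diagonalSubgroup K
      · have h3 : ¬ ((a * b : ↥(chevG2.monomialSubgroup K ⊓ fixG m)) : GL chevG2.Idx K)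
            ∈ chevG2.diagonalSubgroup K := by
          intro h
          apply h1
          have e : (a : GL chevG2.Idx K) = (a.1 * b.1) * (b : GL chevG2.Idx K)⁻¹ := by group
          rw [e]
          exact mul_mem h (inv_mem h2)
        rw [if_neg h1, if_pos h2, if_neg h3, mul_one]
      · have ha' := ha.resolve_left h1
        have hb' := hb.resolve_left h2
        have h3 : ((a * b : ↥(chevG2.monomialSubgroup K ⊓ fixG m)) : GL chevG2.Idx K)
            ∈ chevG2.diagonalSubgroup K := by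
          have e : (a.1 * b.1 : GL chevG2.Idx K)
              = n0 K * n0 K * ((n0 K)⁻¹ * ((n0 K)⁻¹ * a.1) * n0 K) * ((n0 K)⁻¹ * b.1) := by group
          show (a.1 * b.1 : GL chevG2.Idx K) ∈ chevG2.diagonalSubgroup K
          rw [e]
          exact mul_mem (mul_mem n0_sq_mem
            (conj_monomial_diag_mem chevG2 hG2 _ n0_mem_mono _ ha').2) hb'
        rw [if_neg h1, if_neg h2, if_pos h3]
        rfl

theorem weylHom_apply [Fintype K] (hq : ∀ x : K, x ^ 3 ^ (2 * m + 1) = x)
    (n : ↥(chevG2.monomialSubgroup K ⊓ fixG m)) :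
    weylHom m hq n = 1 ↔ (n : GL chevG2.Idx K) ∈ chevG2.diagonalSubgroup K := by
  classical
  show (if (n : GL chevG2.Idx K) ∈ chevG2.diagonalSubgroup K then (1 : Multiplicative (ZMod 2))
    else Multiplicative.ofAdd 1) = 1 ↔ _
  split_ifs with h
  · exact ⟨fun _ => h, fun _ => rfl⟩
  · constructor
    · intro h'
      exact absurd h' (by decide)
    · intro h'
      exact absurd h' h

theorem weylHom_surjective [Fintype K] (hq : ∀ x : K, x ^ 3 ^ (2 * m + 1) = x) :
    Function.Surjective (weylHom (K := K) m hq) := by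
  intro x
  have hx : x = 1 ∨ x = Multiplicative.ofAdd 1 := by
    revert x
    decide
  rcases hx with rfl | rfl
  · exact ⟨1, map_one _⟩
  · refine ⟨⟨n0 K, Subgroup.mem_inf.2 ⟨n0_mem_mono, n0_mem_fixG m hq⟩⟩, ?_⟩
    classical
    show (if (n0 K : GL chevG2.Idx K) ∈ chevG2.diagonalSubgroup K then (1 : Multiplicative (ZMod 2))
      else Multiplicative.ofAdd 1) = _
    rw [if_neg n0_not_mem_diag]

theorem weylHom_ker [Fintype K] (hq : ∀ x : K, x ^ 3 ^ (2 * m + 1) = x) :
    (weylHom (K := K) m hq).ker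
      = (chevG2.diagonalSubgroup K ⊓ fixG m).subgroupOf (chevG2.monomialSubgroup K ⊓ fixG m) := by
  ext n
  rw [MonoidHom.mem_ker, weylHom_apply, Subgroup.mem_subgroupOf]
  constructor
  · intro h
    exact Subgroup.mem_inf.2 ⟨h, (Subgroup.mem_inf.1 n.2).2⟩
  · intro h
    exact (Subgroup.mem_inf.1 h).1

end Cfsg.Agent.Lib.Helper5.Ree
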