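import Mathlib
import Cfsg.Prelude.Def_ChevStructure
import Cfsg.Prelude.Def_LieTwisted
import Cfsg.Agent.Lib.Helper5.Ree.Ident

set_option autoImplicit false

/-!
The symbolic check of the multiplication of `U` in type `G₂`, characteristic 3, in the coordinates
of the ordered product `x_a x_b x_{a+b} x_{2a+b} x_{3a+b} x_{3a+2b}`.
-/

namespace Cfsg.Agent.Lib.Helper5.Ree

open Cfsg Cfsg.Lie Cfsg.Agent.Lib.Helper5.ChevSym Cfsg.Agent.Lib.Helper5.ChevSymP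

-- variables: a b c d e f = 0 .. 5, A B C D E F = 6 .. 11
def lw1 : List (ℕ × PolyP) :=
  [(7, [([1,0,0,0,0,0,0,0,0,0,0,0], 1)]),
   (6, [([0,1,0,0,0,0,0,0,0,0,0,0], 1)]),
   (8, [([0,0,1,0,0,0,0,0,0,0,0,0], 1)]),
   (9, [([0,0,0,1,0,0,0,0,0,0,0,0], 1)]),
   (10, [([0,0,0,0,1,0,0,0,0,0,0,0], 1)]),
   (11, [([0,0,0,0,0,1,0,0,0,0,0,0], 1)]),
   (7, [([0,0,0,0,0,0,1,0,0,0,0,0], 1)]),
   (6, [([0,0,0,0,0,0,0,1,0,0,0,0], 1)]),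
   (8, [([0,0,0,0,0,0,0,0,1,0,0,0], 1)]),
   (9, [([0,0,0,0,0,0,0,0,0,1,0,0], 1)]),
   (10, [([0,0,0,0,0,0,0,0,0,0,1,0], 1)]),
   (11, [([0,0,0,0,0,0,0,0,0,0,0,1], 1)])]

def lw2 : List (ℕ × PolyP) :=
  [(7, [([1,0,0,0,0,0,0,0,0,0,0,0], 1), ([0,0,0,0,0,0,1,0,0,0,0,0], 1)]),
   (6, [([0,1,0,0,0,0,0,0,0,0,0,0], 1), ([0,0,0,0,0,0,0,1,0,0,0,0], 1)]),
   (8, [([0,0,1,0,0,0,0,0,0,0,0,0], 1), ([0,0,0,0,0,0,0,0,1,0,0,0], 1), ([0,1,0,0,0,0,1,0,0,0,0,0], 1)]),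
   (9, [([0,0,0,1,0,0,0,0,0,0,0,0], 1), ([0,0,0,0,0,0,0,0,0,1,0,0], 1), ([0,0,1,0,0,0,1,0,0,0,0,0], -1), ([0,1,0,0,0,0,2,0,0,0,0,0], 1)]),
   (10, [([0,0,0,0,1,0,0,0,0,0,0,0], 1), ([0,0,0,0,0,0,0,0,0,0,1,0], 1), ([0,1,0,0,0,0,3,0,0,0,0,0], -1)]),
   (11, [([0,0,0,0,0,1,0,0,0,0,0,0], 1), ([0,0,0,0,0,0,0,0,0,0,0,1], 1), ([0,0,0,0,1,0,0,1,0,0,0,0], -1), ([0,1,0,0,0,0,3,1,0,0,0,0], 1), ([0,2,0,0,0,0,3,0,0,0,0,0], -1)])]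

set_option maxRecDepth 1000000 in
theorem chk_law : ∀ col ∈ allCols,
    vecEqP 3 (wordColP chevG2 3 lw1 col) (wordColP chevG2 3 lw2 col) = true := by decide +kernel

end Cfsg.Agent.Lib.Helper5.Ree
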