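import Mathlib
import Cfsg.Prelude.Def_ChevStructure
import Cfsg.Prelude.Def_LieTwisted
import Cfsg.Agent.Lib.Helper5.Ree.Core
import Cfsg.Agent.Lib.Helper5.Ree.ULawChk

set_option autoImplicit false

/-!
The multiplication of `U` in type `G₂`, characteristic 3, in the coordinates of the ordered product
`x_a x_b x_{a+b} x_{2a+b} x_{3a+b} x_{3a+2b}`; the action of `h(z)` on `U`.
-/

namespace Cfsg.Agent.Lib.Helper5.Ree

open Cfsg Cfsg.Lie Cfsg.Agent.Lib.Helper5.ChevSym Cfsg.Agent.Lib.Helper5.ChevSymP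
  Cfsg.Agent.Lib.Helper5.ChevStruct

section

variable {K : Type*} [Field K]

theorem law_mat (hp : ((3 : ℕ) : K) = 0) (a b c d e f A B C D E F : K) :
    chevG2.wordMat K [(7, a), (6, b), (8, c), (9, d), (10, e), (11, f),
        (7, A), (6, B), (8, C), (9, D), (10, E), (11, F)]
      = chevG2.wordMat K [(7, a + A), (6, b + B), (8, c + C + b * A),
          (9, d + D - c * A + b * A ^ 2), (10, e + E - b * A ^ 3),
          (11, f + F - e * B + b * A ^ 3 * B - b ^ 2 * A ^ 3)] := by
  have h := wordMat_eq_of_check hp [a, b, c, d, e, f, A, B, C, D, E, F] lw1 lw2 (by decide) chk_law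
  have e1 : evalWP [a, b, c, d, e, f, A, B, C, D, E, F] lw1
      = [(7, a), (6, b), (8, c), (9, d), (10, e), (11, f),
        (7, A), (6, B), (8, C), (9, D), (10, E), (11, F)] := by
    simp [evalWP, lw1, evalPolyP, evalMonoP, monoVal]
  have e2 : evalWP [a, b, c, d, e, f, A, B, C, D, E, F] lw2
      = [(7, a + A), (6, b + B), (8, c + C + b * A),
          (9, d + D - c * A + b * A ^ 2), (10, e + E - b * A ^ 3),
          (11, f + F - e * B + b * A ^ 3 * B - b ^ 2 * A ^ 3)] := by
    simp [evalWP, lw2, evalPolyP, evalMonoP, monoVal]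
    refine ⟨?_, ?_, ?_, ?_⟩ <;> ring
  rw [e1, e2] at h
  exact h

/-- the ordered product -/
noncomputable def w6 (a b c d e f : K) : GL chevG2.Idx K :=
  wordGL chevG2 hG2 [(7, a), (6, b), (8, c), (9, d), (10, e), (11, f)]

theorem w6_zero : w6 (0 : K) 0 0 0 0 0 = 1 := by
  simp [w6, wordGL, xGL_zero']

variable [CharP K 3]

/-- the multiplication of `U` -/
theorem w6_mul (a b c d e f A B C D E F : K) :
    w6 a b c d e f * w6 A B C D E F
      = w6 (a + A) (b + B) (c + C + b * A) (d + D - c * A + b * A ^ 2) (e + E - b * A ^ 3)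
          (f + F - e * B + b * A ^ 3 * B - b ^ 2 * A ^ 3) := by
  unfold w6
  rw [← wordGL_append']
  apply Units.ext
  rw [wordGL_val, wordGL_val]
  exact law_mat three_eq_zero a b c d e f A B C D E F

variable (m : ℕ)

/-- `α(t, u, v)` -/
noncomputable def al (t u v : K) : GL chevG2.Idx K := wordGL chevG2 hG2 (reeWordU (3 ^ m) t u v)

theorem al_eq (t u v : K) :
    al m t u v = w6 (ph m t) t (t * ph m t + ph m u) (t * (ph m t) ^ 2 + ph m v) u v := by
  unfold al w6
  rw [reeWordU_eq]

/-- the parameters of `h(z)` -/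
noncomputable def hzF (z : Kˣ) : ℕ → K := fun i => if i = 0 then ph m (z : K) else if i = 1 then (z : K) else 1

theorem hz_conj_w6 (z : Kˣ) (a b c d e f : K) :
    hz m z * w6 a b c d e f * (hz m z)⁻¹
      = w6 (chi chevG2 (hzF m z) 7 * a) (chi chevG2 (hzF m z) 6 * b) (chi chevG2 (hzF m z) 8 * c)
          (chi chevG2 (hzF m z) 9 * d) (chi chevG2 (hzF m z) 10 * e)
          (chi chevG2 (hzF m z) 11 * f) := by
  have hv : ((hz m z : GL chevG2.Idx K) : Matrix chevG2.Idx chevG2.Idx K)
      = torusMat chevG2 (hzF m z) := hz_val m z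
  have h1 : hz m z * w6 a b c d e f
      = w6 (chi chevG2 (hzF m z) 7 * a) (chi chevG2 (hzF m z) 6 * b) (chi chevG2 (hzF m z) 8 * c)
          (chi chevG2 (hzF m z) 9 * d) (chi chevG2 (hzF m z) 10 * e)
          (chi chevG2 (hzF m z) 11 * f) * hz m z := by
    apply Units.ext
    unfold w6
    rw [Units.val_mul, Units.val_mul, hv, wordGL_val, wordGL_val]
    exact torus_conj_word chevG2 hG2 (hzF m z) (hzFun_ne_zero m z) _
  rw [h1, mul_assoc, mul_inv_cancel, mul_one]

theorem cartan_vals2 : chevG2.cartan 0 6 = -3 ∧ chevG2.cartan 1 6 = 2 ∧ chevG2.cartan 0 10 = 3 ∧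
    chevG2.cartan 1 10 = -1 := by decide

omit [CharP K 3] in
theorem chi_six (c : ℕ → K) : chi chevG2 c 6 = (c 0) ^ (-3 : ℤ) * (c 1) ^ (2 : ℤ) := by
  unfold chi
  have : List.range chevG2.rank = [0, 1] := rfl
  rw [this]
  simp only [List.map_cons, List.map_nil, List.prod_cons, List.prod_nil]
  rw [cartan_vals2.1, cartan_vals2.2.1, mul_one]

omit [CharP K 3] in
theorem chi_ten (c : ℕ → K) : chi chevG2 c 10 = (c 0) ^ (3 : ℤ) * (c 1) ^ (-1 : ℤ) := by
  unfold chi
  have : List.range chevG2.rank = [0, 1] := rfl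
  rw [this]
  simp only [List.map_cons, List.map_nil, List.prod_cons, List.prod_nil]
  rw [cartan_vals2.2.2.1, cartan_vals2.2.2.2, mul_one]

theorem chi6_ne (z : Kˣ) (h : (z : K) ^ 3 ^ (m + 1) ≠ (z : K) ^ 2) :
    chi chevG2 (hzF m z) 6 ≠ 1 := by
  rw [chi_six]
  have e0 : hzF m z 0 = ph m (z : K) := by simp [hzF]
  have e1 : hzF m z 1 = (z : K) := by simp [hzF]
  rw [e0, e1]
  intro h1
  apply h
  have hne : ph m (z : K) ≠ 0 := by
    rw [ph_apply]
    exact pow_ne_zero _ z.ne_zero
  rw [zpow_neg, inv_mul_eq_one₀ (zpow_ne_zero _ hne)] at h1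
  have h2 : (ph m (z : K)) ^ 3 = (z : K) ^ 2 := by exact_mod_cast h1
  rw [← ps_eq, ps_apply] at h2
  exact h2

theorem chi10_ne (z : Kˣ) (h : (z : K) ^ 3 ^ (m + 1) ≠ (z : K)) :
    chi chevG2 (hzF m z) 10 ≠ 1 := by
  rw [chi_ten]
  have e0 : hzF m z 0 = ph m (z : K) := by simp [hzF]
  have e1 : hzF m z 1 = (z : K) := by simp [hzF]
  rw [e0, e1]
  intro h1
  apply h
  rw [zpow_neg, zpow_one, mul_inv_eq_one₀ z.ne_zero] at h1
  have h2 : (ph m (z : K)) ^ 3 = (z : K) := by exact_mod_cast h1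
  rw [← ps_eq, ps_apply] at h2
  exact h2

omit [CharP K 3] in
/-- an element which is not a root of `X ^ n - X ^ k` -/
theorem exists_pow_ne [Fintype K] (n k : ℕ) (hk : 0 < k) (hkn : k < n)
    (hn : n < Fintype.card K) : ∃ x : K, x ≠ 0 ∧ x ^ n ≠ x ^ k := by
  classical
  by_contra hcon
  push Not at hcon
  have hall : ∀ x : K, x ^ n = x ^ k := by
    intro x
    by_cases hx : x = 0
    · rw [hx, zero_pow (by omega), zero_pow (by omega)]
    · exact hcon x hx
  let p : Polynomial K := Polynomial.X ^ n - Polynomial.X ^ k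
  have hdeg : p.natDegree = n := by
    have h1 : (Polynomial.X ^ k : Polynomial K).natDegree
        < (Polynomial.X ^ n : Polynomial K).natDegree := by
      rw [Polynomial.natDegree_X_pow, Polynomial.natDegree_X_pow]
      exact hkn
    rw [Polynomial.natDegree_sub_eq_left_of_natDegree_lt h1, Polynomial.natDegree_X_pow]
  have hp0 : p ≠ 0 := by
    intro h0
    rw [h0, Polynomial.natDegree_zero] at hdeg
    omega
  have hroots : ∀ x : K, x ∈ p.roots := fun x => by
    rw [Polynomial.mem_roots hp0, Polynomial.IsRoot.def]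
    simp [p, hall x]
  have hle : Fintype.card K ≤ n := by
    calc Fintype.card K = (Finset.univ : Finset K).card := Finset.card_univ.symm
      _ ≤ p.roots.toFinset.card :=
        Finset.card_le_card (fun x _ => Multiset.mem_toFinset.2 (hroots x))
      _ ≤ Multiset.card p.roots := Multiset.toFinset_card_le _
      _ ≤ p.natDegree := Polynomial.card_roots' p
      _ = n := hdeg
  omega

end

end Cfsg.Agent.Lib.Helper5.Ree
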