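import Mathlib
import Cfsg.Prelude.Def_ChevStructure
import Cfsg.Prelude.Def_LieTwisted
import Cfsg.Prelude.Def_LieExceptional
import Cfsg.Agent.Lib.Helper5.Ree.ULaw
import Cfsg.Agent.Lib.Helper5.ChevTwistSimple

set_option autoImplicit false

/-!
The Ree groups `²G₂(3^(2m+1))`, `m ≥ 1`, are perfect and simple.
-/

namespace Cfsg.Agent.Lib.Helper5.Ree

open Cfsg Cfsg.Lie Cfsg.Agent.Lib.Helper5.ChevSym Cfsg.Agent.Lib.Helper5.ChevSymP
  Cfsg.Agent.Lib.Helper5.ChevStruct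

open scoped commutatorElement

variable {K : Type*} [Field K] [CharP K 3] (m : ℕ)

/-- the derived subgroup of the group of fixed points, as a subgroup of `GL` -/
def derG : Subgroup (GL chevG2.Idx K) :=
  (commutator ↥(fixG (K := K) m)).map (fixG m).subtype

theorem derG_le : derG (K := K) m ≤ fixG m := by
  intro g hg
  obtain ⟨y, _, rfl⟩ := Subgroup.mem_map.1 hg
  exact y.2

theorem comm_mem_derG (a b : GL chevG2.Idx K) (ha : a ∈ fixG m) (hb : b ∈ fixG m) :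
    a * b * a⁻¹ * b⁻¹ ∈ derG m := by
  have h1 : ⁅(⟨a, ha⟩ : ↥(fixG (K := K) m)), (⟨b, hb⟩ : ↥(fixG (K := K) m))⁆
      ∈ commutator ↥(fixG (K := K) m) := by
    rw [commutator_def]
    exact Subgroup.commutator_mem_commutator (Subgroup.mem_top _) (Subgroup.mem_top _)
  refine Subgroup.mem_map.2 ⟨_, h1, ?_⟩
  rw [commutatorElement_def]
  rfl

theorem conj_mem_derG (g x : GL chevG2.Idx K) (hg : g ∈ fixG m) (hx : x ∈ derG m) :
    g * x * g⁻¹ ∈ derG m := by
  obtain ⟨y, hy, e⟩ := Subgroup.mem_map.1 hx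
  have hn : (commutator ↥(fixG (K := K) m)).Normal := inferInstance
  have h1 := hn.conj_mem y hy ⟨g, hg⟩
  refine Subgroup.mem_map.2 ⟨_, h1, ?_⟩
  rw [← e]
  rfl

theorem three_zero' : (3 : K) = 0 := by
  have := three_eq_zero (K := K)
  exact_mod_cast this

theorem al_mem_pos (t u v : K) : al m t u v ∈ chevG2.posUnipotent K := by
  rw [al_eq]
  exact word6_mem_pos _ _ _ _ _ _

theorem al_mem_fixG (hq : ∀ x : K, x ^ 3 ^ (2 * m + 1) = x) (t u v : K) : al m t u v ∈ fixG m :=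
  reeU_mem_fixG m hq t u v

theorem reeV_mem_neg (t u v : K) :
    wordGL chevG2 hG2 (reeWordV (3 ^ m) t u v) ∈ chevG2.negUnipotent K := by
  rw [reeWordV_eq]
  unfold wordGL
  apply Subgroup.list_prod_mem
  intro g hg
  simp only [List.map_cons, List.map_nil, List.mem_cons, List.not_mem_nil, or_false] at hg
  rcases hg with rfl | rfl | rfl | rfl | rfl | rfl <;>
    exact xGL_mem_neg chevG2 hG2 _ ((isNeg_iff _).2 (by norm_num)) _

variable [Fintype K]

/-- the coordinates of the commutator of `h(z)` and `α(t, u, v)` -/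
theorem comm_coords (hq : ∀ x : K, x ^ 3 ^ (2 * m + 1) = x) (z : Kˣ) (t u v : K) :
    ∃ t1 u1 v1 : K, al m t1 u1 v1 ∈ derG m ∧
      t1 + t = chi chevG2 (hzF m z) 6 * t ∧
      u1 + u - t1 * (ph m t) ^ 3 = chi chevG2 (hzF m z) 10 * u ∧
      v1 + v - u1 * t + t1 * (ph m t) ^ 3 * t - t1 ^ 2 * (ph m t) ^ 3 = (z : K) * v := by
  have hhf : hz m z ∈ fixG m := hz_mem_fixG m hq z
  have hxf : al m t u v ∈ fixG m := al_mem_fixG m hq t u v
  have hy : hz m z * al m t u v * (hz m z)⁻¹ * (al m t u v)⁻¹ ∈ derG m :=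
    comm_mem_derG m _ _ hhf hxf
  have hxpos := al_mem_pos m t u v
  have hconj := hz_conj_w6 m z (ph m t) t (t * ph m t + ph m u) (t * (ph m t) ^ 2 + ph m v) u v
  rw [← al_eq] at hconj
  have hcpos : hz m z * al m t u v * (hz m z)⁻¹ ∈ chevG2.posUnipotent K := by
    rw [hconj]
    exact word6_mem_pos _ _ _ _ _ _
  have hypos : hz m z * al m t u v * (hz m z)⁻¹ * (al m t u v)⁻¹
      ∈ chevG2.posUnipotent K ⊓ fixG m :=
    Subgroup.mem_inf.2 ⟨mul_mem hcpos (inv_mem hxpos), derG_le m hy⟩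
  obtain ⟨t1, u1, v1, e⟩ := (pos_fix_iff m hq _).1 hypos
  have e' : hz m z * al m t u v * (hz m z)⁻¹ * (al m t u v)⁻¹ = al m t1 u1 v1 := e
  refine ⟨t1, u1, v1, ?_, ?_⟩
  · rw [← e']
    exact hy
  · have e2 : al m t1 u1 v1 * al m t u v = hz m z * al m t u v * (hz m z)⁻¹ := by
      rw [← e']
      group
    rw [hconj, al_eq, al_eq, w6_mul] at e2
    obtain ⟨-, h2, -, -, h5, h6⟩ := word6_inj _ _ _ _ _ _ _ _ _ _ _ _ e2
    rw [chi_eleven] at h6
    have e1 : hzF m z 1 = (z : K) := by simp [hzF]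
    rw [e1] at h6
    exact ⟨h2, h5, h6⟩

/-- `α(0, 0, v)` is a product of commutators -/
theorem al_00v_mem (hq : ∀ x : K, x ^ 3 ^ (2 * m + 1) = x) (v : K) : al m 0 0 v ∈ derG m := by
  obtain ⟨t1, u1, v1, hmem, h2, h5, h6⟩ := comm_coords m hq (-1 : Kˣ) 0 0 v
  have ht1 : t1 = 0 := by simpa using h2
  subst ht1
  have hu1 : u1 = 0 := by simpa using h5
  subst hu1
  have hv1 : v1 = v := by
    have h7 : v1 + v = -v := by simpa using h6
    have h3 := three_zero' (K := K)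
    linear_combination h7 - v * h3
  rw [← hv1]
  exact hmem

/-- `α(0, u, 0)` is a product of commutators -/
theorem al_0u0_mem (hq : ∀ x : K, x ^ 3 ^ (2 * m + 1) = x)
    (hcard : Fintype.card K = 3 ^ (2 * m + 1)) (hm : 1 ≤ m) (u : K) : al m 0 u 0 ∈ derG m := by
  have hlt : 3 ^ (m + 1) < Fintype.card K := by
    rw [hcard]
    exact Nat.pow_lt_pow_right (by norm_num) (by omega)
  have h13 : 1 < 3 ^ (m + 1) := Nat.one_lt_pow (by omega) (by norm_num)
  obtain ⟨x, hx0, hxne⟩ := exists_pow_ne (K := K) (3 ^ (m + 1)) 1 (by norm_num) h13 hlt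
  rw [pow_one] at hxne
  have hχ : chi chevG2 (hzF m (Units.mk0 x hx0)) 10 ≠ 1 := chi10_ne m (Units.mk0 x hx0) hxne
  have hχ' : chi chevG2 (hzF m (Units.mk0 x hx0)) 10 - 1 ≠ 0 := sub_ne_zero.2 hχ
  obtain ⟨t1, u1, v1, hmem, h2, h5, h6⟩ := comm_coords m hq (Units.mk0 x hx0) 0
    (u / (chi chevG2 (hzF m (Units.mk0 x hx0)) 10 - 1)) 0
  have ht1 : t1 = 0 := by simpa using h2
  subst ht1
  have hv1 : v1 = 0 := by simpa using h6
  subst hv1
  have hu1 : u1 = u := by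
    have h7 : u1 + u / (chi chevG2 (hzF m (Units.mk0 x hx0)) 10 - 1)
        = chi chevG2 (hzF m (Units.mk0 x hx0)) 10
          * (u / (chi chevG2 (hzF m (Units.mk0 x hx0)) 10 - 1)) := by simpa using h5
    have h8 : u1 = (chi chevG2 (hzF m (Units.mk0 x hx0)) 10 - 1)
        * (u / (chi chevG2 (hzF m (Units.mk0 x hx0)) 10 - 1)) := by linear_combination h7
    rw [h8, mul_div_cancel₀ _ hχ']
  rw [← hu1]
  exact hmem

/-- `α(0, u, v)` is a product of commutators -/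
theorem al_0uv_mem (hq : ∀ x : K, x ^ 3 ^ (2 * m + 1) = x)
    (hcard : Fintype.card K = 3 ^ (2 * m + 1)) (hm : 1 ≤ m) (u v : K) : al m 0 u v ∈ derG m := by
  have e : al m 0 u v = al m 0 u 0 * al m 0 0 v := by
    rw [al_eq, al_eq, al_eq, w6_mul]
    simp
  rw [e]
  exact mul_mem (al_0u0_mem m hq hcard hm u) (al_00v_mem m hq v)

/-- some `α(t, u, v)` is a product of commutators, for every `t` -/
theorem exists_al_mem (hq : ∀ x : K, x ^ 3 ^ (2 * m + 1) = x)
    (hcard : Fintype.card K = 3 ^ (2 * m + 1)) (hm : 1 ≤ m) (t : K) :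
    ∃ u1 v1 : K, al m t u1 v1 ∈ derG m := by
  have hlt : 3 ^ (m + 1) < Fintype.card K := by
    rw [hcard]
    exact Nat.pow_lt_pow_right (by norm_num) (by omega)
  have h23 : 2 < 3 ^ (m + 1) := by
    calc 2 < 3 ^ 1 := by norm_num
      _ ≤ 3 ^ (m + 1) := Nat.pow_le_pow_right (by norm_num) (by omega)
  obtain ⟨x, hx0, hxne⟩ := exists_pow_ne (K := K) (3 ^ (m + 1)) 2 (by norm_num) h23 hlt
  have hχ : chi chevG2 (hzF m (Units.mk0 x hx0)) 6 ≠ 1 := chi6_ne m (Units.mk0 x hx0) hxne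
  have hχ' : chi chevG2 (hzF m (Units.mk0 x hx0)) 6 - 1 ≠ 0 := sub_ne_zero.2 hχ
  obtain ⟨t1, u1, v1, hmem, h2, -, -⟩ := comm_coords m hq (Units.mk0 x hx0)
    (t / (chi chevG2 (hzF m (Units.mk0 x hx0)) 6 - 1)) 0 0
  have ht1 : t1 = t := by
    have h8 : t1 = (chi chevG2 (hzF m (Units.mk0 x hx0)) 6 - 1)
        * (t / (chi chevG2 (hzF m (Units.mk0 x hx0)) 6 - 1)) := by linear_combination h2
    rw [h8, mul_div_cancel₀ _ hχ']
  rw [ht1] at hmem
  exact ⟨u1, v1, hmem⟩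

/-- `α(t, u, v)` is a product of commutators -/
theorem al_mem_derG (hq : ∀ x : K, x ^ 3 ^ (2 * m + 1) = x)
    (hcard : Fintype.card K = 3 ^ (2 * m + 1)) (hm : 1 ≤ m) (t u v : K) : al m t u v ∈ derG m := by
  obtain ⟨u1, v1, h1⟩ := exists_al_mem m hq hcard hm t
  have hg : (al m t u1 v1)⁻¹ * al m t u v ∈ chevG2.posUnipotent K ⊓ fixG m :=
    Subgroup.mem_inf.2 ⟨mul_mem (inv_mem (al_mem_pos m t u1 v1)) (al_mem_pos m t u v),
      mul_mem (inv_mem (al_mem_fixG m hq t u1 v1)) (al_mem_fixG m hq t u v)⟩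
  obtain ⟨t2, u2, v2, e⟩ := (pos_fix_iff m hq _).1 hg
  have e' : (al m t u1 v1)⁻¹ * al m t u v = al m t2 u2 v2 := e
  have e2 : al m t u1 v1 * al m t2 u2 v2 = al m t u v := by
    rw [← e']
    group
  have e3 := e2
  rw [al_eq, al_eq, al_eq, w6_mul] at e3
  obtain ⟨-, h2, -, -, -, -⟩ := word6_inj _ _ _ _ _ _ _ _ _ _ _ _ e3
  have ht2 : t2 = 0 := by linear_combination h2
  rw [ht2] at e2
  rw [← e2]
  exact mul_mem h1 (al_0uv_mem m hq hcard hm u2 v2)

/-- the generators in `V` are products of commutators -/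
theorem reeV_mem_derG (hq : ∀ x : K, x ^ 3 ^ (2 * m + 1) = x)
    (hcard : Fintype.card K = 3 ^ (2 * m + 1)) (hm : 1 ≤ m) (t u v : K) :
    wordGL chevG2 hG2 (reeWordV (3 ^ m) t u v) ∈ derG m := by
  have hneg := reeV_mem_neg m t u v
  have hfix := reeV_mem_fixG m hq t u v
  have hn0 := n0_mem_fixG (K := K) m hq
  rw [← (conj_pos_eq_neg' (K := K) chevG2 hG2 w0 checkW0_w0).2] at hneg
  obtain ⟨x, hx, e⟩ := Subgroup.mem_map.1 hneg
  have e' : n0 K * x * (n0 K)⁻¹ = wordGL chevG2 hG2 (reeWordV (3 ^ m) t u v) := e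
  have hxf : x ∈ fixG m := by
    have : x = (n0 K)⁻¹ * (n0 K * x * (n0 K)⁻¹) * n0 K := by group
    rw [this, e']
    exact mul_mem (mul_mem (inv_mem hn0) hfix) hn0
  obtain ⟨t', u', v', ex⟩ := (pos_fix_iff m hq x).1 (Subgroup.mem_inf.2 ⟨hx, hxf⟩)
  rw [← e']
  apply conj_mem_derG m _ _ hn0
  rw [ex]
  exact al_mem_derG m hq hcard hm t' u' v'

theorem fixG_le_derG (hq : ∀ x : K, x ^ 3 ^ (2 * m + 1) = x)
    (hcard : Fintype.card K = 3 ^ (2 * m + 1)) (hm : 1 ≤ m) : fixG (K := K) m ≤ derG m := by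
  have h : twistedG2 K (3 ^ m) ≤ derG m := by
    unfold twistedG2 ChevalleyDatum.genSubgroup
    rw [Subgroup.closure_le]
    rintro g ⟨w, ⟨t, u, v, hw | hw⟩, hg⟩
    · rw [mem_of_val_eq_wordMat hg, hw]
      exact al_mem_derG m hq hcard hm t u v
    · rw [mem_of_val_eq_wordMat hg, hw]
      exact reeV_mem_derG m hq hcard hm t u v
  rw [twisted_eq_fixG m hq] at h
  exact h

/-- the group of fixed points is perfect when `m ≥ 1` -/
theorem commutator_fixG (hq : ∀ x : K, x ^ 3 ^ (2 * m + 1) = x)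
    (hcard : Fintype.card K = 3 ^ (2 * m + 1)) (hm : 1 ≤ m) :
    commutator ↥(fixG (K := K) m) = ⊤ := by
  rw [eq_top_iff]
  intro y _
  have hy := fixG_le_derG m hq hcard hm y.2
  obtain ⟨y', hy', e⟩ := Subgroup.mem_map.1 hy
  have : y' = y := Subtype.ext e
  rw [← this]
  exact hy'

/-- the group of fixed points is simple when `m ≥ 1` -/
theorem fixG_simple (hq : ∀ x : K, x ^ 3 ^ (2 * m + 1) = x)
    (hcard : Fintype.card K = 3 ^ (2 * m + 1)) (hm : 1 ≤ m) :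
    IsSimpleGroup ↥(fixG (K := K) m) ∧ ¬ IsMulCommutative ↥(fixG (K := K) m) := by
  have hperf := commutator_fixG m hq hcard hm
  have hnt : Nontrivial ↥(fixG (K := K) m) :=
    ⟨⟨⟨n0 K, n0_mem_fixG m hq⟩, 1, fun h => n0_not_mem_borel (K := K) (by
      have h' : n0 K = 1 := congrArg Subtype.val h
      rw [h']
      exact one_mem _)⟩⟩
  have hirr : (reeBN m hq).Irreducible := by
    intro J hJ hJne hJc
    exfalso
    obtain ⟨s, hs⟩ := hJne
    obtain ⟨s', hs', hs'J⟩ := hJc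
    have e1 : s = ⟨n0 K, n0_mem_fixG m hq⟩ := hJ hs
    have e2 : s' = ⟨n0 K, n0_mem_fixG m hq⟩ := hs'
    rw [e2, ← e1] at hs'J
    exact hs'J hs
  have hsolv : Group.IsSolvable (reeBN m hq).B :=
    twisted_borel_isSolvable chevG2 hG2 (fixG m)
  have hsimple : IsSimpleGroup ↥(fixG (K := K) m) :=
    Cfsg.Agent.S0319.result (reeBN m hq) hirr hsolv hperf (normalCore_eq_bot m hq)
  refine ⟨hsimple, fun hcomm => ?_⟩
  have hbot : commutator ↥(fixG (K := K) m) = ⊥ := by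
    rw [commutator_def, Subgroup.commutator_eq_bot_iff_le_centralizer]
    intro x _ y _
    exact (hcomm.is_comm.comm y x)
  rw [hbot] at hperf
  exact bot_ne_top hperf

end Cfsg.Agent.Lib.Helper5.Ree
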