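import Mathlib
import Cfsg.Prelude.Def_ChevStructure
import Cfsg.Prelude.Def_LieTwisted
import Cfsg.Agent.Lib.Helper5.Ree.Perfect

set_option autoImplicit false

/-!
The subgroup `U¹` of the Ree group: cubes, the action of `H¹`, the elements of order 3.
-/

namespace Cfsg.Agent.Lib.Helper5.Ree

open Cfsg Cfsg.Lie Cfsg.Agent.Lib.Helper5.ChevSym Cfsg.Agent.Lib.Helper5.ChevSymP
  Cfsg.Agent.Lib.Helper5.ChevStruct

variable {K : Type*} [Field K] [CharP K 3] (m : ℕ)

/-- the cube of an element of `U` -/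
theorem w6_cube (a b c d e f : K) :
    (w6 a b c d e f) ^ 3 = w6 0 0 0 (-(a ^ 2 * b)) 0 (-(a ^ 3 * b ^ 2)) := by
  have h3 := three_zero' (K := K)
  rw [pow_succ, pow_two, w6_mul, w6_mul]
  congr 1
  · linear_combination a * h3
  · linear_combination b * h3
  · linear_combination (c + a * b) * h3
  · linear_combination (d - a * c + a ^ 2 * b) * h3
  · linear_combination (e - a ^ 3 * b) * h3
  · linear_combination (f - b * e) * h3

theorem al_cube (t u v : K) :
    (al m t u v) ^ 3 = w6 0 0 0 (-((ph m t) ^ 2 * t)) 0 (-((ph m t) ^ 3 * t ^ 2)) := by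
  rw [al_eq, w6_cube]

theorem ph_eq_zero_iff (t : K) : ph m t = 0 ↔ t = 0 := by
  rw [ph_apply]
  exact pow_eq_zero_iff (pow_ne_zero _ (by norm_num))

omit [CharP K 3] in
theorem al_zero : al m (0 : K) 0 0 = 1 := reeU_zero m

variable [Fintype K]

theorem al_injective (t u v t' u' v' : K) (h : al m t u v = al m t' u' v') :
    t = t' ∧ u = u' ∧ v = v' := reeU_injective m t u v t' u' v' h

theorem al_eq_one_iff (t u v : K) : al m t u v = 1 ↔ t = 0 ∧ u = 0 ∧ v = 0 := by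
  constructor
  · intro h
    rw [← al_zero m] at h
    exact al_injective m _ _ _ _ _ _ h
  · rintro ⟨rfl, rfl, rfl⟩
    exact al_zero m

theorem al_cube_eq_one_iff (t u v : K) : (al m t u v) ^ 3 = 1 ↔ t = 0 := by
  rw [al_cube, ← w6_zero]
  constructor
  · intro h
    obtain ⟨-, -, -, h4, -, -⟩ := word6_inj _ _ _ _ _ _ _ _ _ _ _ _ h
    rw [neg_eq_zero, mul_eq_zero, pow_eq_zero_iff (by norm_num), ph_eq_zero_iff] at h4
    tauto
  · rintro rfl
    simp

/-- the elements of order 3 of `U¹` -/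
theorem al_orderOf_eq_three_iff (t u v : K) :
    orderOf (al m t u v) = 3 ↔ t = 0 ∧ ¬ (u = 0 ∧ v = 0) := by
  have : Fact (Nat.Prime 3) := ⟨Nat.prime_three⟩
  rw [orderOf_eq_prime_iff, al_cube_eq_one_iff, Ne, al_eq_one_iff]
  constructor
  · rintro ⟨rfl, h⟩
    exact ⟨rfl, fun h' => h ⟨rfl, h'⟩⟩
  · rintro ⟨rfl, h⟩
    exact ⟨rfl, fun h' => h h'.2⟩

/-- conjugating `α(t, u, v)` by `h(z)` -/
theorem hz_conj_al (hq : ∀ x : K, x ^ 3 ^ (2 * m + 1) = x) (z : Kˣ) (t u v : K) :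
    hz m z * al m t u v * (hz m z)⁻¹
      = al m (chi chevG2 (hzF m z) 6 * t) (chi chevG2 (hzF m z) 10 * u) ((z : K) * v) := by
  have hhf : hz m z ∈ fixG m := hz_mem_fixG m hq z
  have hxf : al m t u v ∈ fixG m := al_mem_fixG m hq t u v
  have hconj := hz_conj_w6 m z (ph m t) t (t * ph m t + ph m u) (t * (ph m t) ^ 2 + ph m v) u v
  rw [← al_eq] at hconj
  have hmem : hz m z * al m t u v * (hz m z)⁻¹ ∈ chevG2.posUnipotent K ⊓ fixG m := by
    refine Subgroup.mem_inf.2 ⟨?_, mul_mem (mul_mem hhf hxf) (inv_mem hhf)⟩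
    rw [hconj]
    exact word6_mem_pos _ _ _ _ _ _
  obtain ⟨t', u', v', e⟩ := (pos_fix_iff m hq _).1 hmem
  have e' : hz m z * al m t u v * (hz m z)⁻¹ = al m t' u' v' := e
  have e2 := e'
  rw [hconj, al_eq] at e2
  obtain ⟨-, h2, -, -, h5, h6⟩ := word6_inj _ _ _ _ _ _ _ _ _ _ _ _ e2
  rw [chi_eleven] at h6
  have e1 : hzF m z 1 = (z : K) := by simp [hzF]
  rw [e1] at h6
  rw [e', ← h2, ← h5, ← h6]

/-- the number of elements of order 3 of `U¹` -/
theorem card_order_three (hq : ∀ x : K, x ^ 3 ^ (2 * m + 1) = x) :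
    Nat.card {x : ↥(chevG2.posUnipotent K ⊓ fixG m) // orderOf x = 3}
      = Fintype.card K ^ 2 - 1 := by
  classical
  have hmem : ∀ p : K × K, al m 0 p.1 p.2 ∈ chevG2.posUnipotent K ⊓ fixG m := fun p =>
    Subgroup.mem_inf.2 ⟨al_mem_pos m _ _ _, al_mem_fixG m hq _ _ _⟩
  let f : {p : K × K // p ≠ 0} → {x : ↥(chevG2.posUnipotent K ⊓ fixG m) // orderOf x = 3} :=
    fun p => ⟨⟨al m 0 p.1.1 p.1.2, hmem p.1⟩, by
      rw [Subgroup.orderOf_mk, al_orderOf_eq_three_iff]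
      refine ⟨rfl, fun h => p.2 ?_⟩
      exact Prod.ext h.1 h.2⟩
  have hbij : Function.Bijective f := by
    constructor
    · rintro ⟨⟨u, v⟩, hp⟩ ⟨⟨u', v'⟩, hp'⟩ h
      have h' : al m 0 u v = al m 0 u' v' :=
        congrArg (fun x : {x : ↥(chevG2.posUnipotent K ⊓ fixG m) // orderOf x = 3} =>
          ((x : ↥(chevG2.posUnipotent K ⊓ fixG m)) : GL chevG2.Idx K)) h
      obtain ⟨-, h2, h3⟩ := al_injective m _ _ _ _ _ _ h'
      apply Subtype.ext
      exact Prod.ext h2 h3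
    · rintro ⟨⟨g, hg⟩, ho⟩
      obtain ⟨t, u, v, e⟩ := (pos_fix_iff m hq g).1 hg
      have e' : g = al m t u v := e
      rw [Subgroup.orderOf_mk] at ho
      have ho' := ho
      rw [e', al_orderOf_eq_three_iff] at ho'
      obtain ⟨ht, huv⟩ := ho'
      refine ⟨⟨(u, v), fun h => huv ?_⟩, ?_⟩
      · exact ⟨congrArg Prod.fst h, congrArg Prod.snd h⟩
      · apply Subtype.ext
        apply Subtype.ext
        show al m 0 u v = g
        rw [e', ht]
  rw [← Nat.card_congr (Equiv.ofBijective f hbij), Nat.card_eq_fintype_card]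
  have := Set.card_ne_eq (0 : K × K)
  rw [Fintype.card_prod, ← pow_two] at this
  exact this

end Cfsg.Agent.Lib.Helper5.Ree
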