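import Mathlib
import Cfsg.Prelude.Def_ChevStructure
import Cfsg.Prelude.Def_LieTwisted
import Cfsg.Agent.Lib.Helper5.Ree.USub
import Cfsg.Agent.Lib.Helper5.ChevCharDiag2

set_option autoImplicit false

/-!
Distinct Sylow 3-subgroups of the Ree group meet trivially.
-/

namespace Cfsg.Agent.Lib.Helper5.Ree

open Cfsg Cfsg.Lie Cfsg.Agent.Lib.Helper5.ChevSym Cfsg.Agent.Lib.Helper5.ChevSymP
  Cfsg.Agent.Lib.Helper5.ChevStruct

variable {K : Type*} [Field K] [CharP K 3] (m : ℕ)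

/-- `B¹` normalises `U¹` -/
theorem borel_fix_conj_pos (b u : GL chevG2.Idx K) (hb : b ∈ chevG2.borelSubgroup K ⊓ fixG m)
    (hu : u ∈ chevG2.posUnipotent K ⊓ fixG m) :
    b * u * b⁻¹ ∈ chevG2.posUnipotent K ⊓ fixG m := by
  obtain ⟨hb1, hb2⟩ := Subgroup.mem_inf.1 hb
  obtain ⟨hu1, hu2⟩ := Subgroup.mem_inf.1 hu
  refine Subgroup.mem_inf.2 ⟨?_, mul_mem (mul_mem hb2 hu2) (inv_mem hb2)⟩
  have hn := borel_le_normalizer_pos (F := K) chevG2 hG2 hb1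
  exact (Subgroup.mem_normalizer_iff.1 hn u).1 hu1

/-- if `U¹` meets its conjugate under `k` non-trivially, then `k ∈ B¹` -/
theorem ti_aux (hq : ∀ x : K, x ^ 3 ^ (2 * m + 1) = x) (k s s' : GL chevG2.Idx K)
    (hk : k ∈ fixG m) (hs : s ∈ chevG2.posUnipotent K ⊓ fixG m)
    (hs' : s' ∈ chevG2.posUnipotent K ⊓ fixG m) (e : s = k * s' * k⁻¹) (hne : s ≠ 1) :
    k ∈ chevG2.borelSubgroup K ⊓ fixG m := by
  rcases fix_cases m hq k hk with h | ⟨b1, hb1, b2, hb2, ek⟩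
  · exact h
  · exfalso
    apply hne
    have h1 : b1⁻¹ * s * (b1⁻¹)⁻¹ ∈ chevG2.posUnipotent K ⊓ fixG m :=
      borel_fix_conj_pos m _ _ (inv_mem hb1) hs
    have h2 : b2 * s' * b2⁻¹ ∈ chevG2.posUnipotent K ⊓ fixG m :=
      borel_fix_conj_pos m _ _ hb2 hs'
    have h3 : b1⁻¹ * s * (b1⁻¹)⁻¹ = n0 K * (b2 * s' * b2⁻¹) * (n0 K)⁻¹ := by
      rw [e, ek]
      group
    have h4 : n0 K * (b2 * s' * b2⁻¹) * (n0 K)⁻¹ ∈ chevG2.negUnipotent K := by
      rw [← (conj_pos_eq_neg' (K := K) chevG2 hG2 w0 checkW0_w0).2]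
      exact Subgroup.mem_map.2 ⟨_, (Subgroup.mem_inf.1 h2).1, rfl⟩
    rw [← h3] at h4
    have h5 : b1⁻¹ * s * (b1⁻¹)⁻¹ ∈ chevG2.borelSubgroup K ⊓ chevG2.negUnipotent K :=
      Subgroup.mem_inf.2 ⟨pos_le_borel chevG2 (Subgroup.mem_inf.1 h1).1, h4⟩
    rw [borel_inf_neg chevG2 hG2, Subgroup.mem_bot] at h5
    have : s = b1 * (b1⁻¹ * s * (b1⁻¹)⁻¹) * b1⁻¹ := by group
    rw [this, h5]
    group

variable [Fintype K]

/-- `U¹` as a subgroup of the group of fixed points -/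
def U1 : Subgroup ↥(fixG (K := K) m) := (chevG2.posUnipotent K ⊓ fixG m).subgroupOf (fixG m)

omit [Fintype K] in
theorem mem_U1 (x : ↥(fixG (K := K) m)) :
    x ∈ U1 m ↔ (x : GL chevG2.Idx K) ∈ chevG2.posUnipotent K ⊓ fixG m := Subgroup.mem_subgroupOf

theorem card_U1 (hq : ∀ x : K, x ^ 3 ^ (2 * m + 1) = x) :
    Nat.card ↥(U1 (K := K) m) = Fintype.card K ^ 3 := by
  rw [← card_pos_fix m hq]
  exact Nat.card_congr (Subgroup.subgroupOfEquivOfLe inf_le_right).toEquiv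

theorem factorization_card_fixG (hq : ∀ x : K, x ^ 3 ^ (2 * m + 1) = x)
    (hcard : Fintype.card K = 3 ^ (2 * m + 1)) :
    (Nat.card ↥(fixG (K := K) m)).factorization 3 = 3 * (2 * m + 1) := by
  rw [card_fixG m hq, hcard]
  have hq3 : 3 ∣ 3 ^ (2 * m + 1) := dvd_pow_self 3 (by omega)
  have hq1 : 1 ≤ 3 ^ (2 * m + 1) := Nat.one_le_pow _ _ (by norm_num)
  have hq33 : 3 ∣ (3 ^ (2 * m + 1)) ^ 3 := dvd_pow hq3 (by norm_num)
  have hnd : ¬ 3 ∣ (3 ^ (2 * m + 1) - 1) * ((3 ^ (2 * m + 1)) ^ 3 + 1) := by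
    intro h
    rcases (Nat.Prime.dvd_mul Nat.prime_three).1 h with h | h
    · omega
    · generalize (3 ^ (2 * m + 1)) ^ 3 = Q at hq33 h
      omega
  have e : (3 ^ (2 * m + 1)) ^ 3 * (3 ^ (2 * m + 1) - 1) * ((3 ^ (2 * m + 1)) ^ 3 + 1)
      = 3 ^ (3 * (2 * m + 1)) * ((3 ^ (2 * m + 1) - 1) * ((3 ^ (2 * m + 1)) ^ 3 + 1)) := by
    rw [← pow_mul, mul_comm (2 * m + 1) 3, mul_assoc]
  rw [e, Nat.factorization_mul (pow_ne_zero _ (by norm_num)) (fun h0 => hnd (by rw [h0]; exact dvd_zero 3)),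
    Nat.Prime.factorization_pow Nat.prime_three, Finsupp.add_apply, Finsupp.single_eq_same,
    Nat.factorization_eq_zero_of_not_dvd hnd, add_zero]

/-- `U¹` is a Sylow 3-subgroup -/
noncomputable def sylU (hq : ∀ x : K, x ^ 3 ^ (2 * m + 1) = x)
    (hcard : Fintype.card K = 3 ^ (2 * m + 1)) : Sylow 3 ↥(fixG (K := K) m) :=
  Sylow.ofCard (U1 m) (by
    rw [card_U1 m hq, factorization_card_fixG m hq hcard, hcard, ← pow_mul, mul_comm])

theorem sylU_coe (hq : ∀ x : K, x ^ 3 ^ (2 * m + 1) = x)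
    (hcard : Fintype.card K = 3 ^ (2 * m + 1)) :
    ((sylU m hq hcard : Sylow 3 ↥(fixG (K := K) m)) : Subgroup ↥(fixG (K := K) m)) = U1 m :=
  Sylow.coe_ofCard _ _

/-- distinct Sylow 3-subgroups meet trivially -/
theorem sylow_ti (hq : ∀ x : K, x ^ 3 ^ (2 * m + 1) = x)
    (hcard : Fintype.card K = 3 ^ (2 * m + 1)) (P Q : Sylow 3 ↥(fixG (K := K) m)) (hPQ : P ≠ Q) :
    (P : Subgroup ↥(fixG (K := K) m)) ⊓ (Q : Subgroup ↥(fixG (K := K) m)) = ⊥ := by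
  obtain ⟨g, hg⟩ := MulAction.exists_smul_eq ↥(fixG (K := K) m) (sylU m hq hcard) P
  obtain ⟨g', hg'⟩ := MulAction.exists_smul_eq ↥(fixG (K := K) m) (sylU m hq hcard) Q
  rw [eq_bot_iff]
  intro x hx
  obtain ⟨hxP, hxQ⟩ := Subgroup.mem_inf.1 hx
  rw [Subgroup.mem_bot]
  by_contra hx1
  apply hPQ
  rw [← hg, Sylow.coe_subgroup_smul, Subgroup.mem_smul_pointwise_iff_exists,
    sylU_coe] at hxP
  rw [← hg', Sylow.coe_subgroup_smul, Subgroup.mem_smul_pointwise_iff_exists,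
    sylU_coe] at hxQ
  obtain ⟨s, hs, es⟩ := hxP
  obtain ⟨s', hs', es'⟩ := hxQ
  rw [MulAut.smul_def, MulAut.conj_apply] at es es'
  have hs1 : s ≠ 1 := by
    rintro rfl
    apply hx1
    rw [← es]
    group
  have ek : s = (g⁻¹ * g') * s' * (g⁻¹ * g')⁻¹ := by
    have : g * s * g⁻¹ = g' * s' * g'⁻¹ := by rw [es, es']
    calc s = g⁻¹ * (g * s * g⁻¹) * g := by group
      _ = g⁻¹ * (g' * s' * g'⁻¹) * g := by rw [this]
      _ = (g⁻¹ * g') * s' * (g⁻¹ * g')⁻¹ := by group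
  have hkB : ((g⁻¹ * g' : ↥(fixG (K := K) m)) : GL chevG2.Idx K)
      ∈ chevG2.borelSubgroup K ⊓ fixG m := by
    refine ti_aux m hq _ (s : GL chevG2.Idx K) (s' : GL chevG2.Idx K) (g⁻¹ * g').2
      ((mem_U1 m s).1 hs) ((mem_U1 m s').1 hs') ?_ ?_
    · have := congrArg (fun y : ↥(fixG (K := K) m) => (y : GL chevG2.Idx K)) ek
      exact this
    · intro h
      exact hs1 (Subtype.ext h)
  have hnorm : (g⁻¹ * g') • sylU m hq hcard = sylU m hq hcard := by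
    rw [Sylow.smul_eq_iff_mem_normalizer]
    have hset : ((sylU m hq hcard : Sylow 3 ↥(fixG (K := K) m)) : Set ↥(fixG (K := K) m))
        = ((U1 (K := K) m : Subgroup ↥(fixG (K := K) m)) : Set ↥(fixG (K := K) m)) := by
      rw [← sylU_coe m hq hcard]
      rfl
    rw [hset, Subgroup.mem_normalizer_iff]
    intro y
    rw [mem_U1, mem_U1]
    constructor
    · intro hy
      exact borel_fix_conj_pos m _ _ hkB hy
    · intro hy
      have := borel_fix_conj_pos m _ _ (inv_mem hkB) hy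
      have e2 : (y : GL chevG2.Idx K)
          = ((g⁻¹ * g' : ↥(fixG (K := K) m)) : GL chevG2.Idx K)⁻¹
            * (((g⁻¹ * g' * y * (g⁻¹ * g')⁻¹ : ↥(fixG (K := K) m)) : ↥(fixG (K := K) m)) : GL chevG2.Idx K)
            * (((g⁻¹ * g' : ↥(fixG (K := K) m)) : GL chevG2.Idx K)⁻¹)⁻¹ := by
        simp only [Subgroup.coe_mul, Subgroup.coe_inv]
        group
      rw [e2]
      exact this
  rw [← hg, ← hg']
  have e3 : g' = g * (g⁻¹ * g') := by group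
  rw [e3, mul_smul, hnorm]

end Cfsg.Agent.Lib.Helper5.Ree
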