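import Mathlib
import Cfsg.Prelude.Def_ChevStructure
import Cfsg.Prelude.Def_LieTwisted
import Cfsg.Agent.Lib.Helper5.Ree.USub

set_option autoImplicit false

/-!
The elements of odd order of `H¹` in the Ree group act without fixed points on `U¹`.
-/

namespace Cfsg.Agent.Lib.Helper5.Ree

open Cfsg Cfsg.Lie Cfsg.Agent.Lib.Helper5.ChevSym Cfsg.Agent.Lib.Helper5.ChevSymP
  Cfsg.Agent.Lib.Helper5.ChevStruct

variable {K : Type*} [Field K] [CharP K 3] (m : ℕ)

omit [CharP K 3] in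
theorem pow_theta_mul (x : K) : (x ^ 3 ^ (m + 1)) ^ 3 ^ m = x ^ 3 ^ (2 * m + 1) := by
  rw [← pow_mul, ← pow_add]
  congr 2
  ring

/-- `χ_b(h(z)) ≠ 1` when `z ≠ 1` -/
theorem chi6_ne_one (hq : ∀ x : K, x ^ 3 ^ (2 * m + 1) = x) (z : Kˣ) (hz1 : z ≠ 1) :
    chi chevG2 (hzF m z) 6 ≠ 1 := by
  apply chi6_ne
  intro h
  apply hz1
  have h1 : ((z : K) ^ 3 ^ (m + 1)) ^ 3 ^ m = ((z : K) ^ 2) ^ 3 ^ m := by rw [h]
  rw [pow_theta_mul, hq] at h1
  have h2 : (z : K) ^ 3 = (z : K) ^ 4 := by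
    calc (z : K) ^ 3 = ((((z : K) ^ 2) ^ 3 ^ m)) ^ 3 := by rw [← h1]
      _ = ((z : K) ^ 3 ^ (m + 1)) ^ 2 := by
        rw [← pow_mul, ← pow_mul, ← pow_mul]
        congr 1
        rw [pow_succ]
        ring
      _ = ((z : K) ^ 2) ^ 2 := by rw [h]
      _ = (z : K) ^ 4 := by ring
  have hz0 : (z : K) ≠ 0 := z.ne_zero
  have h3 : (z : K) ^ 3 * 1 = (z : K) ^ 3 * (z : K) := by
    calc (z : K) ^ 3 * 1 = (z : K) ^ 3 := mul_one _
      _ = (z : K) ^ 4 := h2
      _ = (z : K) ^ 3 * (z : K) := by ring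
  have h4 := mul_left_cancel₀ (pow_ne_zero 3 hz0) h3
  exact Units.ext h4.symm

/-- `χ_{3a+b}(h(z)) ≠ 1` when `z² ≠ 1` -/
theorem chi10_ne_one (hq : ∀ x : K, x ^ 3 ^ (2 * m + 1) = x) (z : Kˣ) (hz2 : (z : K) ^ 2 ≠ 1) :
    chi chevG2 (hzF m z) 10 ≠ 1 := by
  apply chi10_ne
  intro h
  apply hz2
  have h1 : ((z : K) ^ 3 ^ (m + 1)) ^ 3 ^ m = (z : K) ^ 3 ^ m := by rw [h]
  rw [pow_theta_mul, hq] at h1
  have h2 : (z : K) ^ 3 = (z : K) := by
    calc (z : K) ^ 3 = ((z : K) ^ 3 ^ m) ^ 3 := by rw [← h1]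
      _ = (z : K) ^ 3 ^ (m + 1) := by rw [← pow_mul, ← pow_succ]
      _ = (z : K) := h
  have hz0 : (z : K) ≠ 0 := z.ne_zero
  have h3 : (z : K) * (z : K) ^ 2 = (z : K) * 1 := by
    rw [mul_one]
    calc (z : K) * (z : K) ^ 2 = (z : K) ^ 3 := by ring
      _ = (z : K) := h2
  exact mul_left_cancel₀ hz0 h3

variable [Fintype K]

/-- a non-identity element of odd order of `H¹` centralises no non-identity element of `U¹` -/
theorem centralizer_odd (hq : ∀ x : K, x ^ 3 ^ (2 * m + 1) = x) (h : GL chevG2.Idx K)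
    (hh : h ∈ chevG2.diagonalSubgroup K ⊓ fixG m) (h1 : h ≠ 1) (hodd : Odd (orderOf h)) :
    (chevG2.posUnipotent K ⊓ fixG m) ⊓ Subgroup.centralizer {h} = ⊥ := by
  obtain ⟨z, rfl⟩ := (diag_fix_iff m hq h).1 hh
  have hz1 : z ≠ 1 := fun e => h1 (by rw [e, map_one])
  have hord : orderOf (hz m z) = orderOf z := orderOf_injective (hz m) (hz_injective m) z
  rw [hord] at hodd
  have hz2 : (z : K) ^ 2 ≠ 1 := by
    intro e
    have e' : z ^ 2 = 1 := Units.ext (by rw [Units.val_pow_eq_pow_val, e, Units.val_one])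
    have hd : orderOf z ∣ 2 := orderOf_dvd_of_pow_eq_one e'
    have h1' : orderOf z = 1 := by
      rcases (Nat.dvd_prime Nat.prime_two).1 hd with h | h
      · exact h
      · rw [h] at hodd
        exact absurd hodd (by decide)
    exact hz1 (orderOf_eq_one_iff.1 h1')
  rw [eq_bot_iff]
  rintro x ⟨hx, hc⟩
  rw [Subgroup.mem_bot]
  obtain ⟨t, u, v, e⟩ := (pos_fix_iff m hq x).1 hx
  have e' : x = al m t u v := e
  have hcomm : hz m z * x = x * hz m z :=
    (Subgroup.mem_centralizer_iff.1 hc) (hz m z) (Set.mem_singleton _)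
  have hconj : hz m z * x * (hz m z)⁻¹ = x := by
    rw [hcomm]
    group
  rw [e', hz_conj_al m hq] at hconj
  obtain ⟨h2, h5, h6⟩ := al_injective m _ _ _ _ _ _ hconj
  have ht : t = 0 := by
    by_contra ht
    exact chi6_ne_one m hq z hz1 (mul_right_cancel₀ ht (by rw [h2, one_mul]))
  have hu : u = 0 := by
    by_contra hu
    exact chi10_ne_one m hq z hz2 (mul_right_cancel₀ hu (by rw [h5, one_mul]))
  have hv : v = 0 := by
    by_contra hv
    have : (z : K) = 1 := mul_right_cancel₀ hv (by rw [h6, one_mul])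
    exact hz1 (Units.ext this)
  rw [e', ht, hu, hv]
  exact al_zero m

/-- the number of elements of odd order of the multiplicative group -/
theorem two_mul_card_odd_units (hcard : Fintype.card K = 3 ^ (2 * m + 1)) :
    2 * Nat.card {z : Kˣ // Odd (orderOf z)} = Fintype.card K - 1 := by
  classical
  have h4 : 3 ^ (2 * m + 1) % 4 = 3 := by
    rw [pow_succ, pow_mul, Nat.mul_mod, Nat.pow_mod]
    norm_num
  obtain ⟨k, hk, hkodd⟩ : ∃ k, Fintype.card K - 1 = 2 * k ∧ Odd k := by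
    refine ⟨(3 ^ (2 * m + 1) - 1) / 2, ?_, ?_⟩
    · rw [hcard]
      omega
    · rw [Nat.odd_iff]
      omega
  have hcu : Fintype.card Kˣ = 2 * k := by rw [Fintype.card_units, hk]
  have hpow : ∀ z : Kˣ, z ^ (2 * k) = 1 := by
    intro z
    rw [← hcu]
    exact pow_card_eq_one
  have hiff : ∀ z : Kˣ, Odd (orderOf z) ↔ z ^ k = 1 := by
    intro z
    constructor
    · intro ho
      have hd : orderOf z ∣ 2 * k := orderOf_dvd_of_pow_eq_one (hpow z)
      have hc : Nat.Coprime (orderOf z) 2 := Nat.coprime_two_right.2 ho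
      exact orderOf_dvd_iff_pow_eq_one.1 (hc.dvd_of_dvd_mul_left hd)
    · intro hz
      exact Odd.of_dvd_nat hkodd (orderOf_dvd_of_pow_eq_one hz)
  have hneg1 : (-1 : Kˣ) ≠ 1 := by
    intro h
    have h' : (-1 : K) = 1 := by simpa using congrArg Units.val h
    have h3 := three_zero' (K := K)
    have : (1 : K) = 0 := by linear_combination h3 + h'
    exact one_ne_zero this
  have hcases : ∀ z : Kˣ, z ^ k = 1 ∨ z ^ k = -1 := by
    intro z
    have h1 : ((z : K) ^ k) * ((z : K) ^ k) = 1 := by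
      have := congrArg Units.val (hpow z)
      rw [Units.val_pow_eq_pow_val, Units.val_one] at this
      rw [← this]
      ring
    rcases mul_self_eq_one_iff.1 h1 with h | h
    · left
      exact Units.ext (by rw [Units.val_pow_eq_pow_val, h, Units.val_one])
    · right
      exact Units.ext (by rw [Units.val_pow_eq_pow_val, h, Units.val_neg, Units.val_one])
  have hsw : ∀ z : Kˣ, z ^ k = 1 ↔ ¬ ((-z) ^ k = 1) := by
    intro z
    rw [Odd.neg_pow hkodd]
    constructor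
    · intro h
      rw [h]
      exact hneg1
    · intro h
      rcases hcases z with h' | h'
      · exact h'
      · exfalso
        apply h
        rw [h', neg_neg]
  have e1 : {z : Kˣ // z ^ k = 1} ≃ {z : Kˣ // ¬ (z ^ k = 1)} :=
    Equiv.subtypeEquiv (Equiv.neg Kˣ) (fun z => by
      show z ^ k = 1 ↔ ¬ ((-z) ^ k = 1)
      exact hsw z)
  have e2 : {z : Kˣ // Odd (orderOf z)} ≃ {z : Kˣ // z ^ k = 1} :=
    Equiv.subtypeEquiv (Equiv.refl Kˣ) (fun z => hiff z)
  rw [Nat.card_congr e2, Nat.card_eq_fintype_card, hk]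
  have h5 := Fintype.card_subtype_compl (fun z : Kˣ => z ^ k = 1)
  rw [← Fintype.card_congr e1, hcu] at h5
  have h6 : Fintype.card {z : Kˣ // z ^ k = 1} ≤ Fintype.card Kˣ := Fintype.card_subtype_le _
  rw [hcu] at h6
  omega

/-- the number of elements of odd order of `H¹` -/
theorem two_mul_card_odd (hq : ∀ x : K, x ^ 3 ^ (2 * m + 1) = x)
    (hcard : Fintype.card K = 3 ^ (2 * m + 1)) :
    2 * Nat.card {h : ↥(chevG2.diagonalSubgroup K ⊓ fixG m) // Odd (orderOf h)}
      = Fintype.card K - 1 := by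
  let f : Kˣ → ↥(chevG2.diagonalSubgroup K ⊓ fixG m) := fun z =>
    ⟨hz m z, (diag_fix_iff m hq _).2 ⟨z, rfl⟩⟩
  have hbij : Function.Bijective f := by
    constructor
    · intro z z' h
      exact hz_injective m (congrArg Subtype.val h)
    · rintro ⟨g, hg⟩
      obtain ⟨z, rfl⟩ := (diag_fix_iff m hq g).1 hg
      exact ⟨z, rfl⟩
  have hord : ∀ z : Kˣ, Odd (orderOf z) ↔ Odd (orderOf (f z)) := by
    intro z
    have : orderOf (f z) = orderOf z := by
      show orderOf (⟨hz m z, _⟩ : ↥(chevG2.diagonalSubgroup K ⊓ fixG m)) = _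
      rw [Subgroup.orderOf_mk]
      exact orderOf_injective (hz m) (hz_injective m) z
    rw [this]
  rw [← Nat.card_congr (Equiv.subtypeEquiv (Equiv.ofBijective f hbij) hord)]
  exact two_mul_card_odd_units m hcard

end Cfsg.Agent.Lib.Helper5.Ree
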