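import Mathlib
import Cfsg.Prelude.Def_ChevStructure
import Cfsg.Prelude.Def_LieTwisted
import Cfsg.Agent.Lib.Helper5.Ree.HOdd
import Cfsg.Agent.Lib.Helper5.Ree.SylowTI
import Cfsg.Agent.Lib.Helper5.ChevNormal

set_option autoImplicit false

/-!
The stabiliser of three points in the Ree group acting on the cosets of `B¹`.
-/

namespace Cfsg.Agent.Lib.Helper5.Ree

open Cfsg Cfsg.Lie Cfsg.Agent.Lib.Helper5.ChevSym Cfsg.Agent.Lib.Helper5.ChevSymP
  Cfsg.Agent.Lib.Helper5.ChevStruct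

variable {K : Type*} [Field K] [CharP K 3] (m : ℕ)

omit [CharP K 3] in
/-- `B ∩ n₀ B n₀⁻¹ = H` -/
theorem borel_conj_diag (c : GL chevG2.Idx K) (h1 : c ∈ chevG2.borelSubgroup K)
    (h2 : (n0 K)⁻¹ * c * n0 K ∈ chevG2.borelSubgroup K) : c ∈ chevG2.diagonalSubgroup K := by
  obtain ⟨hwd, hmap⟩ := conj_pos_eq_neg' (K := K) chevG2 hG2 w0 checkW0_w0
  have hnN : n0 K ∈ chevG2.monomialSubgroup K := n0_mem_mono
  have h3 : c ∈ (chevG2.borelSubgroup K).map (MulAut.conj (n0 K)).toMonoidHom := by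
    refine ⟨(n0 K)⁻¹ * c * n0 K, h2, ?_⟩
    show n0 K * ((n0 K)⁻¹ * c * n0 K) * (n0 K)⁻¹ = c
    group
  have h4 : (chevG2.borelSubgroup K).map (MulAut.conj (n0 K)).toMonoidHom
      = chevG2.negUnipotent K ⊔ chevG2.diagonalSubgroup K := by
    unfold ChevalleyDatum.borelSubgroup
    rw [Subgroup.map_sup]
    have : (chevG2.posUnipotent K).map (MulAut.conj (n0 K)).toMonoidHom
        = chevG2.negUnipotent K := hmap
    rw [this, diagonal_map_conj chevG2 hG2 (n0 K) hnN]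
  rw [h4] at h3
  have : c ∈ chevG2.borelSubgroup K ⊓ (chevG2.negUnipotent K ⊔ chevG2.diagonalSubgroup K) :=
    Subgroup.mem_inf.2 ⟨h1, h3⟩
  rwa [borel_inf_negBorel chevG2 hG2] at this

theorem chi10_neg_one : chi chevG2 (hzF (K := K) m (-1 : Kˣ)) 10 = 1 := by
  rw [chi_ten]
  have hodd : Odd (3 ^ m) := Odd.pow (by decide)
  have e0 : hzF (K := K) m (-1 : Kˣ) 0 = -1 := by
    simp [hzF, ph_apply, hodd.neg_one_pow]
  have e1 : hzF (K := K) m (-1 : Kˣ) 1 = -1 := by simp [hzF]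
  rw [e0, e1, zpow_neg, zpow_one]
  norm_num

variable [Fintype K]

theorem hz_neg_one_comm (hq : ∀ x : K, x ^ 3 ^ (2 * m + 1) = x) :
    hz m (-1 : Kˣ) * al m (0 : K) 1 0 = al m (0 : K) 1 0 * hz m (-1 : Kˣ) := by
  have h := hz_conj_al m hq (-1 : Kˣ) (0 : K) 1 0
  rw [chi10_neg_one, mul_zero, mul_zero, mul_one] at h
  calc hz m (-1 : Kˣ) * al m (0 : K) 1 0
      = hz m (-1 : Kˣ) * al m (0 : K) 1 0 * (hz m (-1 : Kˣ))⁻¹ * hz m (-1 : Kˣ) := by group
    _ = al m (0 : K) 1 0 * hz m (-1 : Kˣ) := by rw [h]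

/-- the elements `h(z)` centralising a non-identity element of `U¹` -/
theorem centralizer_cases (hq : ∀ x : K, x ^ 3 ^ (2 * m + 1) = x) (z : Kˣ) (t u v : K)
    (hne : ¬ (t = 0 ∧ u = 0 ∧ v = 0))
    (hc : hz m z * al m t u v = al m t u v * hz m z) : z = 1 ∨ z = -1 := by
  by_cases hz1 : z = 1
  · exact Or.inl hz1
  · right
    have hconj : hz m z * al m t u v * (hz m z)⁻¹ = al m t u v := by
      rw [hc]
      group
    rw [hz_conj_al m hq] at hconj
    obtain ⟨h2, h5, h6⟩ := al_injective m _ _ _ _ _ _ hconj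
    have ht : t = 0 := by
      by_contra ht
      exact chi6_ne_one m hq z hz1 (mul_right_cancel₀ ht (by rw [h2, one_mul]))
    have hv : v = 0 := by
      by_contra hv
      have : (z : K) = 1 := mul_right_cancel₀ hv (by rw [h6, one_mul])
      exact hz1 (Units.ext this)
    have hu : u ≠ 0 := fun hu => hne ⟨ht, hu, hv⟩
    have hχ : chi chevG2 (hzF m z) 10 = 1 := mul_right_cancel₀ hu (by rw [h5, one_mul])
    have hz2 : (z : K) ^ 2 = 1 := by
      by_contra hz2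
      exact chi10_ne_one m hq z hz2 hχ
    rw [pow_two] at hz2
    rcases mul_self_eq_one_iff.1 hz2 with h | h
    · exact absurd (Units.ext h) hz1
    · exact Units.ext (by rw [h, Units.val_neg, Units.val_one])

/-- the stabiliser of the three points `B¹`, `n₀B¹`, `u n₀ B¹` -/
theorem three_stab (hq : ∀ x : K, x ^ 3 ^ (2 * m + 1) = x) (k u : GL chevG2.Idx K)
    (hk : k ∈ fixG m) (hu : u ∈ chevG2.posUnipotent K ⊓ fixG m) (hu1 : u ≠ 1)
    (h1 : k ∈ chevG2.borelSubgroup K) (h2 : (n0 K)⁻¹ * k * n0 K ∈ chevG2.borelSubgroup K)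
    (h3 : (u * n0 K)⁻¹ * k * (u * n0 K) ∈ chevG2.borelSubgroup K) :
    k = 1 ∨ k = hz m (-1 : Kˣ) := by
  have hkH : k ∈ chevG2.diagonalSubgroup K := borel_conj_diag k h1 h2
  obtain ⟨z, rfl⟩ := (diag_fix_iff m hq k).1 (Subgroup.mem_inf.2 ⟨hkH, hk⟩)
  obtain ⟨huU, huf⟩ := Subgroup.mem_inf.1 hu
  have huB : u ∈ chevG2.borelSubgroup K := pos_le_borel chevG2 huU
  have hc1 : u⁻¹ * hz m z * u ∈ chevG2.borelSubgroup K :=
    mul_mem (mul_mem (inv_mem huB) h1) huB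
  have hc2 : (n0 K)⁻¹ * (u⁻¹ * hz m z * u) * n0 K ∈ chevG2.borelSubgroup K := by
    have e : (n0 K)⁻¹ * (u⁻¹ * hz m z * u) * n0 K = (u * n0 K)⁻¹ * hz m z * (u * n0 K) := by
      group
    rw [e]
    exact h3
  have hcH : u⁻¹ * hz m z * u ∈ chevG2.diagonalSubgroup K := borel_conj_diag _ hc1 hc2
  have h4 : (hz m z)⁻¹ * (u⁻¹ * hz m z * u) ∈ chevG2.posUnipotent K ⊓ chevG2.diagonalSubgroup K := by
    refine Subgroup.mem_inf.2 ⟨?_, mul_mem (inv_mem hkH) hcH⟩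
    have hn := diagonal_le_normalizer_pos (F := K) chevG2 hG2 (inv_mem hkH)
    have h5 := (Subgroup.mem_normalizer_iff.1 hn u⁻¹).1 (inv_mem huU)
    have e : (hz m z)⁻¹ * (u⁻¹ * hz m z * u) = (hz m z)⁻¹ * u⁻¹ * ((hz m z)⁻¹)⁻¹ * u := by group
    rw [e]
    exact mul_mem h5 huU
  rw [pos_inf_diagonal chevG2 hG2, Subgroup.mem_bot] at h4
  have hcomm : hz m z * u = u * hz m z := by
    have e : hz m z * u = u * (hz m z * ((hz m z)⁻¹ * (u⁻¹ * hz m z * u))) := by group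
    rw [e, h4, mul_one]
  obtain ⟨t, u', v, e⟩ := (pos_fix_iff m hq u).1 hu
  have e' : u = al m t u' v := e
  rw [e'] at hcomm
  have hne : ¬ (t = 0 ∧ u' = 0 ∧ v = 0) := by
    intro h
    apply hu1
    rw [e']
    exact (al_eq_one_iff m t u' v).2 h
  rcases centralizer_cases m hq z t u' v hne hcomm with h | h
  · left
    rw [h, map_one]
  · right
    rw [h]

end Cfsg.Agent.Lib.Helper5.Ree
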