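import Mathlib
import Cfsg.Prelude.Def_ChevStructure
import Cfsg.Prelude.Def_LieTwisted
import Cfsg.Agent.Lib.Helper5.Ree.HOdd

set_option autoImplicit false

/-!
The Ree groups `²G₂(3^(2m+1))`, `m ≥ 1`, are generated by two elements.
-/

namespace Cfsg.Agent.Lib.Helper5.Ree

open Cfsg Cfsg.Lie Cfsg.Agent.Lib.Helper5.ChevSym Cfsg.Agent.Lib.Helper5.ChevSymP
  Cfsg.Agent.Lib.Helper5.ChevStruct

variable {K : Type*} [Field K] [CharP K 3] (m : ℕ)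

/-- `χ_b(h(s^(2+3θ))) = s` -/
theorem chi6_pow (hq : ∀ x : K, x ^ 3 ^ (2 * m + 1) = x) (s : Kˣ) :
    chi chevG2 (hzF m (s ^ (2 + 3 ^ (m + 1)))) 6 = (s : K) := by
  rw [chi_six]
  have e0 : hzF m (s ^ (2 + 3 ^ (m + 1))) 0 = ph m ((s : K) ^ (2 + 3 ^ (m + 1))) := by
    simp [hzF]
  have e1 : hzF m (s ^ (2 + 3 ^ (m + 1))) 1 = (s : K) ^ (2 + 3 ^ (m + 1)) := by simp [hzF]
  rw [e0, e1]
  have hs0 : (s : K) ≠ 0 := s.ne_zero
  have hne : ph m ((s : K) ^ (2 + 3 ^ (m + 1))) ≠ 0 := by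
    rw [ph_apply]
    exact pow_ne_zero _ (pow_ne_zero _ hs0)
  rw [zpow_neg, inv_mul_eq_iff_eq_mul₀ (zpow_ne_zero _ hne)]
  have h3 : (ph m ((s : K) ^ (2 + 3 ^ (m + 1)))) ^ (3 : ℤ)
      = ((s : K) ^ (2 + 3 ^ (m + 1))) ^ 3 ^ (m + 1) := by
    have : (ph m ((s : K) ^ (2 + 3 ^ (m + 1)))) ^ (3 : ℤ)
        = (ph m ((s : K) ^ (2 + 3 ^ (m + 1)))) ^ 3 := by norm_cast
    rw [this, ← ps_eq, ps_apply]
  have h2 : ((s : K) ^ (2 + 3 ^ (m + 1))) ^ (2 : ℤ) = ((s : K) ^ (2 + 3 ^ (m + 1))) ^ 2 := by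
    norm_cast
  rw [h3, h2]
  have h1 : (s : K) ^ (3 ^ (m + 1) * 3 ^ (m + 1)) = (s : K) ^ 3 := by
    have : 3 ^ (m + 1) * 3 ^ (m + 1) = 3 ^ (2 * m + 1) * 3 := by ring
    rw [this, pow_mul, hq]
  generalize 3 ^ (m + 1) = n at h1 ⊢
  calc ((s : K) ^ (2 + n)) ^ 2 = (s : K) ^ (2 * n) * (s : K) ^ 3 * (s : K) := by ring
    _ = (s : K) ^ (2 * n) * (s : K) ^ (n * n) * (s : K) := by rw [h1]
    _ = ((s : K) ^ (2 + n)) ^ n * (s : K) := by ring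

/-- `χ_{3a+b}(h(s^(3θ+1))) = s²` -/
theorem chi10_pow (hq : ∀ x : K, x ^ 3 ^ (2 * m + 1) = x) (s : Kˣ) :
    chi chevG2 (hzF m (s ^ (3 ^ (m + 1) + 1))) 10 = (s : K) ^ 2 := by
  rw [chi_ten]
  have e0 : hzF m (s ^ (3 ^ (m + 1) + 1)) 0 = ph m ((s : K) ^ (3 ^ (m + 1) + 1)) := by
    simp [hzF]
  have e1 : hzF m (s ^ (3 ^ (m + 1) + 1)) 1 = (s : K) ^ (3 ^ (m + 1) + 1) := by simp [hzF]
  rw [e0, e1]
  have hs0 : (s : K) ≠ 0 := s.ne_zero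
  rw [zpow_neg, zpow_one, mul_inv_eq_iff_eq_mul₀ (pow_ne_zero _ hs0)]
  have h3 : (ph m ((s : K) ^ (3 ^ (m + 1) + 1))) ^ (3 : ℤ)
      = ((s : K) ^ (3 ^ (m + 1) + 1)) ^ 3 ^ (m + 1) := by
    have : (ph m ((s : K) ^ (3 ^ (m + 1) + 1))) ^ (3 : ℤ)
        = (ph m ((s : K) ^ (3 ^ (m + 1) + 1))) ^ 3 := by norm_cast
    rw [this, ← ps_eq, ps_apply]
  rw [h3]
  have h1 : (s : K) ^ (3 ^ (m + 1) * 3 ^ (m + 1)) = (s : K) ^ 3 := by
    have : 3 ^ (m + 1) * 3 ^ (m + 1) = 3 ^ (2 * m + 1) * 3 := by ring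
    rw [this, pow_mul, hq]
  generalize 3 ^ (m + 1) = n at h1 ⊢
  calc ((s : K) ^ (n + 1)) ^ n = (s : K) ^ (n * n) * (s : K) ^ n := by ring
    _ = (s : K) ^ 3 * (s : K) ^ n := by rw [h1]
    _ = (s : K) ^ 2 * (s : K) ^ (n + 1) := by ring

variable [Fintype K]

/-- the product of two elements of `U¹` -/
theorem al_mul (hq : ∀ x : K, x ^ 3 ^ (2 * m + 1) = x) (t u v t' u' v' : K) :
    al m t u v * al m t' u' v'
      = al m (t + t') (u + u' - t * (ph m t') ^ 3)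
          (v + v' - u * t' + t * (ph m t') ^ 3 * t' - t ^ 2 * (ph m t') ^ 3) := by
  have hmem : al m t u v * al m t' u' v' ∈ chevG2.posUnipotent K ⊓ fixG m :=
    Subgroup.mem_inf.2 ⟨mul_mem (al_mem_pos m _ _ _) (al_mem_pos m _ _ _),
      mul_mem (al_mem_fixG m hq _ _ _) (al_mem_fixG m hq _ _ _)⟩
  obtain ⟨t2, u2, v2, e⟩ := (pos_fix_iff m hq _).1 hmem
  have e' : al m t u v * al m t' u' v' = al m t2 u2 v2 := e
  have e2 := e'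
  rw [al_eq, al_eq, al_eq, w6_mul] at e2
  obtain ⟨-, h2, -, -, h5, h6⟩ := word6_inj _ _ _ _ _ _ _ _ _ _ _ _ e2
  rw [e', ← h2, ← h5, ← h6]

theorem al0_mul (hq : ∀ x : K, x ^ 3 ^ (2 * m + 1) = x) (u v u' v' : K) :
    al m 0 u v * al m 0 u' v' = al m 0 (u + u') (v + v') := by
  rw [al_mul m hq]
  simp

theorem al0_inv (hq : ∀ x : K, x ^ 3 ^ (2 * m + 1) = x) (u v : K) :
    (al m 0 u v)⁻¹ = al m 0 (-u) (-v) := by
  apply inv_eq_of_mul_eq_one_right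
  rw [al0_mul m hq, add_neg_cancel, add_neg_cancel, al_zero]

section gen

variable (M : Subgroup (GL chevG2.Idx K))

/-- level 1: all `t`-coordinates occur -/
theorem gen_t (hq : ∀ x : K, x ^ 3 ^ (2 * m + 1) = x) (hH : ∀ z : Kˣ, hz m z ∈ M)
    (t₀ u₀ v₀ : K) (ht₀ : t₀ ≠ 0) (hx : al m t₀ u₀ v₀ ∈ M) (t : K) :
    ∃ u v : K, al m t u v ∈ M := by
  by_cases ht : t = 0
  · refine ⟨0, 0, ?_⟩
    rw [ht, al_zero]
    exact one_mem _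
  · have hs : t / t₀ ≠ 0 := div_ne_zero ht ht₀
    have hmem : hz m ((Units.mk0 (t / t₀) hs) ^ (2 + 3 ^ (m + 1))) * al m t₀ u₀ v₀
        * (hz m ((Units.mk0 (t / t₀) hs) ^ (2 + 3 ^ (m + 1))))⁻¹ ∈ M :=
      mul_mem (mul_mem (hH _) hx) (inv_mem (hH _))
    rw [hz_conj_al m hq, chi6_pow m hq, Units.val_mk0, div_mul_cancel₀ t ht₀] at hmem
    exact ⟨_, _, hmem⟩

/-- level 2: all `u`-coordinates occur -/
theorem gen_u (hq : ∀ x : K, x ^ 3 ^ (2 * m + 1) = x)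
    (hcard : Fintype.card K = 3 ^ (2 * m + 1)) (hm : 1 ≤ m) (hH : ∀ z : Kˣ, hz m z ∈ M)
    (hT : ∀ t : K, ∃ u v : K, al m t u v ∈ M) (u : K) : ∃ v : K, al m 0 u v ∈ M := by
  -- a non-zero `u`-coordinate, from a commutator
  have hlt : 3 ^ (m + 1) < Fintype.card K := by
    rw [hcard]
    exact Nat.pow_lt_pow_right (by norm_num) (by omega)
  have h13 : 1 < 3 ^ (m + 1) := Nat.one_lt_pow (by omega) (by norm_num)
  obtain ⟨t1, ht10, ht1⟩ := exists_pow_ne (K := K) (3 ^ (m + 1)) 1 (by norm_num) h13 hlt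
  rw [pow_one] at ht1
  obtain ⟨u1, v1, hx⟩ := hT t1
  obtain ⟨u2, v2, hy⟩ := hT 1
  have hg : al m t1 u1 v1 * al m 1 u2 v2 * (al m t1 u1 v1)⁻¹ * (al m 1 u2 v2)⁻¹ ∈ M :=
    mul_mem (mul_mem (mul_mem hx hy) (inv_mem hx)) (inv_mem hy)
  have hgU : al m t1 u1 v1 * al m 1 u2 v2 * (al m t1 u1 v1)⁻¹ * (al m 1 u2 v2)⁻¹
      ∈ chevG2.posUnipotent K ⊓ fixG m :=
    Subgroup.mem_inf.2
      ⟨mul_mem (mul_mem (mul_mem (al_mem_pos m _ _ _) (al_mem_pos m _ _ _))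
        (inv_mem (al_mem_pos m _ _ _))) (inv_mem (al_mem_pos m _ _ _)),
      mul_mem (mul_mem (mul_mem (al_mem_fixG m hq _ _ _) (al_mem_fixG m hq _ _ _))
        (inv_mem (al_mem_fixG m hq _ _ _))) (inv_mem (al_mem_fixG m hq _ _ _))⟩
  obtain ⟨t3, u3, v3, e⟩ := (pos_fix_iff m hq _).1 hgU
  have e' : al m t1 u1 v1 * al m 1 u2 v2 * (al m t1 u1 v1)⁻¹ * (al m 1 u2 v2)⁻¹
      = al m t3 u3 v3 := e
  have e2 : al m t3 u3 v3 * (al m 1 u2 v2 * al m t1 u1 v1) = al m t1 u1 v1 * al m 1 u2 v2 := by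
    rw [← e']
    group
  rw [al_mul m hq 1, al_mul m hq t1, al_mul m hq t3] at e2
  obtain ⟨h2, h5, -⟩ := al_injective m _ _ _ _ _ _ e2
  have ht3 : t3 = 0 := by linear_combination h2
  rw [ht3] at h5
  have hu3 : u3 = (ph m t1) ^ 3 - t1 := by
    rw [map_one] at h5
    linear_combination h5
  have hu3' : u3 ≠ 0 := by
    rw [hu3, ← ps_eq, ps_apply]
    exact sub_ne_zero.2 ht1
  rw [e', ht3] at hg
  -- multiples by squares
  have hsq : ∀ a : K, ∃ v : K, al m 0 (a ^ 2 * u3) v ∈ M := by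
    intro a
    by_cases ha : a = 0
    · refine ⟨0, ?_⟩
      rw [ha]
      simp only [ne_eq, OfNat.ofNat_ne_zero, not_false_eq_true, zero_pow, zero_mul]
      rw [al_zero]
      exact one_mem _
    · have hmem : hz m ((Units.mk0 a ha) ^ (3 ^ (m + 1) + 1)) * al m 0 u3 v3
          * (hz m ((Units.mk0 a ha) ^ (3 ^ (m + 1) + 1)))⁻¹ ∈ M :=
        mul_mem (mul_mem (hH _) hg) (inv_mem (hH _))
      rw [hz_conj_al m hq, chi10_pow m hq, Units.val_mk0, mul_zero] at hmem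
      exact ⟨_, hmem⟩
  obtain ⟨va, ha⟩ := hsq (u / u3 + 1)
  obtain ⟨vb, hb⟩ := hsq (u / u3 - 1)
  have hab := mul_mem ha (inv_mem hb)
  rw [al0_inv m hq, al0_mul m hq] at hab
  have h3 := three_zero' (K := K)
  have e3 : (u / u3 + 1) ^ 2 * u3 + -((u / u3 - 1) ^ 2 * u3) = u := by
    have : (u / u3 + 1) ^ 2 * u3 + -((u / u3 - 1) ^ 2 * u3) = 4 * (u / u3 * u3) := by ring
    rw [this, div_mul_cancel₀ u hu3']
    linear_combination u * h3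
  rw [e3] at hab
  exact ⟨_, hab⟩

/-- level 3: all `v`-coordinates occur -/
theorem gen_v (hq : ∀ x : K, x ^ 3 ^ (2 * m + 1) = x) (hH : ∀ z : Kˣ, hz m z ∈ M)
    (hT : ∀ t : K, ∃ u v : K, al m t u v ∈ M) (hU : ∀ u : K, ∃ v : K, al m 0 u v ∈ M) (v : K) :
    al m 0 0 v ∈ M := by
  obtain ⟨u1, v1, hx⟩ := hT 1
  obtain ⟨v2, hy⟩ := hU 1
  have hg : al m 1 u1 v1 * al m 0 1 v2 * (al m 1 u1 v1)⁻¹ * (al m 0 1 v2)⁻¹ ∈ M :=
    mul_mem (mul_mem (mul_mem hx hy) (inv_mem hx)) (inv_mem hy)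
  have hgU : al m 1 u1 v1 * al m 0 1 v2 * (al m 1 u1 v1)⁻¹ * (al m 0 1 v2)⁻¹
      ∈ chevG2.posUnipotent K ⊓ fixG m :=
    Subgroup.mem_inf.2
      ⟨mul_mem (mul_mem (mul_mem (al_mem_pos m _ _ _) (al_mem_pos m _ _ _))
        (inv_mem (al_mem_pos m _ _ _))) (inv_mem (al_mem_pos m _ _ _)),
      mul_mem (mul_mem (mul_mem (al_mem_fixG m hq _ _ _) (al_mem_fixG m hq _ _ _))
        (inv_mem (al_mem_fixG m hq _ _ _))) (inv_mem (al_mem_fixG m hq _ _ _))⟩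
  obtain ⟨t3, u3, v3, e⟩ := (pos_fix_iff m hq _).1 hgU
  have e' : al m 1 u1 v1 * al m 0 1 v2 * (al m 1 u1 v1)⁻¹ * (al m 0 1 v2)⁻¹
      = al m t3 u3 v3 := e
  have e2 : al m t3 u3 v3 * (al m 0 1 v2 * al m 1 u1 v1) = al m 1 u1 v1 * al m 0 1 v2 := by
    rw [← e']
    group
  rw [al_mul m hq 0, al_mul m hq 1, al_mul m hq t3] at e2
  obtain ⟨h2, h5, h6⟩ := al_injective m _ _ _ _ _ _ e2
  have ht3 : t3 = 0 := by linear_combination h2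
  rw [ht3] at h5 h6
  have hu3 : u3 = 0 := by
    simp only [map_zero, map_one, zero_add] at h5
    linear_combination h5
  rw [hu3] at h6
  have hv3 : v3 = 1 := by
    simp only [map_zero, map_one, zero_add] at h6
    linear_combination h6
  rw [e', ht3, hu3, hv3] at hg
  by_cases hv : v = 0
  · rw [hv, al_zero]
    exact one_mem _
  · have hmem : hz m (Units.mk0 v hv) * al m 0 0 1 * (hz m (Units.mk0 v hv))⁻¹ ∈ M :=
      mul_mem (mul_mem (hH _) hg) (inv_mem (hH _))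
    rw [hz_conj_al m hq, Units.val_mk0, mul_zero, mul_zero, mul_one] at hmem
    exact hmem

/-- a subgroup containing `H¹` and an element of `U¹` outside `U₂` contains `U¹` -/
theorem gen_all (hq : ∀ x : K, x ^ 3 ^ (2 * m + 1) = x)
    (hcard : Fintype.card K = 3 ^ (2 * m + 1)) (hm : 1 ≤ m) (hH : ∀ z : Kˣ, hz m z ∈ M)
    (t₀ u₀ v₀ : K) (ht₀ : t₀ ≠ 0) (hx : al m t₀ u₀ v₀ ∈ M) (t u v : K) : al m t u v ∈ M := by
  have hT := gen_t m M hq hH t₀ u₀ v₀ ht₀ hx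
  have hU := gen_u m M hq hcard hm hH hT
  have hV := gen_v m M hq hH hT hU
  obtain ⟨u1, v1, h1⟩ := hT t
  have hg : (al m t u1 v1)⁻¹ * al m t u v ∈ chevG2.posUnipotent K ⊓ fixG m :=
    Subgroup.mem_inf.2 ⟨mul_mem (inv_mem (al_mem_pos m t u1 v1)) (al_mem_pos m t u v),
      mul_mem (inv_mem (al_mem_fixG m hq t u1 v1)) (al_mem_fixG m hq t u v)⟩
  obtain ⟨t2, u2, v2, e⟩ := (pos_fix_iff m hq _).1 hg
  have e' : (al m t u1 v1)⁻¹ * al m t u v = al m t2 u2 v2 := e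
  have e2 : al m t u1 v1 * al m t2 u2 v2 = al m t u v := by
    rw [← e']
    group
  have e3 := e2
  rw [al_mul m hq] at e3
  obtain ⟨h2, -, -⟩ := al_injective m _ _ _ _ _ _ e3
  have ht2 : t2 = 0 := by linear_combination h2
  rw [ht2] at e2
  obtain ⟨v3, h3⟩ := hU u2
  have e4 : al m 0 u2 v2 = al m 0 u2 v3 * al m 0 0 (v2 - v3) := by
    rw [al0_mul m hq]
    congr 1 <;> ring
  rw [← e2, e4]
  exact mul_mem h1 (mul_mem h3 (hV _))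

end gen

end Cfsg.Agent.Lib.Helper5.Ree
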