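import Mathlib
import Cfsg.Prelude.Def_ChevStructure
import Cfsg.Prelude.Def_LieTwisted
import Cfsg.Agent.Lib.Helper5.Ree.ThreeStab

set_option autoImplicit false

/-!
The stabiliser of three points in the Ree group acting on the cosets of `B¹`: the action on the
quotient.
-/

namespace Cfsg.Agent.Lib.Helper5.Ree

open Cfsg Cfsg.Lie Cfsg.Agent.Lib.Helper5.ChevSym Cfsg.Agent.Lib.Helper5.ChevSymP
  Cfsg.Agent.Lib.Helper5.ChevStruct

variable {K : Type*} [Field K] [CharP K 3] (m : ℕ)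

/-- the stabiliser of a coset -/
theorem mem_stab_iff (g k : ↥(fixG (K := K) m)) :
    k ∈ MulAction.stabilizer ↥(fixG (K := K) m)
        ((g : ↥(fixG (K := K) m)) :
          ↥(fixG (K := K) m) ⧸ (chevG2.borelSubgroup K ⊓ fixG m).subgroupOf (fixG m))
      ↔ ((g : GL chevG2.Idx K))⁻¹ * (k : GL chevG2.Idx K) * (g : GL chevG2.Idx K)
          ∈ chevG2.borelSubgroup K := by
  rw [MulAction.mem_stabilizer_iff, MulAction.Quotient.smul_mk, QuotientGroup.eq,
    Subgroup.mem_subgroupOf, smul_eq_mul]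
  have e : (((k * g)⁻¹ * g : ↥(fixG (K := K) m)) : GL chevG2.Idx K)
      = (((g : GL chevG2.Idx K))⁻¹ * (k : GL chevG2.Idx K) * (g : GL chevG2.Idx K))⁻¹ := by
    simp only [Subgroup.coe_mul, Subgroup.coe_inv]
    group
  constructor
  · intro h
    have h' := (Subgroup.mem_inf.1 h).1
    rw [e] at h'
    exact (inv_mem_iff).1 h'
  · intro h
    refine Subgroup.mem_inf.2 ⟨?_, ((k * g)⁻¹ * g).2⟩
    rw [e]
    exact inv_mem h

variable [Fintype K]

omit [Fintype K] in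
/-- three distinct points are conjugate to `B¹`, `n₀B¹`, `u n₀ B¹` -/
theorem triple_normal_form (hq : ∀ x : K, x ^ 3 ^ (2 * m + 1) = x)
    (x y z : ↥(fixG (K := K) m) ⧸ (chevG2.borelSubgroup K ⊓ fixG m).subgroupOf (fixG m))
    (hxy : x ≠ y) (hxz : x ≠ z) (hyz : y ≠ z) :
    ∃ (g u : ↥(fixG (K := K) m)), (u : GL chevG2.Idx K) ∈ chevG2.posUnipotent K ⊓ fixG m ∧
      u ≠ 1 ∧ x = ((g : ↥(fixG (K := K) m)) : ↥(fixG (K := K) m) ⧸ _) ∧
      y = ((g * ⟨n0 K, n0_mem_fixG m hq⟩ : ↥(fixG (K := K) m)) : ↥(fixG (K := K) m) ⧸ _) ∧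
      z = ((g * u * ⟨n0 K, n0_mem_fixG m hq⟩ : ↥(fixG (K := K) m)) :
        ↥(fixG (K := K) m) ⧸ _) := by
  obtain ⟨g1, rfl⟩ := QuotientGroup.mk_surjective x
  obtain ⟨g2, rfl⟩ := QuotientGroup.mk_surjective y
  obtain ⟨g3, rfl⟩ := QuotientGroup.mk_surjective z
  obtain ⟨nn, hnn⟩ : ∃ nn : ↥(fixG (K := K) m), nn = ⟨n0 K, n0_mem_fixG m hq⟩ := ⟨_, rfl⟩
  have hnn' : (nn : GL chevG2.Idx K) = n0 K := by rw [hnn]
  rw [← hnn]
  have hB : ∀ a : ↥(fixG (K := K) m),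
      a ∈ (chevG2.borelSubgroup K ⊓ fixG m).subgroupOf (fixG m)
        ↔ (a : GL chevG2.Idx K) ∈ chevG2.borelSubgroup K ⊓ fixG m :=
    fun a => Subgroup.mem_subgroupOf
  -- the second point
  have h12 : ¬ ((g1⁻¹ * g2 : ↥(fixG (K := K) m)) : GL chevG2.Idx K)
      ∈ chevG2.borelSubgroup K ⊓ fixG m := by
    intro h
    apply hxy
    rw [QuotientGroup.eq, hB]
    exact h
  rcases fix_cases m hq _ (g1⁻¹ * g2).2 with h | ⟨b1, hb1, b2, hb2, e12⟩
  · exact absurd h h12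
  obtain ⟨bb1, hbb1⟩ : ∃ bb1 : ↥(fixG (K := K) m), (bb1 : GL chevG2.Idx K) = b1 :=
    ⟨⟨b1, (Subgroup.mem_inf.1 hb1).2⟩, rfl⟩
  obtain ⟨bb2, hbb2⟩ : ∃ bb2 : ↥(fixG (K := K) m), (bb2 : GL chevG2.Idx K) = b2 :=
    ⟨⟨b2, (Subgroup.mem_inf.1 hb2).2⟩, rfl⟩
  have eg2 : g2 = g1 * (bb1 * nn * bb2) := by
    have e12' : g1⁻¹ * g2 = bb1 * nn * bb2 := by
      apply Subtype.ext
      rw [e12]
      simp only [Subgroup.coe_mul, hbb1, hbb2, hnn']
    rw [← e12']
    group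
  have hx : ((g1 : ↥(fixG (K := K) m)) :
      ↥(fixG (K := K) m) ⧸ (chevG2.borelSubgroup K ⊓ fixG m).subgroupOf (fixG m))
      = ((g1 * bb1 : ↥(fixG (K := K) m)) :
        ↥(fixG (K := K) m) ⧸ (chevG2.borelSubgroup K ⊓ fixG m).subgroupOf (fixG m)) := by
    rw [QuotientGroup.eq, hB]
    have : g1⁻¹ * (g1 * bb1) = bb1 := by group
    rw [this, hbb1]
    exact hb1
  have hy : ((g2 : ↥(fixG (K := K) m)) :
      ↥(fixG (K := K) m) ⧸ (chevG2.borelSubgroup K ⊓ fixG m).subgroupOf (fixG m))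
      = ((g1 * bb1 * nn : ↥(fixG (K := K) m)) :
        ↥(fixG (K := K) m) ⧸ (chevG2.borelSubgroup K ⊓ fixG m).subgroupOf (fixG m)) := by
    rw [QuotientGroup.eq, hB]
    have : g2⁻¹ * (g1 * bb1 * nn) = bb2⁻¹ := by
      rw [eg2]
      group
    rw [this, Subgroup.coe_inv, hbb2]
    exact inv_mem hb2
  -- the third point
  have h13 : ¬ (((g1 * bb1)⁻¹ * g3 : ↥(fixG (K := K) m)) :
      GL chevG2.Idx K) ∈ chevG2.borelSubgroup K ⊓ fixG m := by
    intro h
    apply hxz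
    rw [hx, QuotientGroup.eq, hB]
    exact h
  rcases fix_cases m hq _ ((g1 * bb1)⁻¹ * g3).2 with h | ⟨c1, hc1, c2, hc2, e13⟩
  · exact absurd h h13
  obtain ⟨u, hu, h, hh, ec1⟩ := borel_fix m c1 (Subgroup.mem_inf.1 hc1).1 (Subgroup.mem_inf.1 hc1).2
  obtain ⟨uu, huu⟩ : ∃ uu : ↥(fixG (K := K) m), (uu : GL chevG2.Idx K) = u :=
    ⟨⟨u, (Subgroup.mem_inf.1 hu).2⟩, rfl⟩
  have hz : ((g3 : ↥(fixG (K := K) m)) :
      ↥(fixG (K := K) m) ⧸ (chevG2.borelSubgroup K ⊓ fixG m).subgroupOf (fixG m))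
      = ((g1 * bb1 * uu * nn : ↥(fixG (K := K) m)) :
        ↥(fixG (K := K) m) ⧸ (chevG2.borelSubgroup K ⊓ fixG m).subgroupOf (fixG m)) := by
    rw [QuotientGroup.eq, hB]
    refine Subgroup.mem_inf.2 ⟨?_, SetLike.coe_mem _⟩
    have e3 : (g3 : GL chevG2.Idx K)
        = (g1 : GL chevG2.Idx K) * (bb1 : GL chevG2.Idx K) * (u * h * n0 K * c2) := by
      rw [← ec1, ← e13]
      simp only [Subgroup.coe_mul, Subgroup.coe_inv]
      group
    have e4 : ((g3⁻¹ * (g1 * bb1 * uu * nn) : ↥(fixG (K := K) m)) : GL chevG2.Idx K)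
        = c2⁻¹ * ((n0 K)⁻¹ * h⁻¹ * n0 K) := by
      simp only [Subgroup.coe_mul, Subgroup.coe_inv]
      rw [e3, huu, hnn']
      group
    rw [e4]
    refine mul_mem (inv_mem (Subgroup.mem_inf.1 hc2).1) (diagonal_le_borel chevG2 ?_)
    exact (conj_monomial_diag_mem chevG2 hG2 (n0 K) n0_mem_mono h⁻¹
      (inv_mem (Subgroup.mem_inf.1 hh).1)).2
  refine ⟨g1 * bb1, uu, by rw [huu]; exact hu, ?_, hx, hy, hz⟩
  intro hu1
  apply hyz
  rw [hy, hz, hu1, mul_one]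

/-- the stabiliser of three points lies in a set of two elements -/
theorem stab_subset (hq : ∀ x : K, x ^ 3 ^ (2 * m + 1) = x) (g u : ↥(fixG (K := K) m))
    (hu : (u : GL chevG2.Idx K) ∈ chevG2.posUnipotent K ⊓ fixG m) (hu1 : u ≠ 1) :
    ((MulAction.stabilizer ↥(fixG (K := K) m)
        ((g : ↥(fixG (K := K) m)) :
          ↥(fixG (K := K) m) ⧸ (chevG2.borelSubgroup K ⊓ fixG m).subgroupOf (fixG m))
      ⊓ MulAction.stabilizer ↥(fixG (K := K) m)
        ((g * ⟨n0 K, n0_mem_fixG m hq⟩ : ↥(fixG (K := K) m)) :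
          ↥(fixG (K := K) m) ⧸ (chevG2.borelSubgroup K ⊓ fixG m).subgroupOf (fixG m))
      ⊓ MulAction.stabilizer ↥(fixG (K := K) m)
        ((g * u * ⟨n0 K, n0_mem_fixG m hq⟩ : ↥(fixG (K := K) m)) :
          ↥(fixG (K := K) m) ⧸ (chevG2.borelSubgroup K ⊓ fixG m).subgroupOf (fixG m))
      : Subgroup ↥(fixG (K := K) m)) : Set ↥(fixG (K := K) m))
      ⊆ {1, g * ⟨hz m (-1 : Kˣ), hz_mem_fixG m hq _⟩ * g⁻¹} := by
  intro k hk
  obtain ⟨hk12, hk3⟩ := Subgroup.mem_inf.1 (SetLike.mem_coe.1 hk)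
  obtain ⟨hk1, hk2⟩ := Subgroup.mem_inf.1 hk12
  rw [mem_stab_iff] at hk1 hk2 hk3
  have hkf : ((g : GL chevG2.Idx K))⁻¹ * (k : GL chevG2.Idx K) * (g : GL chevG2.Idx K)
      ∈ fixG m := mul_mem (mul_mem (inv_mem g.2) k.2) g.2
  have hu1' : (u : GL chevG2.Idx K) ≠ 1 := fun h => hu1 (Subtype.ext h)
  have h2 : (n0 K)⁻¹ * (((g : GL chevG2.Idx K))⁻¹ * (k : GL chevG2.Idx K)
      * (g : GL chevG2.Idx K)) * n0 K ∈ chevG2.borelSubgroup K := by
    have e : (n0 K)⁻¹ * (((g : GL chevG2.Idx K))⁻¹ * (k : GL chevG2.Idx K)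
        * (g : GL chevG2.Idx K)) * n0 K
        = ((g * ⟨n0 K, n0_mem_fixG m hq⟩ : ↥(fixG (K := K) m)) : GL chevG2.Idx K)⁻¹
          * (k : GL chevG2.Idx K)
          * ((g * ⟨n0 K, n0_mem_fixG m hq⟩ : ↥(fixG (K := K) m)) : GL chevG2.Idx K) := by
      simp only [Subgroup.coe_mul]
      group
    rw [e]
    exact hk2
  have h3 : ((u : GL chevG2.Idx K) * n0 K)⁻¹ * (((g : GL chevG2.Idx K))⁻¹
      * (k : GL chevG2.Idx K) * (g : GL chevG2.Idx K)) * ((u : GL chevG2.Idx K) * n0 K)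
      ∈ chevG2.borelSubgroup K := by
    have e : ((u : GL chevG2.Idx K) * n0 K)⁻¹ * (((g : GL chevG2.Idx K))⁻¹
        * (k : GL chevG2.Idx K) * (g : GL chevG2.Idx K)) * ((u : GL chevG2.Idx K) * n0 K)
        = ((g * u * ⟨n0 K, n0_mem_fixG m hq⟩ : ↥(fixG (K := K) m)) : GL chevG2.Idx K)⁻¹
          * (k : GL chevG2.Idx K)
          * ((g * u * ⟨n0 K, n0_mem_fixG m hq⟩ : ↥(fixG (K := K) m)) : GL chevG2.Idx K) := by
      simp only [Subgroup.coe_mul]
      group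
    rw [e]
    exact hk3
  rcases three_stab m hq _ (u : GL chevG2.Idx K) hkf hu hu1' hk1 h2 h3 with h | h
  · left
    apply Subtype.ext
    show (k : GL chevG2.Idx K) = 1
    calc (k : GL chevG2.Idx K)
        = (g : GL chevG2.Idx K) * (((g : GL chevG2.Idx K))⁻¹ * (k : GL chevG2.Idx K)
          * (g : GL chevG2.Idx K)) * ((g : GL chevG2.Idx K))⁻¹ := by group
      _ = 1 := by
        rw [h]
        group
  · right
    rw [Set.mem_singleton_iff]
    apply Subtype.ext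
    simp only [Subgroup.coe_mul, Subgroup.coe_inv]
    rw [← h]
    group

/-- the stabiliser of three points has at most two elements -/
theorem stab_card_le (hq : ∀ x : K, x ^ 3 ^ (2 * m + 1) = x)
    (x y z : ↥(fixG (K := K) m) ⧸ (chevG2.borelSubgroup K ⊓ fixG m).subgroupOf (fixG m))
    (hxy : x ≠ y) (hxz : x ≠ z) (hyz : y ≠ z) :
    Nat.card ↥(MulAction.stabilizer ↥(fixG (K := K) m) x
      ⊓ MulAction.stabilizer ↥(fixG (K := K) m) y
      ⊓ MulAction.stabilizer ↥(fixG (K := K) m) z) ≤ 2 := by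
  obtain ⟨g, u, hu, hu1, rfl, rfl, rfl⟩ := triple_normal_form m hq x y z hxy hxz hyz
  have hsub := stab_subset m hq g u hu hu1
  calc Nat.card ↥(MulAction.stabilizer ↥(fixG (K := K) m) _
      ⊓ MulAction.stabilizer ↥(fixG (K := K) m) _
      ⊓ MulAction.stabilizer ↥(fixG (K := K) m) _)
      = Set.ncard ((MulAction.stabilizer ↥(fixG (K := K) m) _
      ⊓ MulAction.stabilizer ↥(fixG (K := K) m) _
      ⊓ MulAction.stabilizer ↥(fixG (K := K) m) _ : Subgroup ↥(fixG (K := K) m)) :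
        Set ↥(fixG (K := K) m)) := Nat.card_coe_set_eq _
    _ ≤ Set.ncard ({1, g * ⟨hz m (-1 : Kˣ), hz_mem_fixG m hq _⟩ * g⁻¹} :
        Set ↥(fixG (K := K) m)) := Set.ncard_le_ncard hsub (Set.toFinite _)
    _ ≤ 2 := by
      have := Set.ncard_insert_le (1 : ↥(fixG (K := K) m))
        {g * ⟨hz m (-1 : Kˣ), hz_mem_fixG m hq _⟩ * g⁻¹}
      rw [Set.ncard_singleton] at this
      exact this

/-- some stabiliser of three points has exactly two elements -/
theorem exists_stab_card_eq (hq : ∀ x : K, x ^ 3 ^ (2 * m + 1) = x) :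
    ∃ x y z : ↥(fixG (K := K) m) ⧸ (chevG2.borelSubgroup K ⊓ fixG m).subgroupOf (fixG m),
      x ≠ y ∧ x ≠ z ∧ y ≠ z ∧
      Nat.card ↥(MulAction.stabilizer ↥(fixG (K := K) m) x
        ⊓ MulAction.stabilizer ↥(fixG (K := K) m) y
        ⊓ MulAction.stabilizer ↥(fixG (K := K) m) z) = 2 := by
  obtain ⟨nn, hnn⟩ : ∃ nn : ↥(fixG (K := K) m), nn = ⟨n0 K, n0_mem_fixG m hq⟩ := ⟨_, rfl⟩
  have hnn' : (nn : GL chevG2.Idx K) = n0 K := by rw [hnn]
  obtain ⟨uu, huu⟩ : ∃ uu : ↥(fixG (K := K) m), (uu : GL chevG2.Idx K) = al m 0 1 0 :=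
    ⟨⟨al m 0 1 0, al_mem_fixG m hq 0 1 0⟩, rfl⟩
  obtain ⟨jj, hjj⟩ : ∃ jj : ↥(fixG (K := K) m), jj = ⟨hz m (-1 : Kˣ), hz_mem_fixG m hq _⟩ :=
    ⟨_, rfl⟩
  have hjj' : (jj : GL chevG2.Idx K) = hz m (-1 : Kˣ) := by rw [hjj]
  have hal1 : al m (0 : K) 1 0 ≠ 1 := by
    intro h
    exact one_ne_zero ((al_eq_one_iff m (0 : K) 1 0).1 h).2.1
  have halpos : al m (0 : K) 1 0 ∈ chevG2.posUnipotent K := al_mem_pos m 0 1 0
  have huU : (uu : GL chevG2.Idx K) ∈ chevG2.posUnipotent K ⊓ fixG m := by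
    rw [huu]
    exact Subgroup.mem_inf.2 ⟨halpos, al_mem_fixG m hq 0 1 0⟩
  have hu1 : uu ≠ 1 := by
    intro h
    apply hal1
    rw [← huu, h]
    rfl
  have hB : ∀ a : ↥(fixG (K := K) m),
      a ∈ (chevG2.borelSubgroup K ⊓ fixG m).subgroupOf (fixG m)
        ↔ (a : GL chevG2.Idx K) ∈ chevG2.borelSubgroup K ⊓ fixG m :=
    fun a => Subgroup.mem_subgroupOf
  have hjB : hz m (-1 : Kˣ) ∈ chevG2.borelSubgroup K :=
    diagonal_le_borel chevG2 (hz_mem_diag m _)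
  have hjn : (n0 K)⁻¹ * hz m (-1 : Kˣ) * n0 K ∈ chevG2.borelSubgroup K :=
    diagonal_le_borel chevG2
      (conj_monomial_diag_mem chevG2 hG2 (n0 K) n0_mem_mono _ (hz_mem_diag m _)).2
  refine ⟨((1 : ↥(fixG (K := K) m)) : ↥(fixG (K := K) m) ⧸ _),
    ((1 * nn : ↥(fixG (K := K) m)) : ↥(fixG (K := K) m) ⧸ _),
    ((1 * uu * nn : ↥(fixG (K := K) m)) : ↥(fixG (K := K) m) ⧸ _), ?_, ?_, ?_, ?_⟩
  · intro h
    rw [QuotientGroup.eq, hB] at h
    have h' := (Subgroup.mem_inf.1 h).1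
    simp only [Subgroup.coe_mul, Subgroup.coe_one, inv_one, one_mul, hnn'] at h'
    exact n0_not_mem_borel h'
  · intro h
    rw [QuotientGroup.eq, hB] at h
    have h' := (Subgroup.mem_inf.1 h).1
    simp only [Subgroup.coe_mul, Subgroup.coe_one, inv_one, one_mul, hnn', huu] at h'
    apply n0_not_mem_borel (K := K)
    have : n0 K = (al m (0 : K) 1 0)⁻¹ * (al m (0 : K) 1 0 * n0 K) := by group
    rw [this]
    exact mul_mem (inv_mem (pos_le_borel chevG2 halpos)) h'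
  · intro h
    rw [QuotientGroup.eq, hB] at h
    have h' := (Subgroup.mem_inf.1 h).1
    simp only [Subgroup.coe_mul, Subgroup.coe_inv, Subgroup.coe_one, one_mul, hnn', huu] at h'
    have h2 : n0 K * al m (0 : K) 1 0 * n0 K ∈ chevG2.borelSubgroup K := by
      have e : n0 K * al m (0 : K) 1 0 * n0 K
          = (n0 K * n0 K) * ((n0 K)⁻¹ * (al m (0 : K) 1 0 * n0 K)) := by group
      rw [e]
      exact mul_mem (diagonal_le_borel chevG2 n0_sq_mem) h'
    exact conj_ne_aux (K := K) _ halpos hal1 h2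
  · have hsub := stab_subset m hq 1 uu huU hu1
    rw [← hnn, ← hjj] at hsub
    have hset : ((MulAction.stabilizer ↥(fixG (K := K) m)
          (((1 : ↥(fixG (K := K) m)) : ↥(fixG (K := K) m)) :
            ↥(fixG (K := K) m) ⧸ (chevG2.borelSubgroup K ⊓ fixG m).subgroupOf (fixG m))
        ⊓ MulAction.stabilizer ↥(fixG (K := K) m)
          ((1 * nn : ↥(fixG (K := K) m)) :
            ↥(fixG (K := K) m) ⧸ (chevG2.borelSubgroup K ⊓ fixG m).subgroupOf (fixG m))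
        ⊓ MulAction.stabilizer ↥(fixG (K := K) m)
          ((1 * uu * nn : ↥(fixG (K := K) m)) :
            ↥(fixG (K := K) m) ⧸ (chevG2.borelSubgroup K ⊓ fixG m).subgroupOf (fixG m))
        : Subgroup ↥(fixG (K := K) m)) : Set ↥(fixG (K := K) m)) = {1, jj} := by
      apply Set.Subset.antisymm
      · intro k hk
        have := hsub hk
        simpa using this
      · rintro k (rfl | rfl)
        · exact one_mem _
        · refine Subgroup.mem_inf.2 ⟨Subgroup.mem_inf.2 ⟨?_, ?_⟩, ?_⟩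
          · rw [mem_stab_iff]
            simp only [Subgroup.coe_one, inv_one, one_mul, mul_one, hjj']
            exact hjB
          · rw [mem_stab_iff]
            simp only [Subgroup.coe_mul, Subgroup.coe_one, one_mul, hnn', hjj']
            exact hjn
          · rw [mem_stab_iff]
            simp only [Subgroup.coe_mul, Subgroup.coe_one, one_mul, hnn', hjj', huu]
            have e : (al m (0 : K) 1 0 * n0 K)⁻¹ * hz m (-1 : Kˣ) * (al m (0 : K) 1 0 * n0 K)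
                = (n0 K)⁻¹ * hz m (-1 : Kˣ) * n0 K := by
              have hc := hz_neg_one_comm (K := K) m hq
              calc (al m (0 : K) 1 0 * n0 K)⁻¹ * hz m (-1 : Kˣ) * (al m (0 : K) 1 0 * n0 K)
                  = (n0 K)⁻¹ * (al m (0 : K) 1 0)⁻¹ * (hz m (-1 : Kˣ) * al m (0 : K) 1 0)
                    * n0 K := by group
                _ = (n0 K)⁻¹ * (al m (0 : K) 1 0)⁻¹ * (al m (0 : K) 1 0 * hz m (-1 : Kˣ))
                    * n0 K := by rw [hc]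
                _ = (n0 K)⁻¹ * hz m (-1 : Kˣ) * n0 K := by group
            rw [e]
            exact hjn
    have hne : (1 : ↥(fixG (K := K) m)) ≠ jj := by
      intro h
      have h' : hz m (1 : Kˣ) = hz m (-1 : Kˣ) := by
        rw [map_one, ← hjj', ← h]
        rfl
      have h2 := hz_injective m h'
      have h3 : (1 : K) = -1 := by
        have := congrArg Units.val h2
        simpa using this
      have h4 := three_zero' (K := K)
      have : (1 : K) = 0 := by linear_combination h4 - h3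
      exact one_ne_zero this
    calc Nat.card ↥(MulAction.stabilizer ↥(fixG (K := K) m) _
        ⊓ MulAction.stabilizer ↥(fixG (K := K) m) _
        ⊓ MulAction.stabilizer ↥(fixG (K := K) m) _)
        = Set.ncard ((MulAction.stabilizer ↥(fixG (K := K) m) _
        ⊓ MulAction.stabilizer ↥(fixG (K := K) m) _
        ⊓ MulAction.stabilizer ↥(fixG (K := K) m) _ : Subgroup ↥(fixG (K := K) m)) :
          Set ↥(fixG (K := K) m)) := Nat.card_coe_set_eq _
      _ = 2 := by rw [hset, Set.ncard_pair hne]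

end Cfsg.Agent.Lib.Helper5.Ree
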