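import Mathlib
import Cfsg.Prelude.Def_ChevStructure
import Cfsg.Prelude.Def_LieTwisted
import Cfsg.Agent.Lib.Helper5.Ree.TwoGen
import Cfsg.Agent.Lib.Helper5.ChevNormal

set_option autoImplicit false

/-!
The Ree groups `²G₂(3^(2m+1))`, `m ≥ 1`, are generated by two elements: `h(ζ)` and `α(1,0,0) n₀`.
-/

namespace Cfsg.Agent.Lib.Helper5.Ree

open Cfsg Cfsg.Lie Cfsg.Agent.Lib.Helper5.ChevSym Cfsg.Agent.Lib.Helper5.ChevSymP
  Cfsg.Agent.Lib.Helper5.ChevStruct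

variable {K : Type*} [Field K] [CharP K 3] (m : ℕ) [Fintype K]

/-- the group of fixed points is generated by two elements -/
theorem two_generated_fixG (hq : ∀ x : K, x ^ 3 ^ (2 * m + 1) = x)
    (hcard : Fintype.card K = 3 ^ (2 * m + 1)) (hm : 1 ≤ m) :
    ∃ a b : ↥(fixG (K := K) m),
      Subgroup.closure ({a, b} : Set ↥(fixG (K := K) m)) = ⊤ := by
  obtain ⟨ζ, hζ⟩ := IsCyclic.exists_generator (α := Kˣ)
  have hneg1 : (-1 : Kˣ) ≠ 1 := by
    intro h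
    have h' : (-1 : K) = 1 := by simpa using congrArg Units.val h
    have h3 := three_zero' (K := K)
    have : (1 : K) = 0 := by linear_combination h3 + h'
    exact one_ne_zero this
  have hζ1 : ζ ≠ 1 := by
    rintro rfl
    have := hζ (-1)
    rw [Subgroup.zpowers_one_eq_bot, Subgroup.mem_bot] at this
    exact hneg1 this
  have haf : hz m ζ ∈ fixG m := hz_mem_fixG m hq ζ
  have huf : al m (1 : K) 0 0 ∈ fixG m := al_mem_fixG m hq 1 0 0
  have hnf : n0 K ∈ fixG m := n0_mem_fixG m hq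
  refine ⟨⟨hz m ζ, haf⟩, ⟨al m 1 0 0 * n0 K, mul_mem huf hnf⟩, ?_⟩
  obtain ⟨L, hL⟩ : ∃ L : Subgroup (GL chevG2.Idx K),
      L = Subgroup.closure {hz m ζ, al m (1 : K) 0 0 * n0 K} := ⟨_, rfl⟩
  have haL : hz m ζ ∈ L := by
    rw [hL]
    exact Subgroup.subset_closure (by simp)
  have hbL : al m (1 : K) 0 0 * n0 K ∈ L := by
    rw [hL]
    exact Subgroup.subset_closure (by simp)
  have hH : ∀ z : Kˣ, hz m z ∈ L := by
    intro z
    obtain ⟨k, hk⟩ := Subgroup.mem_zpowers_iff.1 (hζ z)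
    rw [← hk, map_zpow]
    exact L.zpow_mem haL k
  -- `a' = n₀ a n₀⁻¹`
  have ha' : n0 K * hz m ζ * (n0 K)⁻¹ ∈ chevG2.diagonalSubgroup K ⊓ fixG m :=
    Subgroup.mem_inf.2
      ⟨(conj_monomial_diag_mem chevG2 hG2 (n0 K) n0_mem_mono _ (hz_mem_diag m ζ)).1,
        mul_mem (mul_mem hnf haf) (inv_mem hnf)⟩
  obtain ⟨z', hz'⟩ := (diag_fix_iff m hq _).1 ha'
  have hz'1 : z' ≠ 1 := by
    rintro rfl
    rw [map_one] at hz'
    have h1 : hz m ζ = 1 := by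
      calc hz m ζ = (n0 K)⁻¹ * (n0 K * hz m ζ * (n0 K)⁻¹) * n0 K := by group
        _ = 1 := by
          rw [hz']
          group
    exact hζ1 (hz_injective m (h1.trans (map_one _).symm))
  -- `c = u a' u⁻¹ a'⁻¹ ∈ L`
  have hc : al m (1 : K) 0 0 * hz m z' * (al m (1 : K) 0 0)⁻¹ * (hz m z')⁻¹ ∈ L := by
    have h1 : (al m (1 : K) 0 0 * n0 K) * hz m ζ * (al m (1 : K) 0 0 * n0 K)⁻¹ ∈ L :=
      mul_mem (mul_mem hbL haL) (inv_mem hbL)
    have e : (al m (1 : K) 0 0 * n0 K) * hz m ζ * (al m (1 : K) 0 0 * n0 K)⁻¹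
        = al m (1 : K) 0 0 * (n0 K * hz m ζ * (n0 K)⁻¹) * (al m (1 : K) 0 0)⁻¹ := by group
    rw [e, hz'] at h1
    exact mul_mem h1 (inv_mem (hH z'))
  have hcU : al m (1 : K) 0 0 * hz m z' * (al m (1 : K) 0 0)⁻¹ * (hz m z')⁻¹
      ∈ chevG2.posUnipotent K ⊓ fixG m := by
    have e : al m (1 : K) 0 0 * hz m z' * (al m (1 : K) 0 0)⁻¹ * (hz m z')⁻¹
        = al m (1 : K) 0 0 * (hz m z' * al m (1 : K) 0 0 * (hz m z')⁻¹)⁻¹ := by group
    rw [e, hz_conj_al m hq]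
    exact Subgroup.mem_inf.2 ⟨mul_mem (al_mem_pos m _ _ _) (inv_mem (al_mem_pos m _ _ _)),
      mul_mem (al_mem_fixG m hq _ _ _) (inv_mem (al_mem_fixG m hq _ _ _))⟩
  obtain ⟨t1, u1, v1, e1⟩ := (pos_fix_iff m hq _).1 hcU
  have e1' : al m (1 : K) 0 0 * hz m z' * (al m (1 : K) 0 0)⁻¹ * (hz m z')⁻¹
      = al m t1 u1 v1 := e1
  have e2 : al m t1 u1 v1 * (hz m z' * al m (1 : K) 0 0 * (hz m z')⁻¹) = al m (1 : K) 0 0 := by
    rw [← e1']
    group
  rw [hz_conj_al m hq, al_mul m hq] at e2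
  obtain ⟨h2, -, -⟩ := al_injective m _ _ _ _ _ _ e2
  have ht1 : t1 ≠ 0 := by
    intro h0
    rw [h0, zero_add, mul_one] at h2
    exact chi6_ne_one m hq z' hz'1 h2
  rw [e1'] at hc
  have hU : ∀ t u v : K, al m t u v ∈ L := gen_all m L hq hcard hm hH t1 u1 v1 ht1 hc
  -- `n₀ ∈ L`
  have hnL : n0 K ∈ L := by
    have : n0 K = (al m (1 : K) 0 0)⁻¹ * (al m (1 : K) 0 0 * n0 K) := by group
    rw [this]
    exact mul_mem (inv_mem (hU 1 0 0)) hbL
  -- the generators in `V`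
  have hV : ∀ t u v : K, wordGL chevG2 hG2 (reeWordV (3 ^ m) t u v) ∈ L := by
    intro t u v
    have hneg := reeV_mem_neg m t u v
    have hfix := reeV_mem_fixG m hq t u v
    rw [← (conj_pos_eq_neg' (K := K) chevG2 hG2 w0 checkW0_w0).2] at hneg
    obtain ⟨x, hx, e⟩ := Subgroup.mem_map.1 hneg
    have e' : n0 K * x * (n0 K)⁻¹ = wordGL chevG2 hG2 (reeWordV (3 ^ m) t u v) := e
    have hxf : x ∈ fixG m := by
      have : x = (n0 K)⁻¹ * (n0 K * x * (n0 K)⁻¹) * n0 K := by group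
      rw [this, e']
      exact mul_mem (mul_mem (inv_mem hnf) hfix) hnf
    obtain ⟨t', u', v', ex⟩ := (pos_fix_iff m hq x).1 (Subgroup.mem_inf.2 ⟨hx, hxf⟩)
    have ex' : x = al m t' u' v' := ex
    rw [← e', ex']
    exact mul_mem (mul_mem hnL (hU _ _ _)) (inv_mem hnL)
  have hle : fixG (K := K) m ≤ L := by
    have h : twistedG2 K (3 ^ m) ≤ L := by
      unfold twistedG2 ChevalleyDatum.genSubgroup
      rw [Subgroup.closure_le]
      rintro g ⟨w, ⟨t, u, v, hw | hw⟩, hg⟩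
      · rw [mem_of_val_eq_wordMat hg, hw]
        exact hU t u v
      · rw [mem_of_val_eq_wordMat hg, hw]
        exact hV t u v
    rw [twisted_eq_fixG m hq] at h
    exact h
  -- transfer to the subgroup
  rw [eq_top_iff]
  intro y _
  have hy : (y : GL chevG2.Idx K) ∈ L := hle y.2
  have hmap : L = (Subgroup.closure ({⟨hz m ζ, haf⟩, ⟨al m 1 0 0 * n0 K, mul_mem huf hnf⟩} :
      Set ↥(fixG (K := K) m))).map (fixG m).subtype := by
    rw [MonoidHom.map_closure, Set.image_pair, hL]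
    rfl
  rw [hmap] at hy
  obtain ⟨y', hy', e⟩ := Subgroup.mem_map.1 hy
  have : y' = y := Subtype.ext e
  rw [← this]
  exact hy'

end Cfsg.Agent.Lib.Helper5.Ree
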